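import Mathlib
import Cfsg.Agent.Classical.SLBasic
import Cfsg.Agent.Classical.SLGen

/-!
Sylow subgroups in the characteristic for `GL_2` and `SL_2`; the order of `GL_n`'s Sylow subgroup.
-/

set_option autoImplicit false
set_option linter.unusedSectionVars false
set_option linter.unnecessarySeqFocus false

namespace CfsgLib.ClassicalGroups

open Matrix
open scoped Pointwise

variable {F : Type*} [Field F]

/-- Upper unitriangular matrices in `GL_2`. -/
def glUni : Subgroup (GL (Fin 2) F) where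
  carrier := {g | g.val 0 0 = 1 ∧ g.val 1 0 = 0 ∧ g.val 1 1 = 1}
  one_mem' := by simp
  mul_mem' {a b} ha hb := by
    obtain ⟨a0, a1, a2⟩ := ha
    obtain ⟨b0, b1, b2⟩ := hb
    simp [Units.val_mul, Matrix.mul_apply, Fin.sum_univ_two, a0, a1, a2, b0, b1, b2]
  inv_mem' {a} ha := by
    obtain ⟨a0, a1, a2⟩ := ha
    have h : ∀ i j, (a.val * (a⁻¹).val) i j = (1 : Matrix (Fin 2) (Fin 2) F) i j := fun i j => by
      rw [← Units.val_mul, mul_inv_cancel]; rfl
    have h10 := h 1 0
    have h11 := h 1 1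
    have h00 := h 0 0
    simp [-Matrix.coe_units_inv, Matrix.mul_apply, Fin.sum_univ_two, a0, a1, a2] at h10 h11 h00
    refine ⟨?_, h10, h11⟩
    rw [h10, mul_zero, add_zero] at h00
    exact h00

/-- The upper triangular Borel subgroup of `GL_2`. -/
def glBorel : Subgroup (GL (Fin 2) F) where
  carrier := {g | g.val 1 0 = 0}
  one_mem' := by simp
  mul_mem' {a b} (ha : a.val 1 0 = 0) (hb : b.val 1 0 = 0) := by
    simp [Units.val_mul, Matrix.mul_apply, Fin.sum_univ_two, ha, hb]
  inv_mem' {a} (ha : a.val 1 0 = 0) := by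
    have h : (a.val * (a⁻¹).val) 1 0 = (1 : Matrix (Fin 2) (Fin 2) F) 1 0 := by
      rw [← Units.val_mul, mul_inv_cancel]; rfl
    simp [-Matrix.coe_units_inv, Matrix.mul_apply, Fin.sum_univ_two, ha] at h
    have hdet := GeneralLinearGroup.det_ne_zero a
    rw [Matrix.det_fin_two, ha] at hdet
    rcases h with h | h
    · simp [h] at hdet
    · exact h

theorem mem_glUni {g : GL (Fin 2) F} :
    g ∈ glUni ↔ g.val 0 0 = 1 ∧ g.val 1 0 = 0 ∧ g.val 1 1 = 1 := Iff.rfl

theorem mem_glBorel {g : GL (Fin 2) F} : g ∈ glBorel ↔ g.val 1 0 = 0 := Iff.rfl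

/-- The element `[[1, t], [0, 1]]`. -/
def glX (t : F) : GL (Fin 2) F :=
  GeneralLinearGroup.mkOfDetNeZero !![1, t; 0, 1] (by simp [Matrix.det_fin_two])

theorem glX_val (t : F) : (glX t).val = !![1, t; 0, 1] := rfl

theorem glX_mem (t : F) : glX t ∈ glUni := by simp [mem_glUni, glX_val]

theorem glUni_eq_glX {g : GL (Fin 2) F} (hg : g ∈ glUni) : g = glX (g.val 0 1) := by
  obtain ⟨h0, h1, h2⟩ := hg
  apply Units.ext
  rw [glX_val]
  ext i j
  fin_cases i <;> fin_cases j <;> simp [h0, h1, h2]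

/-- Conjugation of an element of `glUni` by `g` stays in `glUni` only for triangular `g`. -/
theorem mem_glBorel_of_conj {g x : GL (Fin 2) F} (hx : x ∈ glUni) (hx1 : x ≠ 1)
    (h : g * x * g⁻¹ ∈ glUni) : g ∈ glBorel := by
  have ht : x.val 0 1 ≠ 0 := fun h0 => hx1 (by
    rw [glUni_eq_glX hx, h0]; apply Units.ext; rw [glX_val, Units.val_one, Matrix.one_fin_two])
  have he : g.val * x.val = (g * x * g⁻¹).val * g.val := by
    rw [← Units.val_mul, ← Units.val_mul, inv_mul_cancel_right]
  obtain ⟨_, hy1, hy2⟩ := h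
  obtain ⟨hx0, _, hx2⟩ := hx
  have h11 := congrFun (congrFun he 1) 1
  simp only [Matrix.mul_apply, Fin.sum_univ_two] at h11
  rw [hx2, hy1, hy2] at h11
  simp at h11
  exact h11.resolve_right ht

theorem conj_mem_glUni {g x : GL (Fin 2) F} (hg : g ∈ glBorel) (hx : x ∈ glUni) :
    g * x * g⁻¹ ∈ glUni := by
  have hg0 : g.val 1 0 = 0 := hg
  have hdet := GeneralLinearGroup.det_ne_zero g
  rw [Matrix.det_fin_two, hg0] at hdet
  have h11 : g.val 1 1 ≠ 0 := fun h => hdet (by rw [h]; ring)
  have : g * x = glX (g.val 0 0 * x.val 0 1 / g.val 1 1) * g := by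
    obtain ⟨hx0, hx1, hx2⟩ := hx
    apply Units.ext
    rw [Units.val_mul, Units.val_mul, glX_val]
    ext i j
    fin_cases i <;> fin_cases j <;>
      simp [Matrix.mul_apply, Fin.sum_univ_two, hx0, hx1, hx2, hg0] <;> field_simp <;> ring
  rw [this, mul_inv_cancel_right]
  exact glX_mem _

theorem normalizer_glUni : Subgroup.normalizer ((glUni : Subgroup (GL (Fin 2) F)) : Set (GL (Fin 2) F)) = glBorel := by
  ext g
  rw [Subgroup.mem_set_normalizer_iff]
  constructor
  · intro h
    refine mem_glBorel_of_conj (glX_mem 1) (fun h1 => ?_) ((h (glX 1)).1 (glX_mem 1))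
    have := congrArg (fun a : GL (Fin 2) F => a.val 0 1) h1
    simp [glX_val] at this
  · intro hg x
    refine ⟨fun hx => conj_mem_glUni hg hx, fun hx => ?_⟩
    have := conj_mem_glUni (inv_mem hg) hx
    simpa [mul_assoc] using this

/-- `glUni ≃ F`. -/
def glUniEquiv : (glUni : Subgroup (GL (Fin 2) F)) ≃ F where
  toFun g := g.1.val 0 1
  invFun t := ⟨glX t, glX_mem t⟩
  left_inv g := Subtype.ext (glUni_eq_glX g.2).symm
  right_inv t := by simp [glX_val]

theorem exists_glBorel_of_apply (a d : Fˣ) (b : F) :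
    ∃ g : (glBorel : Subgroup (GL (Fin 2) F)), g.1.val = !![(a : F), b; 0, (d : F)] :=
  ⟨⟨GeneralLinearGroup.mkOfDetNeZero !![(a : F), b; 0, (d : F)] (by simp [Matrix.det_fin_two]),
    show (!![(a : F), b; 0, (d : F)] : Matrix (Fin 2) (Fin 2) F) 1 0 = 0 by simp⟩, rfl⟩

/-- The centraliser of a non-trivial element of `glUni`. -/
theorem mem_centralizer_glX {t : F} (ht : t ≠ 0) {g : GL (Fin 2) F} :
    g * glX t = glX t * g ↔ g.val 1 0 = 0 ∧ g.val 0 0 = g.val 1 1 := by
  rw [Units.ext_iff, Units.val_mul, Units.val_mul, glX_val]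
  constructor
  · intro h
    have h00 := congrFun (congrFun h 0) 0
    have h01 := congrFun (congrFun h 0) 1
    simp [Matrix.mul_apply, Fin.sum_univ_two] at h00 h01
    have hc : g.val 1 0 = 0 := by simpa [ht] using h00
    refine ⟨hc, mul_left_cancel₀ ht ?_⟩
    linear_combination h01
  · rintro ⟨h1, h2⟩
    ext i j
    fin_cases i <;> fin_cases j <;> simp [Matrix.mul_apply, Fin.sum_univ_two, h1, h2] <;> ring

section finite
variable [Fintype F]

theorem card_glUni : Nat.card (glUni : Subgroup (GL (Fin 2) F)) = Fintype.card F := by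
  rw [Nat.card_congr glUniEquiv, Nat.card_eq_fintype_card]

theorem card_glBorel :
    Nat.card (glBorel : Subgroup (GL (Fin 2) F)) = Fintype.card F * (Fintype.card F - 1) ^ 2 := by
  choose G hG using exists_glBorel_of_apply (F := F)
  rw [← Cfsg.Agent.Classical.natCard_units_field, ← Nat.card_eq_fintype_card, pow_two,
    ← Nat.card_prod, ← Nat.card_prod]
  refine (Nat.card_congr (Equiv.ofBijective (fun p : F × Fˣ × Fˣ => G p.2.1 p.2.2 p.1) ⟨?_, ?_⟩)).symm
  · intro p r h
    have h' : (!![(p.2.1 : F), p.1; 0, (p.2.2 : F)] : Matrix (Fin 2) (Fin 2) F) =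
        !![(r.2.1 : F), r.1; 0, (r.2.2 : F)] := by
      rw [← hG, ← hG]; exact congrArg (fun g => g.1.val) h
    have h00 := congrFun (congrFun h' 0) 0
    have h01 := congrFun (congrFun h' 0) 1
    have h11 := congrFun (congrFun h' 1) 1
    simp at h00 h01 h11
    exact Prod.ext h01 (Prod.ext (Units.ext h00) (Units.ext h11))
  · rintro ⟨g, hg⟩
    have hg0 : g.val 1 0 = 0 := hg
    have hdet := GeneralLinearGroup.det_ne_zero g
    rw [Matrix.det_fin_two, hg0, mul_zero, sub_zero] at hdet
    refine ⟨(g.val 0 1, Units.mk0 _ (left_ne_zero_of_mul hdet), Units.mk0 _ (right_ne_zero_of_mul hdet)),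
      Subtype.ext (Units.ext ?_)⟩
    rw [hG]
    ext i j
    fin_cases i <;> fin_cases j <;> simp [hg0]

theorem card_gl_two :
    Nat.card (GL (Fin 2) F) = Fintype.card F * (Fintype.card F - 1) ^ 2 * (Fintype.card F + 1) := by
  rw [Matrix.card_GL_field, Fin.prod_univ_two]
  simp only [Fin.val_zero, Fin.val_one, pow_zero, pow_one]
  obtain ⟨r, hr⟩ := Nat.exists_eq_add_of_le' (Fintype.card_pos (α := F))
  rw [hr, Nat.add_sub_cancel, show (r + 1) ^ 2 - 1 = r * (r + 2) from
      Nat.sub_eq_of_eq_add (by ring),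
    show (r + 1) ^ 2 - (r + 1) = r * (r + 1) from Nat.sub_eq_of_eq_add (by ring)]
  ring

theorem factorization_card_gl (p : ℕ) [Fact p.Prime] [CharP F p] (n : ℕ) :
    p ^ (Nat.card (GL (Fin n) F)).factorization p = Fintype.card F ^ (n * (n - 1) / 2) := by
  obtain ⟨k, hp, hk⟩ := FiniteField.card F p
  have hq : 2 ≤ Fintype.card F := Fintype.one_lt_card
  have hsplit : Nat.card (GL (Fin n) F) =
      Fintype.card F ^ (n * (n - 1) / 2) * ∏ i : Fin n, (Fintype.card F ^ (n - i.val) - 1) := by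
    rw [Matrix.card_GL_field, ← Finset.sum_range_id, ← Fin.sum_univ_eq_sum_range (fun i => i),
      ← Finset.prod_pow_eq_pow_sum, ← Finset.prod_mul_distrib]
    refine Finset.prod_congr rfl fun i _ => ?_
    rw [Nat.mul_sub, mul_one, ← pow_add, Nat.add_sub_cancel' i.2.le]
  have hne : ∀ i : Fin n, ¬ p ∣ Fintype.card F ^ (n - i.val) - 1 := by
    intro i hdvd
    have h1 : p ∣ Fintype.card F ^ (n - i.val) :=
      dvd_pow (hk ▸ dvd_pow_self p k.ne_zero) (by omega)
    have h2 := Nat.dvd_sub h1 hdvd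
    rw [Nat.sub_sub_self (Nat.one_le_pow _ _ (by omega))] at h2
    exact hp.not_dvd_one h2
  have hnd : ¬ p ∣ ∏ i : Fin n, (Fintype.card F ^ (n - i.val) - 1) := by
    rw [Prime.dvd_finsetProd_iff hp.prime]
    rintro ⟨i, -, hi⟩
    exact hne i hi
  rw [hsplit, Nat.factorization_mul (pow_ne_zero _ (by omega)) (fun h0 => hnd (by rw [h0]; exact dvd_zero p)),
    Finsupp.add_apply, Nat.factorization_eq_zero_of_not_dvd hnd, add_zero, hk, ← pow_mul,
    hp.factorization_pow, Finsupp.single_eq_same]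

variable (p : ℕ) [Fact p.Prime] [CharP F p]

/-- `glUni` as a Sylow subgroup. -/
noncomputable def glUniSylow : Sylow p (GL (Fin 2) F) :=
  Sylow.ofCard glUni (by rw [card_glUni, factorization_card_gl]; simp)

theorem glUniSylow_coe : ((glUniSylow p : Sylow p (GL (Fin 2) F)) : Subgroup (GL (Fin 2) F)) = glUni := rfl

theorem index_glBorel : (glBorel : Subgroup (GL (Fin 2) F)).index = Fintype.card F + 1 := by
  have h := (glBorel : Subgroup (GL (Fin 2) F)).card_mul_index
  rw [card_glBorel, card_gl_two] at h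
  have hq : 2 ≤ Fintype.card F := Fintype.one_lt_card
  refine Nat.eq_of_mul_eq_mul_left (Nat.mul_pos (by omega) (pow_pos (show 0 < Fintype.card F - 1 by omega) 2)) h

theorem card_sylow_gl_two : Nat.card (Sylow p (GL (Fin 2) F)) = Fintype.card F + 1 := by
  have h : Subgroup.normalizer ((glUniSylow p : Sylow p (GL (Fin 2) F)) : Set (GL (Fin 2) F)) = glBorel :=
    normalizer_glUni
  rw [(glUniSylow p).card_eq_index_normalizer, h, index_glBorel]

theorem card_normalizer_sylow_gl_two (P : Sylow p (GL (Fin 2) F)) :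
    Nat.card (Subgroup.normalizer ((P : Subgroup (GL (Fin 2) F)) : Set (GL (Fin 2) F))) =
      Fintype.card F * (Fintype.card F - 1) ^ 2 := by
  have h : Nat.card (Sylow p (GL (Fin 2) F)) =
      (Subgroup.normalizer ((P : Subgroup (GL (Fin 2) F)) : Set (GL (Fin 2) F))).index :=
    P.card_eq_index_normalizer
  have h2 := (Subgroup.normalizer ((P : Subgroup (GL (Fin 2) F)) : Set (GL (Fin 2) F))).card_mul_index
  rw [← h, card_sylow_gl_two, card_gl_two] at h2
  exact Nat.eq_of_mul_eq_mul_right (Nat.succ_pos _) h2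

theorem exists_conj_glUni (P : Sylow p (GL (Fin 2) F)) :
    ∃ g : GL (Fin 2) F, ∀ x, x ∈ P ↔ g⁻¹ * x * g ∈ glUni := by
  obtain ⟨g, rfl⟩ := MulAction.exists_smul_eq (GL (Fin 2) F) (glUniSylow p) P
  refine ⟨g, fun x => ?_⟩
  show x ∈ ((g • glUniSylow p : Sylow p (GL (Fin 2) F)) : Subgroup (GL (Fin 2) F)) ↔ _
  rw [Sylow.coe_subgroup_smul, Subgroup.mem_pointwise_smul_iff_inv_smul_mem, glUniSylow_coe,
    MulAut.smul_def, MulAut.inv_apply, MulAut.conj_symm_apply]

theorem sylow_gl_two_disjoint (P Q : Sylow p (GL (Fin 2) F)) (h : P ≠ Q) :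
    (P : Subgroup (GL (Fin 2) F)) ⊓ Q = ⊥ := by
  rw [Subgroup.eq_bot_iff_forall]
  rintro x ⟨hxP, hxQ⟩
  by_contra hx1
  obtain ⟨g, hg⟩ := exists_conj_glUni p P
  obtain ⟨k, hk⟩ := exists_conj_glUni p Q
  have h1 := (hg x).1 hxP
  have h2 := (hk x).1 hxQ
  have hb : k⁻¹ * g ∈ glBorel := by
    refine mem_glBorel_of_conj h1 (fun e => hx1 ?_) ?_
    · calc x = g * (g⁻¹ * x * g) * g⁻¹ := by group
        _ = 1 := by rw [e]; group
    · convert h2 using 1; group
  refine h (Sylow.ext (SetLike.ext fun y => ?_))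
  show y ∈ P ↔ y ∈ Q
  rw [hg, hk]
  constructor
  · intro hy
    have := conj_mem_glUni hb hy
    convert this using 1; group
  · intro hy
    have := conj_mem_glUni (inv_mem hb) hy
    convert this using 1; group

theorem card_centralizer_sylow_gl_two (P : Sylow p (GL (Fin 2) F)) (a : GL (Fin 2) F) (ha : a ∈ P)
    (ha1 : a ≠ 1) :
    Nat.card (Subgroup.centralizer ({a} : Set (GL (Fin 2) F))) =
      Fintype.card F * (Fintype.card F - 1) := by
  obtain ⟨g, hg⟩ := exists_conj_glUni p P
  have hu := (hg a).1 ha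
  set t := (g⁻¹ * a * g).val 0 1 with ht
  have he : g⁻¹ * a * g = glX t := glUni_eq_glX hu
  have hae : a = g * glX t * g⁻¹ := by rw [← he]; group
  have ht0 : t ≠ 0 := fun h => ha1 (by
    rw [hae, h, show glX (0 : F) = 1 from Units.ext (by rw [glX_val, Units.val_one, Matrix.one_fin_two])]
    group)
  have hmem : ∀ z, z ∈ Subgroup.centralizer ({a} : Set (GL (Fin 2) F)) ↔
      (g⁻¹ * z * g) * glX t = glX t * (g⁻¹ * z * g) := by
    intro z
    rw [Subgroup.mem_centralizer_singleton_iff, hae]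
    constructor
    · intro h
      calc g⁻¹ * z * g * glX t = g⁻¹ * (z * (g * glX t * g⁻¹)) * g := by group
        _ = g⁻¹ * (g * glX t * g⁻¹ * z) * g := by rw [h]
        _ = glX t * (g⁻¹ * z * g) := by group
    · intro h
      calc z * (g * glX t * g⁻¹) = g * ((g⁻¹ * z * g) * glX t) * g⁻¹ := by group
        _ = g * (glX t * (g⁻¹ * z * g)) * g⁻¹ := by rw [h]
        _ = g * glX t * g⁻¹ * z := by group
  have hM : ∀ r : F × Fˣ, ∃ z : Subgroup.centralizer ({a} : Set (GL (Fin 2) F)),
      (g⁻¹ * z.1 * g).val = !![(r.2 : F), r.1; 0, (r.2 : F)] := by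
    intro r
    let m : GL (Fin 2) F := GeneralLinearGroup.mkOfDetNeZero !![(r.2 : F), r.1; 0, (r.2 : F)] (by simp [Matrix.det_fin_two])
    have hmv : m.val = !![(r.2 : F), r.1; 0, (r.2 : F)] := rfl
    have hm : g⁻¹ * (g * m * g⁻¹) * g = m := by group
    refine ⟨⟨g * m * g⁻¹, (hmem _).2 ?_⟩, by rw [hm]; exact hmv⟩
    rw [hm, mem_centralizer_glX ht0]
    simp [hmv]
  choose Z hZ using hM
  rw [← Nat.card_eq_fintype_card, show Nat.card F - 1 = Nat.card Fˣ by rw [Nat.card_units], ← Nat.card_prod]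
  refine (Nat.card_congr (Equiv.ofBijective Z ⟨?_, ?_⟩)).symm
  · intro r s h
    have h' := hZ r
    rw [h, hZ s] at h'
    replace h' := h'.symm
    have h00 := congrFun (congrFun h' 0) 0
    have h01 := congrFun (congrFun h' 0) 1
    simp at h00 h01
    exact Prod.ext h01 (Units.ext h00)
  · rintro ⟨z, hz⟩
    obtain ⟨h10, h00⟩ := (mem_centralizer_glX ht0).1 ((hmem z).1 hz)
    have hdet := GeneralLinearGroup.det_ne_zero (g⁻¹ * z * g)
    rw [Matrix.det_fin_two, h10, mul_zero, sub_zero] at hdet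
    refine ⟨((g⁻¹ * z * g).val 0 1, Units.mk0 _ (left_ne_zero_of_mul hdet)), Subtype.ext ?_⟩
    have hm : g⁻¹ * (Z ((g⁻¹ * z * g).val 0 1, Units.mk0 _ (left_ne_zero_of_mul hdet))).1 * g = g⁻¹ * z * g := by
      apply Units.ext
      rw [hZ]
      ext i j
      fin_cases i <;> fin_cases j <;> simp [h10, h00]
    exact mul_left_cancel (mul_right_cancel hm)

/-- The image of `glUni` in `SL_2`. -/
def slUni : Subgroup (SpecialLinearGroup (Fin 2) F) := glUni.comap SpecialLinearGroup.toGL

theorem card_slUni : Nat.card (slUni : Subgroup (SpecialLinearGroup (Fin 2) F)) = Fintype.card F := by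
  rw [← card_glUni (F := F)]
  refine Nat.card_congr (Equiv.ofBijective
    (fun s => (⟨s.1.toGL, s.2⟩ : (glUni : Subgroup (GL (Fin 2) F)))) ⟨fun s t h => ?_, fun g => ?_⟩)
  · exact Subtype.ext (SpecialLinearGroup.toGL_injective (congrArg Subtype.val h))
  · have hd : g.1.val.det = 1 := by
      obtain ⟨h0, h1, h2⟩ := g.2
      simp [Matrix.det_fin_two, h0, h1, h2]
    exact ⟨⟨⟨g.1.val, hd⟩, g.2⟩, Subtype.ext (Units.ext rfl)⟩

theorem slTwo_card :
    Nat.card (SpecialLinearGroup (Fin 2) F) = Fintype.card F * (Fintype.card F - 1) * (Fintype.card F + 1) := by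
  have h := Cfsg.Agent.Classical.card_gl_eq_units_mul_sl (n := Fin 2) (R := F)
  rw [card_gl_two, Cfsg.Agent.Classical.natCard_units_field] at h
  refine Nat.eq_of_mul_eq_mul_left (show 0 < Fintype.card F - 1 by have := Fintype.one_lt_card (α := F); omega) ?_
  rw [← h]; ring

theorem factorization_card_sl_two :
    p ^ (Nat.card (SpecialLinearGroup (Fin 2) F)).factorization p = Fintype.card F := by
  have h := factorization_card_gl (F := F) p 2
  rw [Cfsg.Agent.Classical.card_gl_eq_units_mul_sl, Nat.factorization_mul (Nat.card_pos.ne') (Nat.card_pos.ne'),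
    Finsupp.add_apply, Nat.factorization_eq_zero_of_not_dvd, zero_add] at h
  · simpa using h
  · rw [Cfsg.Agent.Classical.natCard_units_field]
    intro hdvd
    obtain ⟨k, hp, hk⟩ := FiniteField.card F p
    have h2 := Nat.dvd_sub (show p ∣ Fintype.card F from hk ▸ dvd_pow_self p k.ne_zero) hdvd
    rw [Nat.sub_sub_self (Fintype.card_pos)] at h2
    exact hp.not_dvd_one h2

/-- `slUni` as a Sylow subgroup. -/
noncomputable def slUniSylow : Sylow p (SpecialLinearGroup (Fin 2) F) :=
  Sylow.ofCard slUni (by rw [card_slUni, factorization_card_sl_two])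

/-- Two distinct Sylow subgroups generate `SL_2`. -/
theorem sylow_sup_eq_top_sl_two (P Q : Sylow p (SpecialLinearGroup (Fin 2) F)) (h : P ≠ Q) :
    (P : Subgroup (SpecialLinearGroup (Fin 2) F)) ⊔ Q = ⊤ := by
  obtain ⟨g, rfl⟩ := MulAction.exists_smul_eq (SpecialLinearGroup (Fin 2) F) (slUniSylow p) P
  obtain ⟨k, rfl⟩ := MulAction.exists_smul_eq (SpecialLinearGroup (Fin 2) F) (slUniSylow p) Q
  set w := g⁻¹ * k with hw
  have hkw : k = g * w := by rw [hw, mul_inv_cancel_left]
  have hwB : w.1 1 0 ≠ 0 := by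
    intro h0
    apply h
    rw [hkw, mul_smul]
    have hn : w • slUniSylow p = (slUniSylow p : Sylow p (SpecialLinearGroup (Fin 2) F)) := by
      rw [Sylow.smul_eq_iff_mem_normalizer]
      show w ∈ Subgroup.normalizer ((slUni : Subgroup (SpecialLinearGroup (Fin 2) F)) : Set _)
      rw [Subgroup.mem_set_normalizer_iff]
      intro x
      show x.toGL ∈ glUni ↔ (w * x * w⁻¹).toGL ∈ glUni
      rw [map_mul, map_mul, map_inv]
      have hb : w.toGL ∈ glBorel := h0
      refine ⟨fun hx => conj_mem_glUni hb hx, fun hx => ?_⟩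
      have := conj_mem_glUni (inv_mem hb) hx
      simpa [mul_assoc] using this
    rw [hn]
  suffices hH : (slUni : Subgroup (SpecialLinearGroup (Fin 2) F)) ⊔
      MulAut.conj w • (slUni : Subgroup (SpecialLinearGroup (Fin 2) F)) = ⊤ by
    rw [hkw, mul_smul]
    show MulAut.conj g • (slUni : Subgroup (SpecialLinearGroup (Fin 2) F)) ⊔
      MulAut.conj g • (MulAut.conj w • (slUni : Subgroup (SpecialLinearGroup (Fin 2) F))) = ⊤
    rw [← Subgroup.smul_sup, hH]
    exact eq_top_iff.2 fun x _ => Subgroup.mem_pointwise_smul_iff_inv_smul_mem.2 (Subgroup.mem_top _)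
  set H := (slUni : Subgroup (SpecialLinearGroup (Fin 2) F)) ⊔
    MulAut.conj w • (slUni : Subgroup (SpecialLinearGroup (Fin 2) F)) with hH
  refine Cfsg.Agent.Classical.sl_subgroup_eq_top_of_transvection_mem H ?_
  have hup : ∀ c : F, SpecialLinearGroup.transvection zero_ne_one c ∈ H := fun c =>
    Subgroup.mem_sup_left (by
      show (SpecialLinearGroup.transvection zero_ne_one c).toGL ∈ glUni
      simp [mem_glUni, SpecialLinearGroup.transvection_coe])
  have hlow : ∀ c : F, SpecialLinearGroup.transvection one_ne_zero c ∈ H := by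
    intro c
    set a := w.1 0 0
    set c' := w.1 1 0
    set u : SpecialLinearGroup (Fin 2) F := SpecialLinearGroup.transvection zero_ne_one (a / c')
    set x : SpecialLinearGroup (Fin 2) F := SpecialLinearGroup.transvection zero_ne_one (-c / c' ^ 2)
    have hx : w * x * w⁻¹ ∈ H := by
      refine Subgroup.mem_sup_right (Subgroup.mem_pointwise_smul_iff_inv_smul_mem.2 ?_)
      rw [MulAut.smul_def, MulAut.inv_apply, MulAut.conj_symm_apply]
      show (w⁻¹ * (w * x * w⁻¹) * w).toGL ∈ glUni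
      rw [show w⁻¹ * (w * x * w⁻¹) * w = x by group]
      simp [mem_glUni, x, SpecialLinearGroup.transvection_coe]
    have key : w * x = u * SpecialLinearGroup.transvection one_ne_zero c * u⁻¹ * w := by
      rw [SpecialLinearGroup.transvection_inv]
      apply Subtype.ext
      have hdet : w.1 0 0 * w.1 1 1 - w.1 0 1 * w.1 1 0 = 1 := by rw [← Matrix.det_fin_two]; exact w.2
      ext i j
      fin_cases i <;> fin_cases j <;>
        simp [u, x, a, c', SpecialLinearGroup.transvection_coe, Matrix.mul_apply, Fin.sum_univ_two] <;>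
        field_simp <;> grind
    have : SpecialLinearGroup.transvection one_ne_zero c = u⁻¹ * (w * x * w⁻¹) * u := by
      rw [key]; group
    rw [this]
    exact H.mul_mem (H.mul_mem (H.inv_mem (hup _)) hx) (hup _)
  intro i j hij c
  fin_cases i <;> fin_cases j <;> simp at hij
  · exact hup c
  · exact hlow c

end finite

end CfsgLib.ClassicalGroups
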