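import Mathlib
import Cfsg.Agent.Classical.SLBasic
import Cfsg.Agent.Lib.Schur.SLTwo
import Cfsg.Agent.Lib.PLocal.SLTwoPair
import Cfsg.Agent.Lib.TwoGroups.OneInvolution
import Cfsg.Agent.Lib.ClassicalGroups.SLTwoSylow
import Cfsg.Agent.S2427

/-!
Sylow subgroups and subgroups of `SL₂(q)`.
-/

set_option autoImplicit false

namespace CfsgLib.ClassicalGroups.SL2

open Matrix CfsgLib.PLocal.SLTwo

section OddChar

variable {F : Type*} [Field F]

/-- `[[0, 1], [-1, 0]]`. -/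
def rot : S2 F := ⟨!![0, 1; -1, 0], by simp [det_fin_two]⟩

/-- `[[a, b], [b, -a]]`, when `a ^ 2 + b ^ 2 = -1`. -/
def refl (a b : F) (h : a ^ 2 + b ^ 2 = -1) : S2 F :=
  ⟨!![a, b; b, -a], by simp [det_fin_two]; linear_combination -h⟩

theorem rot_entries : (rot : S2 F).1 0 0 = 0 ∧ (rot : S2 F).1 0 1 = 1 ∧
    (rot : S2 F).1 1 0 = -1 ∧ (rot : S2 F).1 1 1 = 0 := ⟨rfl, rfl, rfl, rfl⟩

theorem refl_entries (a b : F) (h : a ^ 2 + b ^ 2 = -1) : (refl a b h).1 0 0 = a ∧
    (refl a b h).1 0 1 = b ∧ (refl a b h).1 1 0 = b ∧ (refl a b h).1 1 1 = -a :=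
  ⟨rfl, rfl, rfl, rfl⟩

theorem rot_sq : rot * rot = (-1 : S2 F) := by
  apply ext_entries <;> simp [rot_entries]

theorem refl_sq {a b : F} (h : a ^ 2 + b ^ 2 = -1) : refl a b h * refl a b h = -1 := by
  apply ext_entries <;> simp [refl_entries] <;> grind

theorem rot_refl {a b : F} (h : a ^ 2 + b ^ 2 = -1) : rot * refl a b h = -(refl a b h * rot) := by
  apply ext_entries <;> simp [rot_entries, refl_entries]

theorem two_ne_zero_of_odd [Fintype F] (hF : Odd (Fintype.card F)) : (2 : F) ≠ 0 := fun h => by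
  obtain ⟨p, hc⟩ := CharP.exists F
  obtain ⟨n, hp, hq⟩ := FiniteField.card F p
  have h2 : ((2 : ℕ) : F) = 0 := by simpa using h
  rw [CharP.cast_eq_zero_iff F p, Nat.prime_dvd_prime_iff_eq hp Nat.prime_two] at h2
  rw [hq, h2, Nat.odd_pow_iff n.ne_zero] at hF
  exact absurd hF (by decide)

theorem exists_pGroup_not_commutative [Fintype F] (h2 : (2 : F) ≠ 0) :
    ∃ Q : Subgroup (S2 F), IsPGroup 2 Q ∧ ¬IsMulCommutative Q := by
  classical
  obtain ⟨p, hc⟩ := CharP.exists F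
  have : Fact p.Prime := ⟨CharP.char_is_prime F p⟩
  obtain ⟨a, b, hab⟩ := CharP.sq_add_sq F p (-1)
  simp only [Int.cast_neg, Int.cast_one] at hab
  set i : S2 F := rot
  set j : S2 F := refl (a : F) (b : F) hab
  have hi : i * i = -1 := rot_sq
  have hj : j * j = -1 := refl_sq hab
  have hij : i * j = -(j * i) := rot_refl hab
  have hpg : ∀ x : S2 F, x * x = -1 → IsPGroup 2 (Subgroup.zpowers x) := fun x hx => by
    refine IsPGroup.of_card (p := 2) (n := 2) ?_
    rw [Nat.card_zpowers]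
    refine orderOf_eq_prime_pow ?_ ?_
    · rw [pow_one, pow_two, hx]
      intro h
      have := congrArg (fun z : S2 F => z.1 0 0) h
      simp at this
      exact h2 (by linear_combination -this)
    · rw [show 2 ^ (1 + 1) = 2 * 2 from rfl, pow_mul, pow_two x, hx, pow_two, neg_one_mul_self]
  have hinv : i⁻¹ = -i := inv_eq_of_mul_eq_one_right (by rw [mul_neg, hi, neg_neg])
  have hjm : j ∈ Subgroup.normalizer ((Subgroup.zpowers i : Subgroup (S2 F)) : Set (S2 F)) := by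
    have hc : j * i * j⁻¹ = i⁻¹ := by
      rw [hinv, mul_inv_eq_iff_eq_mul, neg_mul, hij, neg_neg]
    rw [Subgroup.mem_set_normalizer_iff]
    intro x
    constructor
    · intro hx
      obtain ⟨k, rfl⟩ := Subgroup.mem_zpowers_iff.1 hx
      exact Subgroup.mem_zpowers_iff.2 ⟨-k, by rw [← conj_zpow, hc, _root_.inv_zpow, _root_.zpow_neg]⟩
    · intro hx
      obtain ⟨k, hk⟩ := Subgroup.mem_zpowers_iff.1 hx
      refine Subgroup.mem_zpowers_iff.2 ⟨-k, ?_⟩
      have : x = j⁻¹ * i ^ k * j := by rw [hk]; group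
      have hc' : j⁻¹ * i * (j⁻¹)⁻¹ = i⁻¹ := by
        calc j⁻¹ * i * (j⁻¹)⁻¹ = (j⁻¹ * i⁻¹ * j)⁻¹ := by group
          _ = (j⁻¹ * (j * i * j⁻¹) * j)⁻¹ := by rw [hc]
          _ = i⁻¹ := by group
      rw [this, show j⁻¹ * i ^ k * j = j⁻¹ * i ^ k * (j⁻¹)⁻¹ by group, ← conj_zpow, hc',
        _root_.inv_zpow, _root_.zpow_neg]
  refine ⟨Subgroup.zpowers i ⊔ Subgroup.zpowers j,
    (hpg i hi).to_sup_of_normal_left' (hpg j hj) (Subgroup.zpowers_le.2 hjm), fun hcomm => ?_⟩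
  have h := congrArg Subtype.val (hcomm.is_comm.comm
    (⟨i, Subgroup.mem_sup_left (Subgroup.mem_zpowers i)⟩ : (Subgroup.zpowers i ⊔ Subgroup.zpowers j : Subgroup _))
    ⟨j, Subgroup.mem_sup_right (Subgroup.mem_zpowers j)⟩)
  replace h : i * j = j * i := h
  rw [hij] at h
  have h1 : (-1 : S2 F) = 1 := by
    have := congrArg (fun z => z * (j * i)⁻¹) h
    simpa [neg_mul] using this
  have := congrArg (fun z : S2 F => z.1 0 0) h1
  simp at this
  exact h2 (by linear_combination -this)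

theorem sylow_two_quaternion_of_hom [Fintype F] (h2 : (2 : F) ≠ 0) {G : Type*} [Group G] [Finite G]
    (h1 : ∀ a b : G, orderOf a = 2 → orderOf b = 2 → a = b) (φ : S2 F →* G)
    (hφ : Function.Injective φ) (P : Sylow 2 G) :
    ∃ k : ℕ, 1 ≤ k ∧ Nonempty ((P : Subgroup G) ≃* QuaternionGroup (2 ^ k)) := by
  refine (CfsgLib.TwoGroups.OneInvolution.isCyclic_or_quaternion P.2 fun a b ha hb =>
    Subtype.ext (h1 a b (by rwa [Subgroup.orderOf_coe]) (by rwa [Subgroup.orderOf_coe]))).resolve_left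
      fun hcyc => ?_
  obtain ⟨Q, hQ, hQc⟩ := exists_pGroup_not_commutative h2
  obtain ⟨R, hR⟩ := (hQ.map φ).exists_le_sylow
  let e := Sylow.equiv R P
  have : IsCyclic (R : Subgroup G) := isCyclic_of_surjective e.symm e.symm.surjective
  refine hQc ⟨⟨fun a b => Subtype.ext (hφ ?_)⟩⟩
  have := congrArg Subtype.val (IsCyclic.commGroup.mul_comm
    (⟨φ a, hR ⟨a, a.2, rfl⟩⟩ : (R : Subgroup G)) ⟨φ b, hR ⟨b, b.2, rfl⟩⟩)
  show φ (a.1 * b.1) = φ (b.1 * a.1)
  rw [map_mul, map_mul]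
  exact this

theorem orderOf_two_unique (h2 : (2 : F) ≠ 0) (a b : S2 F) (ha : orderOf a = 2) (hb : orderOf b = 2) :
    a = b := by
  have key : ∀ x : S2 F, orderOf x = 2 → x = -1 := fun x hx =>
    (eq_one_or_neg_one_of_sq h2 (by rw [← pow_two]; exact orderOf_dvd_iff_pow_eq_one.1 hx.dvd)).resolve_left
      fun h => by simp [h] at hx
  rw [key a ha, key b hb]

theorem sylow_two_quaternion [Fintype F] (hF : Odd (Fintype.card F)) (P : Sylow 2 (S2 F)) :
    ∃ k : ℕ, 1 ≤ k ∧ Nonempty ((P : Subgroup (S2 F)) ≃* QuaternionGroup (2 ^ k)) :=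
  sylow_two_quaternion_of_hom (two_ne_zero_of_odd hF) (orderOf_two_unique (two_ne_zero_of_odd hF))
    (MonoidHom.id _) Function.injective_id P

end OddChar

section FiniteField

variable {F : Type*} [Field F] [Fintype F]

theorem isCyclic_sylow_of_torus (r : ℕ) [Fact r.Prime] {d : ℕ} (c : S2 F)
    (h : Nat.card (S2 F) = orderOf c * d) (hd : ¬r ∣ d) (R : Sylow r (S2 F)) :
    IsCyclic (R : Subgroup (S2 F)) := by
  set v := (Nat.card (S2 F)).factorization r
  have hv : r ^ v ∣ orderOf c := by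
    have hdvd : r ^ v ∣ orderOf c * d := h ▸ Nat.ordProj_dvd _ r
    exact (Nat.Coprime.pow_left v ((Fact.out : r.Prime).coprime_iff_not_dvd.2 hd)).dvd_of_dvd_mul_right hdvd
  set x := c ^ (orderOf c / r ^ v) with hx
  have : IsCyclic (Subgroup.zpowers x) := inferInstance
  have hox : Nat.card (Subgroup.zpowers x) = r ^ v := by
    rw [Nat.card_zpowers, hx, orderOf_pow_orderOf_div (orderOf_pos c).ne' hv]
  let e : Subgroup.zpowers x ≃* (R : Subgroup (S2 F)) :=
    Sylow.equiv (Sylow.ofCard (Subgroup.zpowers x) hox) R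
  exact isCyclic_of_surjective e e.surjective

theorem isCyclic_sylow_odd (p : ℕ) [Fact p.Prime] [CharP F p] (r : ℕ) [Fact r.Prime] (hr : r ≠ 2)
    (hrp : r ≠ p) (R : Sylow r (S2 F)) : IsCyclic (R : Subgroup (S2 F)) := by
  have hq : ¬r ∣ Fintype.card F := by
    obtain ⟨n, hp, hq⟩ := FiniteField.card F p
    rw [hq]
    exact fun h => hrp ((Nat.prime_dvd_prime_iff_eq Fact.out hp).1 ((Fact.out : r.Prime).dvd_of_dvd_pow h))
  have hrp : r.Prime := Fact.out
  have hcard := CfsgLib.ClassicalGroups.slTwo_card (F := F)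
  have hpos := Fintype.one_lt_card (α := F)
  have hboth : r ∣ Fintype.card F - 1 → ¬r ∣ Fintype.card F + 1 := fun ha hb => by
    have h2 : r ∣ 2 := by
      have := Nat.dvd_sub hb ha
      rwa [show Fintype.card F + 1 - (Fintype.card F - 1) = 2 by omega] at this
    exact hr ((Nat.prime_dvd_prime_iff_eq hrp Nat.prime_two).1 h2)
  by_cases hb : r ∣ Fintype.card F + 1
  · obtain ⟨c, hc, -⟩ := CfsgLib.Schur.exists_nonsplit_torus (F := F)
    refine isCyclic_sylow_of_torus r c (d := Fintype.card F * (Fintype.card F - 1))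
      (by rw [hcard, hc]; ring) (fun h => ?_) R
    rcases hrp.dvd_mul.1 h with h | h
    · exact hq h
    · exact hboth h hb
  · obtain ⟨g, hg⟩ := CfsgLib.Schur.exists_split_torus (F := F)
    refine isCyclic_sylow_of_torus r (CfsgLib.Schur.slDiag g) (d := Fintype.card F * (Fintype.card F + 1))
      (by rw [hcard, hg]; ring) (fun h => ?_) R
    rcases hrp.dvd_mul.1 h with h | h
    · exact hq h
    · exact hb h

theorem psl_sylow_two_klein {q : ℕ} (hF : Fintype.card F = q) (hq : q % 8 = 3 ∨ q % 8 = 5)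
    (P : Sylow 2 (ProjectiveSpecialLinearGroup (Fin 2) F)) :
    IsKleinFour (P : Subgroup (ProjectiveSpecialLinearGroup (Fin 2) F)) := by
  have hodd : Odd (Fintype.card F) := by rw [hF, Nat.odd_iff]; omega
  have h2 := two_ne_zero_of_odd hodd
  have hfac : (Nat.card (S2 F)).factorization 2 = 3 := by
    obtain ⟨o, ho, hoo⟩ : ∃ o, (q - 1) * (q + 1) = 2 ^ 3 * o ∧ Odd o := by
      obtain ⟨k, hk⟩ : ∃ k, q = 8 * k + 3 ∨ q = 8 * k + 5 := ⟨q / 8, by omega⟩
      rcases hk with rfl | rfl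
      · refine ⟨(4 * k + 1) * (2 * k + 1), ?_, ?_⟩
        · rw [show 8 * k + 3 - 1 = 8 * k + 2 by omega]; ring
        · exact Odd.mul ⟨2 * k, by ring⟩ ⟨k, rfl⟩
      · refine ⟨(2 * k + 1) * (4 * k + 3), ?_, ?_⟩
        · rw [show 8 * k + 5 - 1 = 8 * k + 4 by omega]; ring
        · exact Odd.mul ⟨k, rfl⟩ ⟨2 * k + 1, by ring⟩
    rw [CfsgLib.ClassicalGroups.slTwo_card, hF, mul_assoc, ho,
      show q * (2 ^ 3 * o) = 2 ^ 3 * (q * o) by ring]
    have hodd' : Odd (q * o) := (hF ▸ hodd).mul hoo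
    rw [Nat.factorization_mul (by norm_num) (by rintro h; simp [h] at hodd'), Finsupp.add_apply,
      Nat.prime_two.factorization_pow, Finsupp.single_eq_same,
      Nat.factorization_eq_zero_of_not_dvd (fun h => Nat.not_even_iff_odd.2 hodd' (even_iff_two_dvd.2 h))]
  have hcz : Nat.card (Subgroup.center (S2 F)) = 2 := by
    rw [Cfsg.Agent.Classical.card_center_sl 2 (by norm_num)]
    refine Nat.gcd_eq_left ?_
    rw [hF]
    omega
  have hfacP : (Nat.card (ProjectiveSpecialLinearGroup (Fin 2) F)).factorization 2 = 2 := by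
    have h := congrArg (fun n => n.factorization 2) (Cfsg.Agent.Classical.card_sl_eq_center_mul_psl (F := F) 2)
    rw [Nat.factorization_mul (Nat.card_pos.ne') (Nat.card_pos.ne'), Finsupp.add_apply, hfac, hcz,
      Nat.prime_two.factorization_self] at h
    omega
  have hP4 : Nat.card (P : Subgroup (ProjectiveSpecialLinearGroup (Fin 2) F)) = 4 := by
    rw [Sylow.card_eq_multiplicity, hfacP]; rfl
  refine ⟨hP4, ?_⟩
  have hsq : ∀ x : (P : Subgroup (ProjectiveSpecialLinearGroup (Fin 2) F)), x ^ 2 = 1 := by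
    intro x
    by_contra hx
    obtain ⟨y, hy⟩ := QuotientGroup.mk_surjective x.1
    have hy4 : y ^ 4 ∈ Subgroup.center (S2 F) := by
      rw [← QuotientGroup.eq_one_iff, QuotientGroup.mk_pow, hy]
      have h4 : x ^ 4 = 1 := hP4 ▸ pow_card_eq_one'
      simpa using congrArg Subtype.val h4
    have hy2 : y ^ 2 ∉ Subgroup.center (S2 F) := by
      rw [← QuotientGroup.eq_one_iff, QuotientGroup.mk_pow, hy]
      exact fun h => hx (Subtype.ext (by simpa using h))
    have hy8 : y ^ 8 = 1 := by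
      have hp := pow_card_eq_one' (x := (⟨y ^ 4, hy4⟩ : Subgroup.center (S2 F)))
      rw [hcz] at hp
      have := congrArg Subtype.val hp
      simpa [← pow_mul] using this
    have hy4' : y ^ 4 ≠ 1 := by
      intro h
      rcases eq_one_or_neg_one_of_sq h2 (x := y ^ 2) (by rw [← pow_add]; exact h) with e | e
      · exact hy2 (e ▸ one_mem _)
      · exact hy2 (e ▸ Subgroup.mem_center_iff.2 fun g => commute_neg_one g)
    have ho : Nat.card (Subgroup.zpowers y) = 2 ^ (Nat.card (S2 F)).factorization 2 := by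
      rw [Nat.card_zpowers, hfac]
      exact orderOf_eq_prime_pow (n := 2) hy4' hy8
    obtain ⟨Q, hQ, hQc⟩ := exists_pGroup_not_commutative h2
    obtain ⟨R, hR⟩ := hQ.exists_le_sylow
    let e : Subgroup.zpowers y ≃* (R : Subgroup (S2 F)) :=
      Sylow.equiv (Sylow.ofCard (Subgroup.zpowers y) ho) R
    have : IsCyclic (R : Subgroup (S2 F)) := isCyclic_of_surjective e e.surjective
    refine hQc ⟨⟨fun a b => Subtype.ext ?_⟩⟩
    have hcm := congrArg Subtype.val (IsCyclic.commGroup.mul_comm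
      (⟨a.1, hR a.2⟩ : (R : Subgroup (S2 F))) ⟨b.1, hR b.2⟩)
    exact hcm
  refine (Nat.prime_two.eq_one_or_self_of_dvd _ (Monoid.exponent_dvd_of_forall_pow_eq_one hsq)).resolve_left
    fun h => ?_
  have := Monoid.exp_eq_one_iff.1 h
  rw [Nat.card_eq_one_iff_unique.2 ⟨this, ⟨1⟩⟩] at hP4
  omega

/-- Scaling by `diag(c, 1)`, as a function. -/
def scaleFun (c : Fˣ) (x : S2 F) : S2 F :=
  ⟨!![x.1 0 0, c * x.1 0 1; (c⁻¹ : Fˣ) * x.1 1 0, x.1 1 1], by
    have := det_eq x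
    rw [det_fin_two]
    simp
    field_simp
    linear_combination this⟩

theorem scaleFun_entries (c : Fˣ) (x : S2 F) : (scaleFun c x).1 0 0 = x.1 0 0 ∧
    (scaleFun c x).1 0 1 = c * x.1 0 1 ∧ (scaleFun c x).1 1 0 = (c⁻¹ : Fˣ) * x.1 1 0 ∧
    (scaleFun c x).1 1 1 = x.1 1 1 := ⟨rfl, rfl, rfl, rfl⟩

/-- Scaling by `diag(c, 1)`. -/
def slScale (c : Fˣ) : S2 F ≃* S2 F where
  toFun := scaleFun c
  invFun := scaleFun c⁻¹
  left_inv x := by apply ext_entries <;> simp [scaleFun_entries]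
  right_inv x := by apply ext_entries <;> simp [scaleFun_entries]
  map_mul' x y := by
    apply ext_entries <;> simp [scaleFun_entries] <;> field_simp <;> ring

theorem slScale_entries (c : Fˣ) (x : S2 F) : (slScale c x).1 0 0 = x.1 0 0 ∧
    (slScale c x).1 0 1 = c * x.1 0 1 ∧ (slScale c x).1 1 0 = (c⁻¹ : Fˣ) * x.1 1 0 ∧
    (slScale c x).1 1 1 = x.1 1 1 := ⟨rfl, rfl, rfl, rfl⟩

theorem exists_sl2_zmod (p : ℕ) [Fact p.Prime] [CharP F p] (hp : p ≠ 2) (H : Subgroup (S2 F))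
    (hH : 1 < Nat.card (Sylow p H)) :
    ∃ K : Subgroup (S2 F), K ≤ H ∧ Nonempty (K ≃* SpecialLinearGroup (Fin 2) (ZMod p)) := by
  classical
  obtain ⟨P, Q, hPQ⟩ := (Finite.one_lt_card_iff_nontrivial.1 hH).exists_pair_ne
  have hne : ∀ R : Sylow p H, ∃ x : H, x ∈ R ∧ x ≠ 1 := by
    intro R
    by_contra! hR
    have hbot : (R : Subgroup H) = ⊥ := (Subgroup.eq_bot_iff_forall _).2 hR
    refine hPQ (Sylow.ext ?_)
    have : ∀ S : Sylow p H, (S : Subgroup H) = ⊥ := fun S =>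
      Subgroup.eq_bot_of_card_eq _ (by rw [Nat.card_congr (Sylow.equiv S R).toEquiv, hbot, Subgroup.card_bot])
    rw [this P, this Q]
  obtain ⟨P', hP'⟩ := P.exists_comap_subtype_eq
  obtain ⟨Q', hQ'⟩ := Q.exists_comap_subtype_eq
  have hPQ' : P' ≠ Q' := fun h => hPQ (Sylow.ext (by rw [← hP', ← hQ', h]))
  obtain ⟨x, hxP, hx1⟩ := hne P
  obtain ⟨y, hyQ, hy1⟩ := hne Q
  change x ∈ (P : Subgroup H) at hxP
  change y ∈ (Q : Subgroup H) at hyQ
  rw [← hP'] at hxP
  rw [← hQ'] at hyQ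
  obtain ⟨g, rfl⟩ := MulAction.exists_smul_eq (S2 F) (CfsgLib.ClassicalGroups.slUniSylow p) P'
  obtain ⟨k, rfl⟩ := MulAction.exists_smul_eq (S2 F) (CfsgLib.ClassicalGroups.slUniSylow p) Q'
  have hmem : ∀ (g z : S2 F),
      z ∈ ((g • CfsgLib.ClassicalGroups.slUniSylow p : Sylow p (S2 F)) : Subgroup (S2 F)) →
      g⁻¹ * z * g = upper ((g⁻¹ * z * g).1 0 1) := fun g z hz => by
    have hz' : (MulAut.conj g)⁻¹ • z ∈ (CfsgLib.ClassicalGroups.slUni : Subgroup (S2 F)) :=
      Subgroup.mem_pointwise_smul_iff_inv_smul_mem.1 hz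
    rw [MulAut.smul_def, MulAut.inv_apply, MulAut.conj_symm_apply] at hz'
    exact eq_upper hz'.2.1 hz'.1
  set a := (g⁻¹ * x.1 * g).1 0 1
  set d := (k⁻¹ * y.1 * k).1 0 1
  have hxa : g⁻¹ * x.1 * g = upper a := hmem g x hxP
  have hyd : k⁻¹ * y.1 * k = upper d := hmem k y hyQ
  set w := g⁻¹ * k with hwdef
  have hw : w.1 1 0 ≠ 0 := by
    intro h0
    apply hPQ'
    have hn : w • CfsgLib.ClassicalGroups.slUniSylow p =
        (CfsgLib.ClassicalGroups.slUniSylow p : Sylow p (S2 F)) := by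
      rw [Sylow.smul_eq_iff_mem_normalizer]
      show w ∈ Subgroup.normalizer ((CfsgLib.ClassicalGroups.slUni : Subgroup (S2 F)) : Set (S2 F))
      rw [Subgroup.mem_set_normalizer_iff]
      intro z
      show SpecialLinearGroup.toGL z ∈ CfsgLib.ClassicalGroups.glUni ↔
        SpecialLinearGroup.toGL (w * z * w⁻¹) ∈ CfsgLib.ClassicalGroups.glUni
      rw [map_mul, map_mul, map_inv]
      have hb : SpecialLinearGroup.toGL w ∈ CfsgLib.ClassicalGroups.glBorel := h0
      refine ⟨fun hz => CfsgLib.ClassicalGroups.conj_mem_glUni hb hz, fun hz => ?_⟩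
      simpa [mul_assoc] using CfsgLib.ClassicalGroups.conj_mem_glUni (inv_mem hb) hz
    rw [show k = g * w by rw [hwdef, mul_inv_cancel_left], mul_smul, hn]
  set c := -d * w.1 1 0 ^ 2
  set u := upper (w.1 0 0 / w.1 1 0)
  have hkey : u⁻¹ * (g⁻¹ * y.1 * g) * u = lower c := by
    have h1 : g⁻¹ * y.1 * g = w * upper d * w⁻¹ := by rw [← hyd, hwdef]; group
    have h2 : w * upper d = u * lower c * u⁻¹ * w := by
      have hdet := det_eq w
      have hu : u⁻¹ = upper (-(w.1 0 0 / w.1 1 0)) :=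
        inv_eq_of_mul_eq_one_right (by rw [upper_mul, add_neg_cancel, upper_zero])
      rw [hu]
      apply ext_entries <;> simp [u, c] <;> field_simp <;> grind
    rw [h1, h2]; group
  have hkeyx : u⁻¹ * (g⁻¹ * x.1 * g) * u = upper a := by
    rw [hxa, mul_assoc, inv_mul_eq_iff_eq_mul.2 (show upper a * u = u * upper a by
      rw [upper_mul, upper_mul, add_comm])]
  set h := g * u
  have hhx : h⁻¹ * x.1 * h = upper a := by rw [← hkeyx]; simp [h, mul_assoc]
  have hhy : h⁻¹ * y.1 * h = lower c := by rw [← hkey]; simp [h, mul_assoc]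
  have hne0 : ∀ (z : H), z ≠ 1 → h⁻¹ * z.1 * h ≠ 1 := fun z hz e => hz (Subtype.ext (by
    rw [show z.1 = h * (h⁻¹ * z.1 * h) * h⁻¹ by group, e]; simp))
  have ha : a ≠ 0 := fun e => hne0 x hx1 (by rw [hhx, e, upper_zero])
  have hc : c ≠ 0 := fun e => hne0 y hy1 (by
    rw [hhy, e]; apply ext_entries <;> simp)
  let E : S2 F ≃* S2 F := (MulAut.conj h⁻¹).trans (slScale (Units.mk0 c hc))
  have hu' : upper (c * a) ∈ H.map E.toMonoidHom := ⟨x.1, x.2, by
    show slScale _ (h⁻¹ * x.1 * (h⁻¹)⁻¹) = _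
    rw [inv_inv, hhx]
    apply ext_entries <;> simp [slScale_entries]⟩
  have hl' : lower 1 ∈ H.map E.toMonoidHom := ⟨y.1, y.2, by
    show slScale _ (h⁻¹ * y.1 * (h⁻¹)⁻¹) = _
    rw [inv_inv, hhy]
    apply ext_entries <;> simp [slScale_entries, inv_mul_cancel₀ hc]⟩
  obtain ⟨ψ, hψ, hψH⟩ := exists_sl2_le (p := p) hp (mul_ne_zero hc ha) hu' hl'
  refine ⟨(E.symm.toMonoidHom.comp ψ).range, ?_,
    ⟨(MonoidHom.ofInjective (f := E.symm.toMonoidHom.comp ψ) (E.symm.injective.comp hψ)).symm⟩⟩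
  rintro _ ⟨z, rfl⟩
  obtain ⟨m, hm, hmz⟩ := hψH z
  show E.symm (ψ z) ∈ H
  rw [← hmz]
  show E.symm (E m) ∈ H
  rwa [MulEquiv.symm_apply_apply]

theorem subgroup_sylow_two_quaternion (p : ℕ) [Fact p.Prime] [CharP F p] (hp : p ≠ 2)
    (H : Subgroup (S2 F)) (hH : 1 < Nat.card (Sylow p H)) (S : Sylow 2 H) :
    ∃ k : ℕ, 1 ≤ k ∧ Nonempty ((S : Subgroup H) ≃* QuaternionGroup (2 ^ k)) := by
  obtain ⟨K, hK, ⟨e⟩⟩ := exists_sl2_zmod p hp H hH
  refine sylow_two_quaternion_of_hom (F := ZMod p) (two_ne_zero' hp) (fun a b ha hb => ?_)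
    ((Subgroup.inclusion hK).comp e.symm.toMonoidHom)
    ((Subgroup.inclusion_injective hK).comp e.symm.injective) S
  exact Subtype.ext (orderOf_two_unique (two_ne_zero' hp) _ _
    (by rwa [Subgroup.orderOf_coe]) (by rwa [Subgroup.orderOf_coe]))

theorem sl_two_three (hF : Fintype.card F = 3) :
    (∃ Q : Subgroup (S2 F), Q.Normal ∧ Q.index = 3 ∧ Nonempty (Q ≃* QuaternionGroup 2)) ∧
      Nat.card (Subgroup.center (S2 F)) = 2 := by
  obtain ⟨h24, -, h8, ⟨e8⟩, -, -⟩ := Cfsg.Agent.S2427.result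
  let f : ZMod 3 ≃+* F := ZMod.ringEquivOfPrime F Nat.prime_three hF
  let E : S2 (ZMod 3) ≃* S2 F :=
    { toFun := SpecialLinearGroup.map f.toRingHom
      invFun := SpecialLinearGroup.map f.symm.toRingHom
      left_inv := fun g => Subtype.ext (Matrix.ext fun _ _ => f.symm_apply_apply _)
      right_inv := fun g => Subtype.ext (Matrix.ext fun _ _ => f.apply_symm_apply _)
      map_mul' := map_mul _ }
  let Q := (commutator (S2 (ZMod 3))).map E.toMonoidHom
  have eQ : commutator (S2 (ZMod 3)) ≃* Q := E.subgroupMap _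
  refine ⟨⟨Q, (inferInstance : (commutator (S2 (ZMod 3))).Normal).map _ E.surjective, ?_,
    ⟨eQ.symm.trans e8⟩⟩, ?_⟩
  · have hm := Q.card_mul_index
    rw [← Nat.card_congr eQ.toEquiv, h8, ← Nat.card_congr E.toEquiv, h24] at hm
    omega
  · rw [Cfsg.Agent.Classical.card_center_sl 2 (by norm_num), hF]
    rfl

end FiniteField

end CfsgLib.ClassicalGroups.SL2
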