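import Mathlib

/-!
Generic counting: orders of groups from the orbit of a point.
-/

set_option autoImplicit false

namespace CfsgLib.ClassicalGroups

/-- If the fibres of `f : G → X` are the left cosets of `H`, with image `S`, then `|G| = |S| |H|`. -/
theorem natCard_eq_image_mul {G X : Type*} [Group G] (H : Subgroup G) (f : G → X) (S : Set X)
    (hf : ∀ a b : G, f a = f b ↔ a⁻¹ * b ∈ H) (hmem : ∀ g, f g ∈ S)
    (hsurj : ∀ x ∈ S, ∃ g, f g = x) :
    Nat.card G = Nat.card S * Nat.card H := by
  rw [Subgroup.card_eq_card_quotient_mul_card_subgroup H]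
  congr 1
  refine Nat.card_congr (Equiv.ofBijective
    (Quotient.lift (fun g => (⟨f g, hmem g⟩ : S)) fun a b h => Subtype.ext ((hf a b).2 ?_)) ⟨?_, ?_⟩)
  · exact QuotientGroup.leftRel_apply.1 h
  · intro a b
    induction a using Quotient.inductionOn with | h a => ?_
    induction b using Quotient.inductionOn with | h b => ?_
    intro h
    exact Quotient.sound (QuotientGroup.leftRel_apply.2 ((hf a b).1 (congrArg Subtype.val h)))
  · rintro ⟨x, hx⟩
    obtain ⟨g, rfl⟩ := hsurj x hx
    exact ⟨Quotient.mk _ g, rfl⟩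

variable {F V W : Type*} [Field F] [AddCommGroup V] [Module F V] [AddCommGroup W] [Module F W]

/-- The group of linear automorphisms preserving a function. -/
def isoGroup (Q : V → F) : Subgroup (V ≃ₗ[F] V) where
  carrier := {g | ∀ v, Q (g v) = Q v}
  mul_mem' {a b} ha hb v := (ha _).trans (hb v)
  one_mem' _ := rfl
  inv_mem' {a} ha v := by
    have h := (ha (a⁻¹ v)).symm
    rwa [← LinearEquiv.mul_apply, mul_inv_cancel] at h

theorem mem_isoGroup {Q : V → F} {g : V ≃ₗ[F] V} : g ∈ isoGroup Q ↔ ∀ v, Q (g v) = Q v :=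
  Iff.rfl

/-- Transport of the isometry group along a linear equivalence. -/
theorem card_isoGroup_congr {Q : V → F} {Q' : W → F} (e : V ≃ₗ[F] W) (h : ∀ v, Q' (e v) = Q v) :
    Nat.card (isoGroup Q) = Nat.card (isoGroup Q') := by
  refine Nat.card_congr
    { toFun := fun g => ⟨e.symm.trans (g.1.trans e), fun w => ?_⟩
      invFun := fun g => ⟨e.trans (g.1.trans e.symm), fun v => ?_⟩
      left_inv := fun g => ?_
      right_inv := fun g => ?_ }
  · simp only [LinearEquiv.trans_apply, h, g.2 (e.symm w)]
    rw [← h (e.symm w), e.apply_symm_apply]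
  · simp only [LinearEquiv.trans_apply]
    rw [← h, e.apply_symm_apply, g.2, h]
  · apply Subtype.ext; ext v; simp
  · apply Subtype.ext; ext v; simp

end CfsgLib.ClassicalGroups
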