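import Mathlib
import Cfsg.Prelude.Def_Classical
import Cfsg.Prelude.Def_LieClassical

/-!
Basic algebra of the field with `q²` elements and of the Hermitian form `hermForm n F q`.
-/

set_option autoImplicit false
set_option linter.unusedSectionVars false

namespace CfsgLib.ClassicalGroups

variable {F : Type*} [Field F] [Fintype F] {q : ℕ}

theorem herm_exists_prime_pow (hF : Fintype.card F = q ^ 2) :
    ∃ p k : ℕ, p.Prime ∧ CharP F p ∧ q = p ^ k := by
  obtain ⟨p, hc, n, hp, hn⟩ := FiniteField.card' F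
  obtain ⟨k, _, hk⟩ := (Nat.dvd_prime_pow hp).1 (show q ∣ p ^ (n : ℕ) from hn ▸ hF ▸ dvd_pow_self q two_ne_zero)
  exact ⟨p, k, hp, hc, hk⟩

theorem herm_two_le (hF : Fintype.card F = q ^ 2) : 2 ≤ q := by
  have := Fintype.one_lt_card (α := F)
  rw [hF] at this
  by_contra h
  interval_cases q <;> simp at this

/-- The field automorphism `x ↦ x^q`. -/
def hermConj (hF : Fintype.card F = q ^ 2) : F →+* F where
  toFun x := x ^ q
  map_one' := one_pow q
  map_mul' x y := mul_pow x y q
  map_zero' := zero_pow (by have := herm_two_le hF; omega)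
  map_add' x y := by
    obtain ⟨p, k, hp, hc, rfl⟩ := herm_exists_prime_pow hF
    have : Fact p.Prime := ⟨hp⟩
    exact add_pow_char_pow x y p k

@[simp] theorem hermConj_apply (hF : Fintype.card F = q ^ 2) (x : F) : hermConj hF x = x ^ q := rfl

theorem hermConj_conj (hF : Fintype.card F = q ^ 2) (x : F) : (x ^ q) ^ q = x := by
  rw [← pow_mul, ← pow_two, ← hF, FiniteField.pow_card]

theorem card_units_herm (hF : Fintype.card F = q ^ 2) : Nat.card Fˣ = (q - 1) * (q + 1) := by
  rw [Nat.card_units, Nat.card_eq_fintype_card, hF, mul_comm, ← Nat.sq_sub_sq, one_pow]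

/-- The norm-one subgroup has order `q + 1`. -/
theorem card_norm_one_units (hF : Fintype.card F = q ^ 2) :
    Nat.card (powMonoidHom (q + 1) : Fˣ →* Fˣ).ker = q + 1 := by
  rw [IsCyclic.card_powMonoidHom_ker, card_units_herm hF, Nat.gcd_eq_right (Dvd.intro_left _ rfl)]

/-- Every nonzero element of the fixed field is a norm. -/
theorem exists_norm_eq (hF : Fintype.card F = q ^ 2) {c : F} (hc : c ^ q = c) (hc0 : c ≠ 0) :
    ∃ x : F, x ≠ 0 ∧ x ^ (q + 1) = c := by
  classical
  have hq := herm_two_le hF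
  have h1 : (powMonoidHom (q + 1) : Fˣ →* Fˣ).range ≤ (powMonoidHom (q - 1) : Fˣ →* Fˣ).ker := by
    rintro _ ⟨x, rfl⟩
    show (x ^ (q + 1)) ^ (q - 1) = 1
    rw [← pow_mul, mul_comm, ← card_units_herm hF, pow_card_eq_one']
  have h2 : Nat.card (powMonoidHom (q + 1) : Fˣ →* Fˣ).range = q - 1 := by
    rw [IsCyclic.card_powMonoidHom_range, card_units_herm hF, Nat.gcd_eq_right (Dvd.intro_left _ rfl),
      Nat.mul_div_cancel _ (by omega)]
  have h3 : Nat.card (powMonoidHom (q - 1) : Fˣ →* Fˣ).ker = q - 1 := by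
    rw [IsCyclic.card_powMonoidHom_ker, card_units_herm hF, Nat.gcd_eq_right (Dvd.intro _ rfl)]
  have h4 := Subgroup.eq_of_le_of_card_ge h1 (by omega)
  have hc' : Units.mk0 c hc0 ∈ (powMonoidHom (q - 1) : Fˣ →* Fˣ).ker := by
    refine Units.ext ?_
    show c ^ (q - 1) = 1
    apply mul_left_cancel₀ hc0
    rw [← pow_succ', Nat.sub_add_cancel (by omega), hc, mul_one]
  rw [← h4] at hc'
  obtain ⟨x, hx⟩ := hc'
  exact ⟨x, x.ne_zero, congrArg Units.val hx⟩

theorem hermForm_add_left (n : ℕ) (u u' v : Fin n → F) :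
    Cfsg.hermForm n F q (u + u') v = Cfsg.hermForm n F q u v + Cfsg.hermForm n F q u' v := by
  simp [Cfsg.hermForm, add_mul, Finset.sum_add_distrib]

theorem hermForm_smul_left (n : ℕ) (c : F) (u v : Fin n → F) :
    Cfsg.hermForm n F q (c • u) v = c * Cfsg.hermForm n F q u v := by
  simp [Cfsg.hermForm, Finset.mul_sum, mul_assoc]

theorem hermForm_sub_left (n : ℕ) (u u' v : Fin n → F) :
    Cfsg.hermForm n F q (u - u') v = Cfsg.hermForm n F q u v - Cfsg.hermForm n F q u' v := by
  simp [Cfsg.hermForm, sub_mul, Finset.sum_sub_distrib]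

theorem hermForm_symm (hF : Fintype.card F = q ^ 2) (n : ℕ) (u v : Fin n → F) :
    Cfsg.hermForm n F q v u = (Cfsg.hermForm n F q u v) ^ q := by
  rw [← hermConj_apply hF (Cfsg.hermForm n F q u v), Cfsg.hermForm, Cfsg.hermForm, map_sum]
  refine Finset.sum_congr rfl fun i _ => ?_
  rw [hermConj_apply, mul_pow, hermConj_conj hF, mul_comm]

theorem hermForm_sub_right (hF : Fintype.card F = q ^ 2) (n : ℕ) (u v v' : Fin n → F) :
    Cfsg.hermForm n F q u (v - v') = Cfsg.hermForm n F q u v - Cfsg.hermForm n F q u v' := by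
  simp only [Cfsg.hermForm, Pi.sub_apply, ← Finset.sum_sub_distrib, ← mul_sub]
  refine Finset.sum_congr rfl fun i _ => ?_
  rw [← hermConj_apply hF, map_sub]; simp

theorem hermForm_smul_right (n : ℕ) (c : F) (u v : Fin n → F) :
    Cfsg.hermForm n F q u (c • v) = c ^ q * Cfsg.hermForm n F q u v := by
  simp [Cfsg.hermForm, Finset.mul_sum, mul_pow, mul_left_comm]

theorem hermForm_single_right (hF : Fintype.card F = q ^ 2) (n : ℕ) (u : Fin n → F) (i : Fin n) :
    Cfsg.hermForm n F q u (Pi.single i 1) = u i := by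
  rw [Cfsg.hermForm, Finset.sum_eq_single i]
  · simp
  · intro j _ hj
    have := herm_two_le hF
    simp [hj, zero_pow (show q ≠ 0 by omega)]
  · simp

theorem hermForm_cons (n : ℕ) (a b : F) (x y : Fin n → F) :
    Cfsg.hermForm (n + 1) F q (Fin.cons a x) (Fin.cons b y) = a * b ^ q + Cfsg.hermForm n F q x y := by
  simp [Cfsg.hermForm, Fin.sum_univ_succ]

theorem hermForm_self_conj (hF : Fintype.card F = q ^ 2) (n : ℕ) (v : Fin n → F) :
    (Cfsg.hermForm n F q v v) ^ q = Cfsg.hermForm n F q v v :=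
  (hermForm_symm hF n v v).symm

end CfsgLib.ClassicalGroups
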