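import Mathlib
import Cfsg.Agent.Lib.ClassicalGroups.HermBasic

/-!
Numbers of vectors of given norm for the Hermitian form.
-/

set_option autoImplicit false
set_option linter.unusedVariables false

namespace CfsgLib.ClassicalGroups

variable {F : Type*} [Field F] [Fintype F] {q : ℕ}

theorem card_hermForm_scale (hF : Fintype.card F = q ^ 2) (n : ℕ) {c : F} (hc : c ^ q = c) (hc0 : c ≠ 0) :
    Nat.card {v : Fin n → F // Cfsg.hermForm n F q v v = c} =
      Nat.card {v : Fin n → F // Cfsg.hermForm n F q v v = 1} := by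
  obtain ⟨x, hx0, hx⟩ := exists_norm_eq hF hc hc0
  refine (Nat.card_congr ((LinearEquiv.smulOfUnit (M := Fin n → F) (Units.mk0 x hx0)).toEquiv.subtypeEquiv fun v => ?_)).symm
  show _ ↔ Cfsg.hermForm n F q (x • v) (x • v) = c
  rw [hermForm_smul_left, hermForm_smul_right, ← mul_assoc, ← pow_succ', hx]
  constructor
  · intro h; rw [h, mul_one]
  · intro h; exact mul_left_cancel₀ hc0 (by rw [h, mul_one])

theorem card_pow_succ_eq (hF : Fintype.card F = q ^ 2) [DecidableEq F] :
    (Finset.univ.filter fun x : F => x ^ (q + 1) = 1).card = q + 1 := by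
  classical
  rw [← Fintype.card_subtype, ← Nat.card_eq_fintype_card]
  refine (Nat.card_congr ?_).trans (card_norm_one_units hF)
  exact
    { toFun := fun x => ⟨Units.mk0 x.1 (fun h => by simpa [h, zero_pow] using x.2), Units.ext x.2⟩
      invFun := fun u => ⟨u.1, congrArg Units.val (show u.1 ^ (q + 1) = 1 from u.2)⟩
      left_inv := fun x => rfl
      right_inv := fun u => Subtype.ext (Units.ext rfl) }

theorem card_hermForm_succ (hF : Fintype.card F = q ^ 2) (n : ℕ) {c : F} (hc : c ^ q = c) :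
    Nat.card {v : Fin (n + 1) → F // Cfsg.hermForm (n + 1) F q v v = c} =
      ∑ a : F, Nat.card {x : Fin n → F // Cfsg.hermForm n F q x x = c - a ^ (q + 1)} := by
  rw [← Nat.card_sigma]
  exact Nat.card_congr
    { toFun := fun v => ⟨v.1 0, Fin.tail v.1, by
        have h := v.2
        rw [← Fin.cons_self_tail v.1, hermForm_cons] at h
        rw [pow_succ']
        linear_combination h⟩
      invFun := fun s => ⟨Fin.cons s.1 s.2.1, by
        rw [hermForm_cons, s.2.2, pow_succ']; ring⟩
      left_inv := fun v => Subtype.ext (Fin.cons_self_tail v.1)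
      right_inv := fun s => Sigma.subtype_ext (by simp) (by simp) }

/-- The one-step recursion. -/
theorem herm_count_rec (hF : Fintype.card F = q ^ 2) (n : ℕ) :
    (Nat.card {v : Fin (n + 1) → F // Cfsg.hermForm (n + 1) F q v v = 0} : ℤ) =
        Nat.card {v : Fin n → F // Cfsg.hermForm n F q v v = 0} +
          ((q : ℤ) ^ 2 - 1) * Nat.card {v : Fin n → F // Cfsg.hermForm n F q v v = 1} ∧
    (Nat.card {v : Fin (n + 1) → F // Cfsg.hermForm (n + 1) F q v v = 1} : ℤ) =
        ((q : ℤ) + 1) * Nat.card {v : Fin n → F // Cfsg.hermForm n F q v v = 0} +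
          ((q : ℤ) ^ 2 - q - 1) * Nat.card {v : Fin n → F // Cfsg.hermForm n F q v v = 1} := by
  classical
  have hq := herm_two_le hF
  have hN : ∀ c : F, c ^ q = c → ∀ a : F,
      Nat.card {x : Fin n → F // Cfsg.hermForm n F q x x = c - a ^ (q + 1)} =
        if a ^ (q + 1) = c then Nat.card {v : Fin n → F // Cfsg.hermForm n F q v v = 0}
        else Nat.card {v : Fin n → F // Cfsg.hermForm n F q v v = 1} := by
    intro c hc a
    split_ifs with h
    · rw [h, sub_self]
    · refine card_hermForm_scale hF n ?_ (sub_ne_zero.2 (Ne.symm h))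
      rw [← hermConj_apply hF, map_sub, hermConj_apply, hermConj_apply, hc, pow_succ', mul_pow,
        hermConj_conj hF, mul_comm]
  have hz : (Finset.univ.filter fun x : F => x ^ (q + 1) = 0).card = 1 := by
    rw [show (Finset.univ.filter fun x : F => x ^ (q + 1) = 0) = {0} by ext; simp]
    rfl
  have hcard : ∀ c : F, c ^ q = c → ∀ k : ℕ, (Finset.univ.filter fun x : F => x ^ (q + 1) = c).card = k →
      (Nat.card {v : Fin (n + 1) → F // Cfsg.hermForm (n + 1) F q v v = c} : ℤ) =
        k * Nat.card {v : Fin n → F // Cfsg.hermForm n F q v v = 0} +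
          ((q : ℤ) ^ 2 - k) * Nat.card {v : Fin n → F // Cfsg.hermForm n F q v v = 1} := by
    intro c hc k hk
    rw [card_hermForm_succ hF n hc, Finset.sum_congr rfl (fun a _ => hN c hc a), Finset.sum_ite,
      Finset.sum_const, Finset.sum_const, Finset.filter_not, Finset.card_univ_sdiff, hk, hF,
      smul_eq_mul, smul_eq_mul]
    have : k ≤ q ^ 2 := hk ▸ hF ▸ Finset.card_le_univ _
    push_cast [this]
    ring
  constructor
  · rw [hcard 0 (by simp [zero_pow (show q ≠ 0 by omega)]) 1 hz]; push_cast; ring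
  · rw [hcard 1 (one_pow q) (q + 1) (card_pow_succ_eq hF)]; push_cast; ring

theorem herm_count_int (hF : Fintype.card F = q ^ 2) (n : ℕ) :
    (q : ℤ) * Nat.card {v : Fin n → F // Cfsg.hermForm n F q v v = 0} =
      (q : ℤ) ^ (2 * n) + (-1) ^ n * ((q : ℤ) ^ (n + 1) - q ^ n) ∧
    (q : ℤ) * Nat.card {v : Fin n → F // Cfsg.hermForm n F q v v = 1} =
      (q : ℤ) ^ n * ((q : ℤ) ^ n - (-1) ^ n) := by
  induction n with
  | zero =>
    have h0 : Nat.card {v : Fin 0 → F // Cfsg.hermForm 0 F q v v = 0} = 1 :=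
      Nat.card_eq_one_iff_exists.2 ⟨⟨0, by simp [Cfsg.hermForm]⟩, fun v => Subtype.ext (Subsingleton.elim _ _)⟩
    have h1 : Nat.card {v : Fin 0 → F // Cfsg.hermForm 0 F q v v = 1} = 0 := by
      have : IsEmpty {v : Fin 0 → F // Cfsg.hermForm 0 F q v v = 1} :=
        ⟨fun v => by simpa [Cfsg.hermForm] using v.2⟩
      simp
    rw [h0, h1]; simp
  | succ n ih =>
    obtain ⟨ha, hb⟩ := herm_count_rec hF n
    rw [ha, hb]
    generalize (Nat.card {v : Fin n → F // Cfsg.hermForm n F q v v = 0} : ℤ) = A at ih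
    generalize (Nat.card {v : Fin n → F // Cfsg.hermForm n F q v v = 1} : ℤ) = B at ih
    obtain ⟨i1, i2⟩ := ih
    constructor
    · linear_combination i1 + ((q : ℤ) ^ 2 - 1) * i2
    · linear_combination ((q : ℤ) + 1) * i1 + ((q : ℤ) ^ 2 - q - 1) * i2

/-- Number of vectors of norm one. -/
theorem herm_count_one (hF : Fintype.card F = q ^ 2) (n : ℕ) :
    Nat.card {v : Fin (n + 1) → F // Cfsg.hermForm (n + 1) F q v v = 1} =
      if Even n then q ^ n * (q ^ (n + 1) + 1) else q ^ n * (q ^ (n + 1) - 1) := by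
  have h := (herm_count_int hF (n + 1)).2
  have hq := herm_two_le hF
  have h1 : 1 ≤ q ^ (n + 1) := Nat.one_le_pow _ _ (by omega)
  apply Nat.eq_of_mul_eq_mul_left (show 0 < q by omega)
  zify
  rw [h]
  split_ifs with he
  · rw [(Even.add_one he).neg_one_pow]; push_cast; ring
  · rw [((Nat.not_even_iff_odd.1 he).add_one).neg_one_pow]; push_cast [h1]; ring

/-- Number of isotropic vectors (zero included). -/
theorem herm_count_zero (hF : Fintype.card F = q ^ 2) (n : ℕ) :
    Nat.card {v : Fin (n + 1) → F // Cfsg.hermForm (n + 1) F q v v = 0} =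
      (if Even n then (q ^ (n + 1) + 1) * (q ^ n - 1) else (q ^ (n + 1) - 1) * (q ^ n + 1)) + 1 := by
  have h := (herm_count_int hF (n + 1)).1
  have hq := herm_two_le hF
  have h1 : 1 ≤ q ^ (n + 1) := Nat.one_le_pow _ _ (by omega)
  have h2 : 1 ≤ q ^ n := Nat.one_le_pow _ _ (by omega)
  apply Nat.eq_of_mul_eq_mul_left (show 0 < q by omega)
  zify
  rw [h]
  split_ifs with he
  · rw [(Even.add_one he).neg_one_pow]; push_cast [h2]; ring
  · rw [((Nat.not_even_iff_odd.1 he).add_one).neg_one_pow]; push_cast [h1]; ring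

end CfsgLib.ClassicalGroups
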