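import Mathlib
import Cfsg.Prelude.Def_Classical
import Cfsg.Prelude.Def_LieClassical
import Cfsg.Agent.Lib.ClassicalGroups.Count
import Cfsg.Agent.Lib.ClassicalGroups.HermBasic
import Cfsg.Agent.Lib.ClassicalGroups.HermCount
import Cfsg.Agent.Classical.SLGen

/-!
Orders of `GU_n(q)`, `SU_n(q)`, `PSU_n(q)` and the centre of `SU_n(q)`.
-/

set_option autoImplicit false
set_option linter.unusedSectionVars false
set_option linter.unusedVariables false

namespace CfsgLib.ClassicalGroups

open Matrix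

variable {F : Type*} [Field F] [Fintype F] {q : ℕ}

theorem mem_GU_iff {n : ℕ} {g : GL (Fin n) F} :
    g ∈ Cfsg.GU n F q ↔ ∀ u v, Cfsg.hermForm n F q (g.val *ᵥ u) (g.val *ᵥ v) = Cfsg.hermForm n F q u v :=
  Iff.rfl

theorem mem_SU_iff {n : ℕ} {g : SpecialLinearGroup (Fin n) F} :
    g ∈ Cfsg.SU n F q ↔ ∀ u v, Cfsg.hermForm n F q (g.1 *ᵥ u) (g.1 *ᵥ v) = Cfsg.hermForm n F q u v :=
  Iff.rfl

theorem mem_SU_iff_toGL {n : ℕ} {g : SpecialLinearGroup (Fin n) F} :
    g ∈ Cfsg.SU n F q ↔ g.toGL ∈ Cfsg.GU n F q := Iff.rfl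

/-- A linear map preserving the form as an element of `GU`. -/
theorem exists_GU_of_preserving (hF : Fintype.card F = q ^ 2) {n : ℕ} (L : (Fin n → F) →ₗ[F] (Fin n → F))
    (hL : ∀ u v, Cfsg.hermForm n F q (L u) (L v) = Cfsg.hermForm n F q u v) :
    ∃ g : Cfsg.GU n F q, ∀ x, g.1.val *ᵥ x = L x := by
  have hinj : Function.Injective L := by
    rw [injective_iff_map_eq_zero]
    intro x hx
    funext i
    rw [← hermForm_single_right hF n x i, ← hL, hx]
    simp [Cfsg.hermForm]
  have hu : IsUnit (LinearMap.toMatrix' L).det := by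
    rw [LinearMap.det_toMatrix', isUnit_iff_ne_zero]
    intro h
    exact (LinearMap.det_eq_zero_iff_ker_ne_bot.1 h) (LinearMap.ker_eq_bot.2 hinj)
  have hval : ∀ x, (GeneralLinearGroup.mk'' (LinearMap.toMatrix' L) hu).val *ᵥ x = L x := fun x => by
    show LinearMap.toMatrix' L *ᵥ x = L x
    rw [← Matrix.toLin'_apply, Matrix.toLin'_toMatrix']
  exact ⟨⟨_, mem_GU_iff.2 fun u v => by
    have := hL u v
    rw [← hval u, ← hval v] at this
    exact this⟩, hval⟩

/-- `u` can be mapped to `v` when `h(u,v) ≠ 1`. -/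
theorem exists_GU_map_of_ne_one (hF : Fintype.card F = q ^ 2) {n : ℕ} (u v : Fin n → F)
    (hu : Cfsg.hermForm n F q u u = 1) (hv : Cfsg.hermForm n F q v v = 1)
    (hne : Cfsg.hermForm n F q u v ≠ 1) : ∃ g : Cfsg.GU n F q, g.1.val *ᵥ u = v := by
  obtain ⟨w, hw⟩ : ∃ w, w = u - v := ⟨_, rfl⟩
  set k : F := (1 - Cfsg.hermForm n F q u v)⁻¹ with hk
  have hk0 : 1 - Cfsg.hermForm n F q u v ≠ 0 := sub_ne_zero.2 (Ne.symm hne)
  have hkq : k ^ q = (1 - Cfsg.hermForm n F q v u)⁻¹ := by
    rw [hk, ← hermConj_apply hF, map_inv₀, map_sub, map_one, hermConj_apply, ← hermForm_symm hF]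
  have hk0' : 1 - Cfsg.hermForm n F q v u ≠ 0 := by
    intro h
    apply hne
    rw [hermForm_symm hF n v u, ← sub_eq_zero.1 h, one_pow]
  have hww : Cfsg.hermForm n F q w w = (1 - Cfsg.hermForm n F q u v) + (1 - Cfsg.hermForm n F q v u) := by
    rw [hw, hermForm_sub_left, hermForm_sub_right hF, hermForm_sub_right hF, hu, hv]; ring
  have hkey : k ^ q + k = k * k ^ q * Cfsg.hermForm n F q w w := by
    rw [hww, hkq, hk]; field_simp
  let L : (Fin n → F) →ₗ[F] (Fin n → F) :=
    { toFun := fun x => x - (k * Cfsg.hermForm n F q x w) • w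
      map_add' := fun x y => by rw [hermForm_add_left]; module
      map_smul' := fun c x => by rw [hermForm_smul_left, RingHom.id_apply]; module }
  have hL : ∀ x y, Cfsg.hermForm n F q (L x) (L y) = Cfsg.hermForm n F q x y := by
    intro x y
    show Cfsg.hermForm n F q (x - (k * Cfsg.hermForm n F q x w) • w) (y - (k * Cfsg.hermForm n F q y w) • w) = _
    rw [hermForm_sub_left, hermForm_sub_right hF, hermForm_sub_right hF, hermForm_smul_left,
      hermForm_smul_left, hermForm_smul_right, hermForm_smul_right, mul_pow, ← hermForm_symm hF n y w]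
    linear_combination -(Cfsg.hermForm n F q x w * Cfsg.hermForm n F q w y) * hkey
  obtain ⟨g, hg⟩ := exists_GU_of_preserving hF L hL
  refine ⟨g, ?_⟩
  rw [hg]
  show u - (k * Cfsg.hermForm n F q u w) • w = v
  rw [hw, hermForm_sub_right hF, hu, hk, inv_mul_cancel₀ hk0, one_smul, sub_sub_cancel]

/-- `GU_n` is transitive on vectors of norm one. -/
theorem exists_GU_map_norm_one (hF : Fintype.card F = q ^ 2) {n : ℕ} (u v : Fin n → F)
    (hu : Cfsg.hermForm n F q u u = 1) (hv : Cfsg.hermForm n F q v v = 1) :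
    ∃ g : Cfsg.GU n F q, g.1.val *ᵥ u = v := by
  classical
  have hq := herm_two_le hF
  by_cases hne : Cfsg.hermForm n F q u v = 1
  · obtain ⟨l, hl, hl1⟩ : ∃ l : F, l ^ (q + 1) = 1 ∧ l ≠ 1 := by
      by_contra h
      push Not at h
      have hsub : (Finset.univ.filter fun x : F => x ^ (q + 1) = 1) ⊆ {1} := fun x hx => by
        simpa using h x (by simpa using hx)
      have := Finset.card_le_card hsub
      rw [card_pow_succ_eq hF, Finset.card_singleton] at this
      omega
    obtain ⟨s, hs⟩ := exists_GU_of_preserving hF (l • (LinearMap.id : (Fin n → F) →ₗ[F] (Fin n → F))) (fun x y => by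
      simp only [LinearMap.smul_apply, LinearMap.id_apply]
      rw [hermForm_smul_left, hermForm_smul_right, ← mul_assoc, ← pow_succ', hl, one_mul])
    obtain ⟨g, hg⟩ := exists_GU_map_of_ne_one hF (l • u) v
      (by rw [hermForm_smul_left, hermForm_smul_right, ← mul_assoc, ← pow_succ', hl, one_mul, hu])
      hv (by rw [hermForm_smul_left, hne, mul_one]; exact hl1)
    refine ⟨g * s, ?_⟩
    show (g.1.val * s.1.val) *ᵥ u = v
    rw [← Matrix.mulVec_mulVec, hs]
    simpa using hg
  · exact exists_GU_map_of_ne_one hF u v hu hv hne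

/-- The stabiliser of the first standard vector. -/
def guStab (n : ℕ) (F : Type*) [Field F] (q : ℕ) : Subgroup (Cfsg.GU (n + 1) F q) where
  carrier := {g | g.1.val *ᵥ (Fin.cons 1 0) = (Fin.cons 1 0 : Fin (n + 1) → F)}
  mul_mem' {a b} ha hb := by
    show (a.1.val * b.1.val) *ᵥ _ = _
    rw [← Matrix.mulVec_mulVec, hb, ha]
  one_mem' := by simp
  inv_mem' {a} ha := by
    show a.1⁻¹.val *ᵥ _ = _
    conv_lhs => rw [← ha, Matrix.mulVec_mulVec, ← Units.val_mul, inv_mul_cancel, Units.val_one, Matrix.one_mulVec]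

theorem GU_ext {n : ℕ} {g h : Cfsg.GU n F q} (H : ∀ x, g.1.val *ᵥ x = h.1.val *ᵥ x) : g = h :=
  Subtype.ext (Units.ext (Matrix.ext_of_mulVec_single fun i => H _))

theorem cons_one_zero_norm (hF : Fintype.card F = q ^ 2) (n : ℕ) :
    Cfsg.hermForm (n + 1) F q (Fin.cons 1 0) (Fin.cons 1 0) = 1 := by
  rw [hermForm_cons]; simp [Cfsg.hermForm]

/-- The linear map `(a, x) ↦ (a, g x)`. -/
def consBlock {n : ℕ} (M : Matrix (Fin n) (Fin n) F) : (Fin (n + 1) → F) →ₗ[F] (Fin (n + 1) → F) where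
  toFun v := Fin.cons (v 0) (M *ᵥ Fin.tail v)
  map_add' u v := funext fun i => by
    refine Fin.cases ?_ ?_ i <;> simp [Fin.tail_def, mulVec, dotProduct, mul_add, Finset.sum_add_distrib]
  map_smul' c v := funext fun i => by
    refine Fin.cases ?_ ?_ i <;> simp [Fin.tail_def, mulVec, dotProduct, Finset.mul_sum, mul_left_comm]

theorem card_guStab (hF : Fintype.card F = q ^ 2) (n : ℕ) :
    Nat.card (guStab n F q) = Nat.card (Cfsg.GU n F q) := by
  have hex : ∀ g : Cfsg.GU n F q, ∃ G : guStab n F q, ∀ v, G.1.1.val *ᵥ v = consBlock g.1.val v := by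
    intro g
    obtain ⟨G, hG⟩ := exists_GU_of_preserving hF (consBlock g.1.val) (fun u v => by
      show Cfsg.hermForm (n + 1) F q (Fin.cons _ _) (Fin.cons _ _) = _
      conv_rhs => rw [← Fin.cons_self_tail u, ← Fin.cons_self_tail v, hermForm_cons]
      rw [hermForm_cons, mem_GU_iff.1 g.2])
    refine ⟨⟨G, ?_⟩, hG⟩
    show G.1.val *ᵥ _ = _
    rw [hG]
    simp [consBlock]
  choose G hG using hex
  refine (Nat.card_congr (Equiv.ofBijective G ⟨?_, ?_⟩)).symm
  · intro g h e
    refine GU_ext fun x => ?_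
    have := hG g (Fin.cons 0 x)
    rw [e, hG h] at this
    simpa [consBlock] using (congrArg Fin.tail this).symm
  · intro K
    have hK : K.1.1.val *ᵥ (Fin.cons 1 0) = (Fin.cons 1 0 : Fin (n + 1) → F) := K.2
    have h0 : ∀ x : Fin n → F, (K.1.1.val *ᵥ (Fin.cons 0 x)) 0 = 0 := by
      intro x
      have h := mem_GU_iff.1 K.1.2 (Fin.cons 0 x) (Fin.cons 1 0)
      rw [hK, hermForm_cons] at h
      rw [← Fin.cons_self_tail (K.1.1.val *ᵥ Fin.cons 0 x), hermForm_cons] at h
      simpa [Cfsg.hermForm, zero_pow (show q ≠ 0 by have := herm_two_le hF; omega)] using h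
    let L : (Fin n → F) →ₗ[F] (Fin n → F) :=
      { toFun := fun x => Fin.tail (K.1.1.val *ᵥ (Fin.cons 0 x))
        map_add' := fun x y => by
          have : (Fin.cons 0 (x + y) : Fin (n + 1) → F) = Fin.cons 0 x + Fin.cons 0 y :=
            funext fun i => by refine Fin.cases ?_ ?_ i <;> simp
          rw [this, Matrix.mulVec_add]; rfl
        map_smul' := fun c x => by
          have : (Fin.cons 0 (c • x) : Fin (n + 1) → F) = c • (Fin.cons 0 x) :=
            funext fun i => by refine Fin.cases ?_ ?_ i <;> simp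
          rw [this, Matrix.mulVec_smul]; rfl }
    obtain ⟨g, hg⟩ := exists_GU_of_preserving hF L (fun u v => by
      have h := mem_GU_iff.1 K.1.2 (Fin.cons 0 u) (Fin.cons 0 v)
      rw [← Fin.cons_self_tail (K.1.1.val *ᵥ Fin.cons 0 u), ← Fin.cons_self_tail (K.1.1.val *ᵥ Fin.cons 0 v),
        hermForm_cons, hermForm_cons, h0, h0] at h
      show Cfsg.hermForm n F q (Fin.tail (K.1.1.val *ᵥ Fin.cons 0 u)) (Fin.tail (K.1.1.val *ᵥ Fin.cons 0 v)) = _
      simpa using h)
    refine ⟨g, Subtype.ext (GU_ext fun v => ?_)⟩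
    rw [hG]
    have hv : v = v 0 • (Fin.cons 1 0 : Fin (n + 1) → F) + Fin.cons 0 (Fin.tail v) :=
      funext fun i => by refine Fin.cases ?_ ?_ i <;> simp [Fin.tail_def]
    conv_rhs => rw [hv, Matrix.mulVec_add, Matrix.mulVec_smul, hK]
    show (Fin.cons (v 0) (g.1.val *ᵥ Fin.tail v) : Fin (n + 1) → F) = _
    rw [hg]
    funext i
    refine Fin.cases ?_ ?_ i
    · simp [h0]
    · intro j; simp [L, Fin.tail_def]

theorem card_GU_succ (hF : Fintype.card F = q ^ 2) (n : ℕ) :
    Nat.card (Cfsg.GU (n + 1) F q) =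
      Nat.card {v : Fin (n + 1) → F // Cfsg.hermForm (n + 1) F q v v = 1} * Nat.card (Cfsg.GU n F q) := by
  rw [← card_guStab hF n]
  refine natCard_eq_image_mul (guStab n F q) (fun g => g.1.val *ᵥ (Fin.cons 1 0))
    {v | Cfsg.hermForm (n + 1) F q v v = 1} (fun a b => ?_) (fun g => ?_) ?_
  · show _ ↔ (a.1⁻¹.val * b.1.val) *ᵥ _ = _
    rw [← Matrix.mulVec_mulVec]
    constructor
    · intro h; rw [← h, Matrix.mulVec_mulVec, ← Units.val_mul, inv_mul_cancel, Units.val_one, Matrix.one_mulVec]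
    · intro h
      conv_lhs => rw [← h, Matrix.mulVec_mulVec, ← Units.val_mul, mul_inv_cancel, Units.val_one, Matrix.one_mulVec]
  · show Cfsg.hermForm (n + 1) F q _ _ = 1
    rw [mem_GU_iff.1 g.2, cons_one_zero_norm hF]
  · intro v hv
    exact exists_GU_map_norm_one hF _ v (cons_one_zero_norm hF n) hv

/-- `|GU_n(q)|`. -/
theorem card_GU (hF : Fintype.card F = q ^ 2) (n : ℕ) :
    Nat.card (Cfsg.GU n F q) =
      q ^ (n * (n - 1) / 2) * ∏ i ∈ Finset.range n, (if Even i then q ^ (i + 1) + 1 else q ^ (i + 1) - 1) := by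
  induction n with
  | zero =>
    have : Subsingleton (GL (Fin 0) F) := ⟨fun a b => Units.ext (Matrix.ext fun i => i.elim0)⟩
    rw [Nat.card_of_subsingleton (1 : Cfsg.GU 0 F q)]
    simp
  | succ n ih =>
    rw [card_GU_succ hF n, herm_count_one hF n, ih, Finset.prod_range_succ,
      show (n + 1) * (n + 1 - 1) / 2 = n * (n - 1) / 2 + n by
        rw [Nat.add_sub_cancel, ← Finset.sum_range_id n, ← Finset.sum_range_succ (fun i => i) n,
          Finset.sum_range_id (n + 1), Nat.add_sub_cancel],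
      pow_add]
    split_ifs <;> ring

theorem GU_det_pow (hF : Fintype.card F = q ^ 2) {n : ℕ} (g : Cfsg.GU n F q) :
    (GeneralLinearGroup.det g.1) ^ (q + 1) = 1 := by
  have hgram : g.1.valᵀ * g.1.val.map (hermConj hF) = 1 := by
    ext i j
    have h := mem_GU_iff.1 g.2 (Pi.single i 1) (Pi.single j 1)
    rw [hermForm_single_right hF n (Pi.single i 1) j] at h
    simpa [Cfsg.hermForm, Matrix.mul_apply, Pi.single_apply, Matrix.one_apply, eq_comm] using h
  have h := congrArg Matrix.det hgram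
  rw [det_mul, det_transpose, det_one, ← RingHom.mapMatrix_apply, ← RingHom.map_det, hermConj_apply] at h
  apply Units.ext
  rw [Units.val_pow_eq_pow_val, Units.val_one, GeneralLinearGroup.val_det_apply, pow_succ']
  exact h

theorem diagonal_mem_GU {n : ℕ} (d : Fin n → F) (hd : ∀ i, d i ^ (q + 1) = 1) (g : GL (Fin n) F)
    (hg : g.val = diagonal d) : g ∈ Cfsg.GU n F q := by
  rw [mem_GU_iff]
  intro u v
  simp only [hg, Matrix.mulVec_diagonal, Cfsg.hermForm]
  refine Finset.sum_congr rfl fun i _ => ?_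
  rw [mul_pow]
  linear_combination (u i * v i ^ q) * hd i

theorem card_SU_mul (hF : Fintype.card F = q ^ 2) {n : ℕ} (hn : 1 ≤ n) :
    (q + 1) * Nat.card (Cfsg.SU n F q) = Nat.card (Cfsg.GU n F q) := by
  classical
  set ψ : Cfsg.GU n F q →* Fˣ := GeneralLinearGroup.det.comp (Cfsg.GU n F q).subtype with hψ
  have hr : ψ.range = (powMonoidHom (q + 1) : Fˣ →* Fˣ).ker := by
    refine le_antisymm ?_ fun u hu => ?_
    · rintro _ ⟨g, rfl⟩; exact GU_det_pow hF g
    · have hu' : (u : F) ^ (q + 1) = 1 := congrArg Units.val (show u ^ (q + 1) = 1 from hu)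
      let d : Fin n → F := fun i => if i = ⟨0, hn⟩ then (u : F) else 1
      have hdet : (diagonal d).det = (u : F) := by
        rw [det_diagonal]
        simp [d, Finset.prod_ite_eq']
      let g : GL (Fin n) F := GeneralLinearGroup.mkOfDetNeZero (diagonal d) (by rw [hdet]; exact u.ne_zero)
      refine ⟨⟨g, diagonal_mem_GU d (fun i => ?_) g rfl⟩, Units.ext hdet⟩
      by_cases hi : i = ⟨0, hn⟩ <;> simp [d, hi, hu']
  have hk : Nat.card ψ.ker = Nat.card (Cfsg.SU n F q) := Nat.card_congr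
    { toFun := fun g => ⟨⟨g.1.1.val, congrArg Units.val (show GeneralLinearGroup.det g.1.1 = 1 from g.2)⟩,
        mem_SU_iff.2 (mem_GU_iff.1 g.1.2)⟩
      invFun := fun s => ⟨⟨s.1.toGL, mem_SU_iff_toGL.1 s.2⟩, Units.ext s.1.prop⟩
      left_inv := fun g => Subtype.ext (Subtype.ext (Units.ext rfl))
      right_inv := fun s => rfl }
  rw [← ψ.ker.card_mul_index, Subgroup.index_ker, hk, hr, card_norm_one_units hF, mul_comm]

theorem exists_norm_one_sq_ne (hF : Fintype.card F = q ^ 2) :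
    ∃ l : F, l ^ (q + 1) = 1 ∧ l * l ≠ 1 := by
  classical
  by_contra h
  push Not at h
  have hq := herm_two_le hF
  have hsub : (Finset.univ.filter fun x : F => x ^ (q + 1) = 1) ⊆ ({1, -1} : Finset F) := fun x hx => by
    simpa using mul_self_eq_one_iff.1 (h x (by simpa using hx))
  have := (Finset.card_le_card hsub).trans Finset.card_le_two
  rw [card_pow_succ_eq hF] at this
  omega

theorem scalar_mem_SU {n : ℕ} {l : F} (h1 : l ^ n = 1) (h2 : l ^ (q + 1) = 1) :
    ∃ g : Cfsg.SU n F q, g.1.1 = diagonal (fun _ => l) := by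
  let s : SpecialLinearGroup (Fin n) F := ⟨diagonal (fun _ => l), by simp [h1]⟩
  exact ⟨⟨s, mem_SU_iff_toGL.2 (diagonal_mem_GU _ (fun _ => h2) _ rfl)⟩, rfl⟩

theorem center_SU_scalar (hF : Fintype.card F = q ^ 2) {n : ℕ} (z : Subgroup.center (Cfsg.SU n F q)) :
    ∀ k l : Fin n, (k ≠ l → z.1.1.1 k l = 0) ∧ z.1.1.1 k k = z.1.1.1 l l := by
  classical
  obtain ⟨a, ha, ha2⟩ := exists_norm_one_sq_ne hF
  have ha0 : a ≠ 0 := fun h => by simp [h, zero_pow] at ha
  intro k l
  rcases eq_or_ne k l with rfl | hkl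
  · exact ⟨fun h => absurd rfl h, rfl⟩
  · have hd : SpecialLinearGroup.diag2n hkl a ha0 ∈ Cfsg.SU n F q := by
      refine mem_SU_iff_toGL.2 (diagonal_mem_GU _ (fun i => ?_) _ (SpecialLinearGroup.diag2n_coe hkl a ha0))
      split_ifs
      · exact ha
      · rw [inv_pow, ha, inv_one]
      · exact one_pow _
    have h1 : ((SpecialLinearGroup.diag2n hkl a ha0).1 * z.1.1.1) k l =
        (z.1.1.1 * (SpecialLinearGroup.diag2n hkl a ha0).1) k l :=
      congrArg (fun g : Cfsg.SU n F q => g.1.1 k l) (Subgroup.mem_center_iff.1 z.2 ⟨_, hd⟩)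
    rw [SpecialLinearGroup.diag2n_coe, Matrix.diagonal_mul, Matrix.mul_diagonal] at h1
    simp only [if_true, if_neg hkl.symm] at h1
    have hz : z.1.1.1 k l = 0 := by
      by_contra hz
      rw [mul_comm] at h1
      exact ha2 (by nth_rewrite 1 [mul_left_cancel₀ hz h1]; exact inv_mul_cancel₀ ha0)
    let w : SpecialLinearGroup (Fin n) F :=
      SpecialLinearGroup.transvection hkl 1 * SpecialLinearGroup.transvection hkl.symm (-(1 : F)⁻¹) *
        SpecialLinearGroup.transvection hkl 1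
    have hw' := Cfsg.Agent.Classical.slWeyl_coe hkl (1 : F) one_ne_zero
    have hwv : ∀ (x : Fin n → F) (i : Fin n),
        (w.1 *ᵥ x) i = if i = k then x l else if i = l then -x k else x i := by
      intro x i
      rw [show w.1 = _ from hw']
      simp only [Matrix.add_mulVec, Matrix.one_mulVec, Matrix.single_mulVec_eq, inv_one, Pi.add_apply,
        Pi.smul_apply, Pi.single_apply, smul_eq_mul]
      by_cases hik : i = k
      · subst hik; simp [hkl]
      · by_cases hil : i = l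
        · subst hil; simp [hik]
        · simp [hik, hil]
    have hw : w ∈ Cfsg.SU n F q := by
      rw [mem_SU_iff]
      intro u v
      simp only [Cfsg.hermForm, hwv]
      rw [← Equiv.sum_comp (Equiv.swap k l) (fun i => u i * v i ^ q)]
      refine Finset.sum_congr rfl fun i _ => ?_
      by_cases hik : i = k
      · simp [hik]
      · by_cases hil : i = l
        · subst hil
          rw [if_neg hik, if_pos rfl, if_neg hik, if_pos rfl, Equiv.swap_apply_right,
            ← hermConj_apply hF (-v k), map_neg, hermConj_apply]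
          ring
        · rw [if_neg hik, if_neg hil, if_neg hik, if_neg hil, Equiv.swap_apply_of_ne_of_ne hik hil]
    have h2 : ((w.1 * z.1.1.1) *ᵥ Pi.single l 1) k = ((z.1.1.1 * w.1) *ᵥ Pi.single l 1) k :=
      congrArg (fun g : Cfsg.SU n F q => (g.1.1 *ᵥ Pi.single l 1) k) (Subgroup.mem_center_iff.1 z.2 ⟨_, hw⟩)
    rw [← Matrix.mulVec_mulVec, ← Matrix.mulVec_mulVec] at h2
    have h3 : w.1 *ᵥ Pi.single l 1 = Pi.single k 1 := by
      funext i
      rw [hwv]
      by_cases hik : i = k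
      · simp [hik]
      · by_cases hil : i = l
        · simp [hil, hkl, hkl.symm]
        · simp [hik, hil]
    rw [hwv, if_pos rfl, h3] at h2
    exact ⟨fun _ => hz, by simpa using h2.symm⟩

/-- `|Z(SU_n(q))| = gcd(n, q+1)`, `n ≥ 1`. -/
theorem card_center_SU (hF : Fintype.card F = q ^ 2) {n : ℕ} (hn : 1 ≤ n) :
    Nat.card (Subgroup.center (Cfsg.SU n F q)) = Nat.gcd n (q + 1) := by
  have hcard : Nat.card (powMonoidHom (Nat.gcd n (q + 1)) : Fˣ →* Fˣ).ker = Nat.gcd n (q + 1) := by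
    rw [IsCyclic.card_powMonoidHom_ker, card_units_herm hF]
    exact Nat.gcd_eq_right (dvd_trans (Nat.gcd_dvd_right _ _) (Dvd.intro_left _ rfl))
  rw [← hcard]
  symm
  have hmem : ∀ u : (powMonoidHom (Nat.gcd n (q + 1)) : Fˣ →* Fˣ).ker,
      ∃ g : Subgroup.center (Cfsg.SU n F q), g.1.1.1 = diagonal (fun _ => (u.1 : F)) := by
    intro u
    have hu : (u.1 : F) ^ Nat.gcd n (q + 1) = 1 :=
      congrArg Units.val (show u.1 ^ Nat.gcd n (q + 1) = 1 from u.2)
    have hdvd : ∀ {m : ℕ}, Nat.gcd n (q + 1) ∣ m → (u.1 : F) ^ m = 1 := by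
      rintro m ⟨c, rfl⟩; rw [pow_mul, hu, one_pow]
    obtain ⟨g, hg⟩ := scalar_mem_SU (hdvd (Nat.gcd_dvd_left _ _)) (hdvd (Nat.gcd_dvd_right _ _))
    refine ⟨⟨g, Subgroup.mem_center_iff.2 fun h => Subtype.ext (Subtype.ext ?_)⟩, hg⟩
    show h.1.1 * g.1.1 = g.1.1 * h.1.1
    rw [hg]
    ext i j
    simp [Matrix.diagonal_mul, Matrix.mul_diagonal, mul_comm]
  choose f hf using hmem
  refine Nat.card_congr (Equiv.ofBijective f ⟨?_, ?_⟩)
  · intro u v e
    have h := congrArg (fun M => M ⟨0, hn⟩ ⟨0, hn⟩) ((hf u).symm.trans ((congrArg (fun g => g.1.1.1) e).trans (hf v)))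
    simp only [Matrix.diagonal_apply_eq] at h
    exact Subtype.ext (Units.ext h)
  · intro z
    set c := z.1.1.1 ⟨0, hn⟩ ⟨0, hn⟩ with hc
    have hz : z.1.1.1 = diagonal (fun _ => c) := by
      ext i j
      by_cases hij : i = j
      · subst hij; rw [Matrix.diagonal_apply_eq]; exact (center_SU_scalar hF z i ⟨0, hn⟩).2
      · rw [Matrix.diagonal_apply_ne _ hij]; exact (center_SU_scalar hF z i j).1 hij
    have hcn : c ^ n = 1 := by
      have := z.1.1.prop
      rw [hz] at this
      simpa using this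
    have hcq : c ^ (q + 1) = 1 := by
      have h := mem_SU_iff.1 z.1.2 (Pi.single ⟨0, hn⟩ 1) (Pi.single ⟨0, hn⟩ 1)
      rw [hz] at h
      rw [hermForm_single_right hF] at h
      simpa [Cfsg.hermForm, Matrix.mulVec_diagonal, Pi.single_apply, pow_succ',
        zero_pow (show q ≠ 0 by have := herm_two_le hF; omega)] using h
    have hc0 : c ≠ 0 := fun h => by rw [h, zero_pow (by omega)] at hcq; exact zero_ne_one hcq
    have hu : Units.mk0 c hc0 ^ Nat.gcd n (q + 1) = 1 :=
      pow_gcd_eq_one.2 ⟨Units.ext hcn, Units.ext hcq⟩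
    refine ⟨⟨Units.mk0 c hc0, hu⟩, Subtype.ext (Subtype.ext (Subtype.ext ?_))⟩
    rw [hf]
    exact hz.symm

theorem card_SU_eq_center_mul_PSU (n : ℕ) :
    Nat.card (Cfsg.SU n F q) =
      Nat.card (Subgroup.center (Cfsg.SU n F q)) * Nat.card (Cfsg.PSU n F q) := by
  rw [mul_comm]
  exact Subgroup.card_eq_card_quotient_mul_card_subgroup _

end CfsgLib.ClassicalGroups
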