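import Mathlib
import Cfsg.Prelude.Def_Classical
import Cfsg.Prelude.Def_LieClassical
import Cfsg.Prelude.Def_ClassicalGeometry
import Cfsg.Agent.Lib.ClassicalGroups.HermGroup
import Cfsg.Agent.Lib.Forms.Witt

/-!
Tools for `SU_n(q)`: rank two isometries, partners, norm one vectors in orthogonal complements,
Witt's lemma with determinant control.
-/

set_option autoImplicit false
set_option linter.unusedSectionVars false

namespace CfsgLib.ClassicalGroups

open Matrix

variable {F : Type*} [Field F] [Fintype F] {q n : ℕ}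

local notation "𝕙" => Cfsg.hermForm n F q

theorem hermForm_zero_left (v : Fin n → F) : 𝕙 0 v = 0 := by simp [Cfsg.hermForm]

theorem hermForm_zero_right (hF : Fintype.card F = q ^ 2) (v : Fin n → F) : 𝕙 v 0 = 0 := by
  have := herm_two_le hF
  simp [Cfsg.hermForm, zero_pow (show q ≠ 0 by omega)]

theorem hermForm_add_right (hF : Fintype.card F = q ^ 2) (u v v' : Fin n → F) :
    𝕙 u (v + v') = 𝕙 u v + 𝕙 u v' := by
  simp only [Cfsg.hermForm, Pi.add_apply, ← Finset.sum_add_distrib, ← mul_add]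
  refine Finset.sum_congr rfl fun i _ => ?_
  rw [← hermConj_apply hF, map_add]; simp

theorem herm_conj_add (hF : Fintype.card F = q ^ 2) (a b : F) : (a + b) ^ q = a ^ q + b ^ q :=
  map_add (hermConj hF) a b

theorem herm_conj_sub (hF : Fintype.card F = q ^ 2) (a b : F) : (a - b) ^ q = a ^ q - b ^ q :=
  map_sub (hermConj hF) a b

theorem herm_conj_neg (hF : Fintype.card F = q ^ 2) (a : F) : (-a) ^ q = -a ^ q :=
  map_neg (hermConj hF) a

theorem herm_conj_zero (hF : Fintype.card F = q ^ 2) : (0 : F) ^ q = 0 := map_zero (hermConj hF)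

theorem hermConj_hermConj (hF : Fintype.card F = q ^ 2) (a : F) : hermConj hF (hermConj hF a) = a :=
  hermConj_conj hF a

theorem hermConj_ne_id (hF : Fintype.card F = q ^ 2) : hermConj hF ≠ RingHom.id F := fun h => by
  obtain ⟨l, hl, hl2⟩ := exists_norm_one_sq_ne hF
  refine hl2 ?_
  have h1 : l ^ q = l := by simpa using RingHom.congr_fun h l
  rw [pow_succ, h1] at hl
  exact hl

/-- A nonzero element of trace zero. -/
theorem exists_trace_zero (hF : Fintype.card F = q ^ 2) : ∃ d : F, d ≠ 0 ∧ d ^ q = -d := by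
  obtain ⟨x, hx⟩ : ∃ x : F, x ^ q ≠ x := by
    by_contra! h
    exact hermConj_ne_id hF (RingHom.ext h)
  exact ⟨x ^ q - x, sub_ne_zero.2 hx, by rw [herm_conj_sub hF, hermConj_conj hF]; ring⟩

theorem exists_trace (hF : Fintype.card F = q ^ 2) {b : F} (hb : b ^ q = b) : ∃ d : F, d + d ^ q = b :=
  CfsgLib.Forms.exists_trace_eq (hermConj_ne_id hF) (hermConj_hermConj hF) b hb

theorem exists_hilbert90 (hF : Fintype.card F = q ^ 2) {l : F} (hl : l ^ (q + 1) = 1) :
    ∃ a : F, a ≠ 0 ∧ a ^ q = l * a := by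
  obtain ⟨t, ht⟩ : ∃ t : F, t + l ^ q * t ^ q ≠ 0 := by
    by_contra! h
    obtain ⟨x, hx⟩ : ∃ x : F, x ^ q ≠ x := by
      by_contra! h'
      exact hermConj_ne_id hF (RingHom.ext h')
    have h1 := h 1
    rw [one_pow, mul_one] at h1
    exact hx (by linear_combination -(h x) + x ^ q * h1)
  refine ⟨_, ht, ?_⟩
  rw [herm_conj_add hF, mul_pow, hermConj_conj hF, hermConj_conj hF]
  linear_combination (-(t ^ q)) * hl

/-! ### Rank two isometries -/

/-- The matrix of `x ↦ x + h(x,p) a + h(x,r) b`. -/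
def rankTwoMat (q : ℕ) (a p b r : Fin n → F) : Matrix (Fin n) (Fin n) F :=
  1 + (Matrix.of fun i (j : Fin 2) => ![a i, b i] j) * (Matrix.of fun (j : Fin 2) i => ![p i ^ q, r i ^ q] j)

theorem rankTwoMat_mulVec (a p b r x : Fin n → F) :
    rankTwoMat q a p b r *ᵥ x = x + 𝕙 x p • a + 𝕙 x r • b := by
  funext i
  rw [rankTwoMat, add_mulVec, one_mulVec, ← mulVec_mulVec]
  simp only [Pi.add_apply, Pi.smul_apply, smul_eq_mul, Cfsg.hermForm]
  rw [add_assoc]
  congr 1
  simp [mulVec, dotProduct, Fin.sum_univ_two, mul_comm]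

theorem rankTwoMat_det (a p b r : Fin n → F) :
    (rankTwoMat q a p b r).det = (1 + 𝕙 a p) * (1 + 𝕙 b r) - 𝕙 b p * 𝕙 a r := by
  rw [rankTwoMat, det_one_add_mul_comm, det_fin_two]
  simp [Matrix.mul_apply, Cfsg.hermForm, mul_comm]

theorem exists_GU_rankTwo (hF : Fintype.card F = q ^ 2) (a p b r : Fin n → F)
    (h : ∀ x y, 𝕙 (x + 𝕙 x p • a + 𝕙 x r • b) (y + 𝕙 y p • a + 𝕙 y r • b) = 𝕙 x y) :
    ∃ g : Cfsg.GU n F q, g.1.val = rankTwoMat q a p b r ∧
      ∀ x, g.1.val *ᵥ x = x + 𝕙 x p • a + 𝕙 x r • b := by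
  obtain ⟨g, hg⟩ := exists_GU_of_preserving hF (Matrix.toLin' (rankTwoMat q a p b r)) (fun x y => by
    simp only [Matrix.toLin'_apply, rankTwoMat_mulVec]; exact h x y)
  refine ⟨g, Matrix.ext_of_mulVec_single fun i => ?_, fun x => ?_⟩
  · rw [hg, Matrix.toLin'_apply]
  · rw [hg, Matrix.toLin'_apply, rankTwoMat_mulVec]

theorem exists_SU_of_GU (g : Cfsg.GU n F q) (hd : g.1.val.det = 1) :
    ∃ s : Cfsg.SU n F q, s.1.1 = g.1.val :=
  ⟨⟨⟨g.1.val, hd⟩, mem_SU_iff.2 (mem_GU_iff.1 g.2)⟩, rfl⟩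

/-- `SU` inside `GU`. -/
def suToGU (n : ℕ) (F : Type*) [Field F] (q : ℕ) : Cfsg.SU n F q →* Cfsg.GU n F q where
  toFun s := ⟨s.1.toGL, s.2⟩
  map_one' := Subtype.ext (map_one _)
  map_mul' s t := Subtype.ext (map_mul SpecialLinearGroup.toGL s.1 t.1)

theorem suToGU_val (s : Cfsg.SU n F q) : (suToGU n F q s).1.val = s.1.1 := rfl

theorem suToGU_injective : Function.Injective (suToGU n F q) := fun s t h =>
  Subtype.ext (SpecialLinearGroup.toGL_injective (congrArg Subtype.val h))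

/-! ### Vectors -/

/-- If a family of at most `n - 1` vectors has an orthogonal projection, some vector orthogonal to it
has norm one. -/
theorem exists_norm_one_perp (hF : Fintype.card F = q ^ 2) {m : ℕ} (f : Fin m → (Fin n → F)) (hm : m < n)
    (π : (Fin n → F) → (Fin n → F)) (hπ : ∀ x i, 𝕙 (π x) (f i) = 0)
    (hs : ∀ x, x - π x ∈ Submodule.span F (Set.range f)) :
    ∃ z, 𝕙 z z = 1 ∧ ∀ i, 𝕙 z (f i) = 0 := by
  by_cases hex : ∃ z, 𝕙 z z ≠ 0 ∧ ∀ i, 𝕙 z (f i) = 0
  · obtain ⟨z, hz, hzf⟩ := hex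
    obtain ⟨s, hs0, hs'⟩ := exists_norm_eq hF (hermForm_self_conj hF n z) hz
    refine ⟨s⁻¹ • z, ?_, fun i => by rw [hermForm_smul_left, hzf, mul_zero]⟩
    rw [hermForm_smul_left, hermForm_smul_right, ← mul_assoc, ← pow_succ', inv_pow, hs', inv_mul_cancel₀ hz]
  · exfalso
    push Not at hex
    have hP : ∀ z, (∀ i, 𝕙 z (f i) = 0) → 𝕙 z z = 0 := fun z hz => by
      by_contra h
      obtain ⟨i, hi⟩ := hex z h
      exact hi (hz i)
    have hPP : ∀ a b, (∀ i, 𝕙 a (f i) = 0) → (∀ i, 𝕙 b (f i) = 0) → 𝕙 a b = 0 := by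
      intro a b ha hb
      by_contra hab
      obtain ⟨x, hx⟩ : ∃ x : F, x ^ q ≠ x := by
        by_contra! h'
        exact hermConj_ne_id hF (RingHom.ext h')
      have key : ∀ l : F, l * 𝕙 a b + (l * 𝕙 a b) ^ q = 0 := by
        intro l
        have h := hP (l • a + b) (fun i => by rw [hermForm_add_left, hermForm_smul_left, ha, hb]; ring)
        rw [hermForm_add_left, hermForm_add_right hF, hermForm_add_right hF, hermForm_smul_left,
          hermForm_smul_left, hermForm_smul_right, hermForm_smul_right, hP a ha, hP b hb,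
          hermForm_symm hF n a b, ← mul_pow] at h
        linear_combination h
      have h1 := key (x / 𝕙 a b)
      have h2 := key (1 / 𝕙 a b)
      rw [div_mul_cancel₀ _ hab] at h1 h2
      rw [one_pow] at h2
      exact hx (by linear_combination h1 - x * h2)
    have hzero : ∀ x, π x = 0 := by
      intro x
      funext i
      have hperp : ∀ u ∈ Submodule.span F (Set.range f), 𝕙 (π x) u = 0 := by
        intro u hu
        induction hu using Submodule.span_induction with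
        | mem u hu => obtain ⟨j, rfl⟩ := hu; exact hπ x j
        | zero => exact hermForm_zero_right hF _
        | add u v _ _ h h' => rw [hermForm_add_right hF, h, h', add_zero]
        | smul c u _ h => rw [hermForm_smul_right, h, mul_zero]
      rw [← hermForm_single_right hF n (π x) i]
      set e : Fin n → F := Pi.single i 1
      have he := hperp _ (hs e)
      rw [hermForm_sub_right hF, hPP _ _ (hπ x) (hπ e), sub_zero] at he
      exact he
    have htop : Submodule.span F (Set.range f) = ⊤ :=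
      eq_top_iff.2 fun x _ => by simpa [hzero] using hs x
    have h1 := finrank_range_le_card (R := F) f
    rw [Set.finrank, htop, finrank_top, Module.finrank_fin_fun, Fintype.card_fin] at h1
    omega

theorem exists_pairing_ne (hF : Fintype.card F = q ^ 2) {v : Fin n → F} (hv : v ≠ 0) :
    ∃ x, 𝕙 v x = 1 := by
  obtain ⟨i, hi⟩ := Function.ne_iff.1 hv
  refine ⟨((v i)⁻¹) ^ q • Pi.single i 1, ?_⟩
  rw [hermForm_smul_right, hermForm_single_right hF, hermConj_conj hF, inv_mul_cancel₀ hi]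

/-- Adjusting a vector pairing to one with `x` to an isotropic one. -/
theorem exists_isotropic_adjust (hF : Fintype.card F = q ^ 2) {x p : Fin n → F} (hx : 𝕙 x x = 0)
    (hxp : 𝕙 x p = 1) : ∃ d : F, 𝕙 (p + d • x) (p + d • x) = 0 ∧ 𝕙 x (p + d • x) = 1 := by
  obtain ⟨d, hd⟩ := exists_trace hF (b := -𝕙 p p) (by rw [herm_conj_neg hF, hermForm_self_conj hF])
  have hpx : 𝕙 p x = 1 := by rw [hermForm_symm hF n x p, hxp, one_pow]
  refine ⟨d, ?_, by rw [hermForm_add_right hF, hermForm_smul_right, hxp, hx]; ring⟩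
  rw [hermForm_add_left, hermForm_add_right hF, hermForm_add_right hF, hermForm_smul_left,
    hermForm_smul_left, hermForm_smul_right, hermForm_smul_right, hxp, hpx, hx]
  linear_combination hd

/-- Every nonzero isotropic vector lies in a hyperbolic pair. -/
theorem exists_partner (hF : Fintype.card F = q ^ 2) {x : Fin n → F} (hx0 : x ≠ 0) (hx : 𝕙 x x = 0) :
    ∃ y, 𝕙 y y = 0 ∧ 𝕙 x y = 1 := by
  obtain ⟨p, hp⟩ := exists_pairing_ne hF hx0
  obtain ⟨d, h1, h2⟩ := exists_isotropic_adjust hF hx hp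
  exact ⟨_, h1, h2⟩

/-- A norm one vector orthogonal to a hyperbolic pair. -/
theorem exists_norm_one_perp_pair (hF : Fintype.card F = q ^ 2) (hn : 3 ≤ n) {x y : Fin n → F}
    (hx : 𝕙 x x = 0) (hy : 𝕙 y y = 0) (hxy : 𝕙 x y = 1) :
    ∃ e, 𝕙 e e = 1 ∧ 𝕙 e x = 0 ∧ 𝕙 e y = 0 := by
  have hyx : 𝕙 y x = 1 := by rw [hermForm_symm hF n x y, hxy, one_pow]
  obtain ⟨e, h1, h2⟩ := exists_norm_one_perp hF (n := n) ![x, y] (by omega)
    (fun z => z - 𝕙 z y • x - 𝕙 z x • y)
    (fun z => Fin.forall_fin_two.2 ⟨by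
      show 𝕙 _ x = 0
      rw [hermForm_sub_left, hermForm_sub_left, hermForm_smul_left, hermForm_smul_left, hx, hyx]; ring,
      by
      show 𝕙 _ y = 0
      rw [hermForm_sub_left, hermForm_sub_left, hermForm_smul_left, hermForm_smul_left, hy, hxy]; ring⟩)
    (fun z => by
      rw [show z - (z - 𝕙 z y • x - 𝕙 z x • y) = 𝕙 z y • x + 𝕙 z x • y by abel]
      exact add_mem (Submodule.smul_mem _ _ (Submodule.subset_span ⟨0, rfl⟩))
        (Submodule.smul_mem _ _ (Submodule.subset_span ⟨1, rfl⟩)))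
  exact ⟨e, h1, h2 0, h2 1⟩

/-! ### Witt's lemma with determinant control -/

/-- The scaling `x ↦ a x`, `y ↦ a^{-q} y` of a hyperbolic pair, trivial on its complement. -/
theorem exists_GU_scale (hF : Fintype.card F = q ^ 2) {x y : Fin n → F} (hx : 𝕙 x x = 0)
    (hy : 𝕙 y y = 0) (hxy : 𝕙 x y = 1) {a : F} (ha : a ≠ 0) :
    ∃ g : Cfsg.GU n F q, g.1.val.det = a / a ^ q ∧ g.1.val *ᵥ x = a • x ∧
      g.1.val *ᵥ y = (a ^ q)⁻¹ • y ∧ ∀ z, 𝕙 z x = 0 → 𝕙 z y = 0 → g.1.val *ᵥ z = z := by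
  have hyx : 𝕙 y x = 1 := by rw [hermForm_symm hF n x y, hxy, one_pow]
  have haq : a ^ q ≠ 0 := pow_ne_zero _ ha
  have hb : ((a ^ q)⁻¹) ^ q = a⁻¹ := by rw [inv_pow, hermConj_conj hF]
  obtain ⟨g, hg, hgx⟩ := exists_GU_rankTwo hF ((a - 1) • x) y (((a ^ q)⁻¹ - 1) • y) x (by
    intro u v
    simp only [hermForm_add_left, hermForm_add_right hF, hermForm_smul_left, hermForm_smul_right,
      hx, hy, hxy, hyx, herm_conj_sub hF, one_pow, hb]
    rw [← hermForm_symm hF n v x, ← hermForm_symm hF n v y]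
    field_simp
    ring)
  refine ⟨g, ?_, ?_, ?_, fun z h1 h2 => by rw [hgx, h1, h2]; simp⟩
  · rw [hg, rankTwoMat_det]
    simp only [hermForm_smul_left, hx, hy, hxy, hyx]
    field_simp; ring
  · rw [hgx, hx, hxy]; module
  · rw [hgx, hy, hyx]; module

/-- The form as a sesquilinear map, semilinear in the first argument. -/
def hermSesq (hF : Fintype.card F = q ^ 2) (n : ℕ) :
    (Fin n → F) →ₛₗ[hermConj hF] (Fin n → F) →ₗ[F] F :=
  LinearMap.mk₂'ₛₗ (hermConj hF) (RingHom.id F) (fun u v => Cfsg.hermForm n F q v u)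
    (fun u u' v => hermForm_add_right hF v u u') (fun c u v => hermForm_smul_right n c v u)
    (fun u v v' => hermForm_add_left n v v' u) (fun c u v => hermForm_smul_left n c v u)

theorem exists_GU_family (hF : Fintype.card F = q ^ 2) {m : ℕ} (x y : Fin m → (Fin n → F))
    (hx : LinearIndependent F x) (hy : LinearIndependent F y)
    (hxy : ∀ i j, 𝕙 (x i) (x j) = 𝕙 (y i) (y j)) :
    ∃ g : Cfsg.GU n F q, ∀ i, g.1.val *ᵥ x i = y i := by
  obtain ⟨L, hL, hLx⟩ := CfsgLib.Forms.herm_witt_family (hermSesq hF n) (hermConj_ne_id hF)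
    (hermConj_hermConj hF) (fun u v => (hermForm_symm hF n v u).symm) (fun u hu => by
      funext i
      have h := hu (Pi.single i 1)
      change 𝕙 (Pi.single i 1) u = 0 at h
      rw [hermForm_symm hF n u, hermForm_single_right hF] at h
      exact eq_zero_of_pow_eq_zero h)
    x y hx hy (fun i j => hxy j i)
  obtain ⟨g, hg⟩ := exists_GU_of_preserving hF L.toLinearMap (fun u v => hL v u)
  exact ⟨g, fun i => by rw [hg]; exact hLx i⟩

theorem li_pair_nonorth (hF : Fintype.card F = q ^ 2) {x y : Fin n → F} (hx : 𝕙 x x = 0) (hy : 𝕙 y y = 0) (hxy : 𝕙 x y ≠ 0) :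
    LinearIndependent F ![x, y] := by
  rw [linearIndependent_fin2]
  refine ⟨fun h => hxy ?_, fun a h => hxy ?_⟩
  · simp only [Matrix.cons_val_one, Matrix.cons_val_zero] at h
    rw [h, hermForm_zero_right hF]
  · simp only [Matrix.cons_val_one, Matrix.cons_val_zero] at h
    rw [← h, hermForm_smul_left, hy, mul_zero]

/-- `SU` is transitive on pairs of lines spanned by hyperbolic pairs. -/
theorem exists_SU_map_nonorth (hF : Fintype.card F = q ^ 2) {x y x' y' : Fin n → F}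
    (hx : 𝕙 x x = 0) (hy : 𝕙 y y = 0) (hxy : 𝕙 x y ≠ 0)
    (hx' : 𝕙 x' x' = 0) (hy' : 𝕙 y' y' = 0) (hxy' : 𝕙 x' y' ≠ 0) :
    ∃ (s : Cfsg.SU n F q) (a b : F), a ≠ 0 ∧ b ≠ 0 ∧ s.1.1 *ᵥ x = a • x' ∧ s.1.1 *ᵥ y = b • y' := by
  set k : F := (𝕙 x y / 𝕙 x' y')
  have hk : k ≠ 0 := div_ne_zero hxy hxy'
  obtain ⟨g, hg⟩ := exists_GU_family hF ![x, y] ![k • x', y'] (li_pair_nonorth hF hx hy hxy)
    (li_pair_nonorth hF (by rw [hermForm_smul_left, hermForm_smul_right, hx']; ring) hy'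
      (by rw [hermForm_smul_left]; exact mul_ne_zero hk hxy')) (by
    refine Fin.forall_fin_two.2 ⟨Fin.forall_fin_two.2 ⟨?_, ?_⟩, Fin.forall_fin_two.2 ⟨?_, ?_⟩⟩ <;>
      simp only [Matrix.cons_val_zero, Matrix.cons_val_one, hermForm_smul_left, hermForm_smul_right,
        hx, hy, hx', hy', mul_zero]
    · exact (div_mul_cancel₀ _ hxy').symm
    · rw [hermForm_symm hF n x y, hermForm_symm hF n x' y', ← mul_pow, div_mul_cancel₀ _ hxy'])
  have hdet : (g.1.val.det) ^ (q + 1) = 1 := by simpa using congrArg Units.val (GU_det_pow hF g)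
  obtain ⟨a, ha, haa⟩ := exists_hilbert90 hF hdet
  have hxy1 : 𝕙 x' ((𝕙 x' y' ^ q)⁻¹ • y') = 1 := by
    rw [hermForm_smul_right, inv_pow, hermConj_conj hF, inv_mul_cancel₀ hxy']
  obtain ⟨d, hd, hdx, hdy, -⟩ := exists_GU_scale hF hx'
    (y := (𝕙 x' y' ^ q)⁻¹ • y') (by rw [hermForm_smul_left, hermForm_smul_right, hy']; ring) hxy1 ha
  have hdy' : d.1.val *ᵥ y' = (a ^ q)⁻¹ • y' := by
    have h0 : (𝕙 x' y' ^ q)⁻¹ ≠ 0 := inv_ne_zero (pow_ne_zero _ hxy')
    refine smul_right_injective _ h0 ?_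
    show (_ : F) • _ = (_ : F) • _
    rw [← Matrix.mulVec_smul, hdy, smul_comm]
  obtain ⟨s, hs⟩ := exists_SU_of_GU (d * g) (by
    show (d.1.val * g.1.val).det = 1
    rw [det_mul, hd, haa]
    have : g.1.val.det ≠ 0 := GeneralLinearGroup.det_ne_zero g.1
    field_simp)
  refine ⟨s, k * a, (a ^ q)⁻¹, mul_ne_zero hk ha, inv_ne_zero (pow_ne_zero _ ha), ?_, ?_⟩ <;>
    rw [hs] <;> show (d.1.val * g.1.val) *ᵥ _ = _ <;> rw [← Matrix.mulVec_mulVec]
  · rw [show g.1.val *ᵥ x = k • x' from hg 0, Matrix.mulVec_smul, hdx, smul_smul]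
  · rw [show g.1.val *ᵥ y = y' from hg 1, hdy']

/-- `SU` is transitive on pairs of independent orthogonal isotropic lines. -/
theorem exists_SU_map_orth (hF : Fintype.card F = q ^ 2) {x y x' y' : Fin n → F}
    (hx : 𝕙 x x = 0) (hy : 𝕙 y y = 0) (hxy : 𝕙 x y = 0) (hli : LinearIndependent F ![x, y])
    (hx' : 𝕙 x' x' = 0) (hy' : 𝕙 y' y' = 0) (hxy' : 𝕙 x' y' = 0) (hli' : LinearIndependent F ![x', y']) :
    ∃ (s : Cfsg.SU n F q) (a b : F), a ≠ 0 ∧ b ≠ 0 ∧ s.1.1 *ᵥ x = a • x' ∧ s.1.1 *ᵥ y = b • y' := by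
  obtain ⟨g, hg⟩ := exists_GU_family hF ![x, y] ![x', y'] hli hli' (by
    refine Fin.forall_fin_two.2 ⟨Fin.forall_fin_two.2 ⟨?_, ?_⟩, Fin.forall_fin_two.2 ⟨?_, ?_⟩⟩ <;>
      simp only [Matrix.cons_val_zero, Matrix.cons_val_one, hx, hy, hx', hy', hxy, hxy']
    rw [hermForm_symm hF n x y, hermForm_symm hF n x' y', hxy, hxy'])
  have hdet : (g.1.val.det) ^ (q + 1) = 1 := by simpa using congrArg Units.val (GU_det_pow hF g)
  obtain ⟨a, ha, haa⟩ := exists_hilbert90 hF hdet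
  obtain ⟨p, hp, hp1⟩ := CfsgLib.Forms.exists_orth_pair_one (σ := hermConj hF)
    (fun t => ⟨hermConj hF t, hermConj_hermConj hF t⟩) (hermSesq hF n) (fun u hu => by
      funext i
      have h := hu (Pi.single i 1)
      change 𝕙 (Pi.single i 1) u = 0 at h
      rw [hermForm_symm hF n u, hermForm_single_right hF] at h
      exact eq_zero_of_pow_eq_zero h)
    (fun _ : Fin 1 => y') x' (fun hmem => by
      rw [Set.range_const, Submodule.mem_span_singleton] at hmem
      obtain ⟨c, hc⟩ := hmem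
      exact (linearIndependent_fin2.1 hli').2 c hc)
  have hyp : 𝕙 y' p = 0 := by
    rw [hermForm_symm hF n p y', show 𝕙 p y' = 0 from hp 0, herm_conj_zero hF]
  have hxp : 𝕙 x' p = 1 := by
    rw [hermForm_symm hF n p x', show 𝕙 p x' = 1 from hp1, one_pow]
  obtain ⟨c, hc1, hc2⟩ := exists_isotropic_adjust hF hx' hxp
  have hyx' : 𝕙 y' x' = 0 := by rw [hermForm_symm hF n x' y', hxy', herm_conj_zero hF]
  obtain ⟨d, hd, hdx, -, hdz⟩ := exists_GU_scale hF hx' hc1 hc2 ha
  have hdy := hdz y' hyx' (by rw [hermForm_add_right hF, hermForm_smul_right, hyp, hyx']; ring)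
  obtain ⟨s, hs⟩ := exists_SU_of_GU (d * g) (by
    show (d.1.val * g.1.val).det = 1
    rw [det_mul, hd, haa]
    have : g.1.val.det ≠ 0 := GeneralLinearGroup.det_ne_zero g.1
    field_simp)
  refine ⟨s, a, 1, ha, one_ne_zero, ?_, ?_⟩ <;>
    rw [hs] <;> show (d.1.val * g.1.val) *ᵥ _ = _ <;> rw [← Matrix.mulVec_mulVec]
  · rw [show g.1.val *ᵥ x = x' from hg 0, hdx]
  · rw [show g.1.val *ᵥ y = y' from hg 1, hdy, one_smul]

end CfsgLib.ClassicalGroups
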