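import Mathlib
import Cfsg.Agent.Lib.ClassicalGroups.UnitaryBasic

/-!
`SU_n(q)` is generated by unitary transvections for `n ≥ 3`, `(n,q) ≠ (3,2)`, each transvection is a
commutator, and so `SU_n(q)` is perfect.
-/

set_option autoImplicit false
set_option linter.unusedSectionVars false

namespace CfsgLib.ClassicalGroups

open Matrix

variable {F : Type*} [Field F] [Fintype F] {q n : ℕ}

local notation "𝕙" => Cfsg.hermForm n F q

theorem unitaryTransvection_mulVec (v : Fin n → F) (c : F) (x : Fin n → F) :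
    Cfsg.unitaryTransvection n q v c *ᵥ x = x + (c * 𝕙 x v) • v := by
  rw [Cfsg.unitaryTransvection, add_mulVec, one_mulVec, smul_mulVec, vecMulVec_mulVec,
    op_smul_eq_smul, smul_smul, dotProduct_comm]
  rfl

theorem unitaryTransvection_eq_rankTwo (v : Fin n → F) (c : F) :
    Cfsg.unitaryTransvection n q v c = rankTwoMat q (c • v) v 0 0 :=
  Matrix.ext_of_mulVec_single fun i => by
    rw [unitaryTransvection_mulVec, rankTwoMat_mulVec, smul_zero, add_zero, smul_smul, mul_comm c]

theorem unitaryTransvection_det (v : Fin n → F) (c : F) (hv : 𝕙 v v = 0) :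
    (Cfsg.unitaryTransvection n q v c).det = 1 := by
  rw [unitaryTransvection_eq_rankTwo, rankTwoMat_det, hermForm_smul_left, hv, hermForm_zero_left,
    hermForm_zero_left]
  ring

/-- The transvections in `GU`. -/
def IsTv (g : Cfsg.GU n F q) : Prop :=
  ∃ (v : Fin n → F) (c : F), 𝕙 v v = 0 ∧ g.1.val = Cfsg.unitaryTransvection n q v c

/-- The group generated by the unitary transvections. -/
def tvGroup (n : ℕ) (F : Type*) [Field F] [Fintype F] (q : ℕ) : Subgroup (Cfsg.GU n F q) :=
  Subgroup.closure {g | IsTv g}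

theorem exists_tv (hF : Fintype.card F = q ^ 2) {v : Fin n → F} (hv : 𝕙 v v = 0) {c : F}
    (hc : c ^ q = -c) : ∃ g : Cfsg.GU n F q, g.1.val = Cfsg.unitaryTransvection n q v c ∧
      g ∈ tvGroup n F q := by
  obtain ⟨g, hg, -⟩ := exists_GU_rankTwo hF (c • v) v 0 0 (fun x y => by
    simp only [smul_zero, add_zero, smul_smul]
    rw [hermForm_add_left, hermForm_add_right hF, hermForm_add_right hF, hermForm_smul_left,
      hermForm_smul_left, hermForm_smul_right, hermForm_smul_right, hv, mul_pow, hc,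
      ← hermForm_symm hF n y v]
    ring)
  exact ⟨g, by rw [hg, unitaryTransvection_eq_rankTwo],
    Subgroup.subset_closure ⟨v, c, hv, by rw [hg, unitaryTransvection_eq_rankTwo]⟩⟩

theorem GU_mul_mulVec (g h : Cfsg.GU n F q) (x : Fin n → F) :
    (g * h).1.val *ᵥ x = g.1.val *ᵥ (h.1.val *ᵥ x) :=
  (Matrix.mulVec_mulVec _ _ _).symm

theorem GU_one_mulVec (x : Fin n → F) : (1 : Cfsg.GU n F q).1.val *ᵥ x = x := Matrix.one_mulVec x

theorem conj_tv (g t : Cfsg.GU n F q) {v : Fin n → F} {c : F}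
    (ht : t.1.val = Cfsg.unitaryTransvection n q v c) :
    (g * t * g⁻¹).1.val = Cfsg.unitaryTransvection n q (g.1.val *ᵥ v) c := by
  refine Matrix.ext_of_mulVec_single fun i => ?_
  set x : Fin n → F := Pi.single i 1
  obtain ⟨y, hy⟩ : ∃ y, y = g⁻¹.1.val *ᵥ x := ⟨_, rfl⟩
  have hx : x = g.1.val *ᵥ y := by rw [hy, ← GU_mul_mulVec, mul_inv_cancel, GU_one_mulVec]
  rw [GU_mul_mulVec, GU_mul_mulVec, ← hy, ht, unitaryTransvection_mulVec, unitaryTransvection_mulVec,
    Matrix.mulVec_add, Matrix.mulVec_smul, hx, mem_GU_iff.1 g.2]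

instance tvGroup_normal : (tvGroup n F q).Normal := by
  refine ⟨fun t ht g => ?_⟩
  have : (tvGroup n F q).map (MulAut.conj g).toMonoidHom ≤ tvGroup n F q := by
    rw [tvGroup, MonoidHom.map_closure]
    refine Subgroup.closure_mono ?_
    rintro _ ⟨s, ⟨v, c, hv, hs⟩, rfl⟩
    exact ⟨g.1.val *ᵥ v, c, by rw [mem_GU_iff.1 g.2, hv], conj_tv g s hs⟩
  exact this ⟨t, ht, rfl⟩

theorem det_of_mem_tvGroup {t : Cfsg.GU n F q} (ht : t ∈ tvGroup n F q) : t.1.val.det = 1 := by
  induction ht using Subgroup.closure_induction with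
  | mem t h => obtain ⟨v, c, hv, e⟩ := h; rw [e, unitaryTransvection_det v c hv]
  | one => exact Matrix.det_one
  | mul a b _ _ ha hb => show (a.1.val * b.1.val).det = 1; rw [det_mul, ha, hb, mul_one]
  | inv a _ ha =>
    have h1 : (a⁻¹.1.val * a.1.val).det = 1 := by
      show (a⁻¹ * a).1.val.det = 1
      rw [inv_mul_cancel]; exact Matrix.det_one
    rwa [det_mul, ha, mul_one] at h1

/-- `v` is an image of `u` under the transvection group. -/
def Reach (q : ℕ) (u v : Fin n → F) : Prop :=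
  ∃ t ∈ tvGroup n F q, t.1.val *ᵥ u = v

theorem Reach.trans {u v w : Fin n → F} (h : Reach q u v) (h' : Reach q v w) : Reach q u w := by
  obtain ⟨t, ht, e⟩ := h
  obtain ⟨t', ht', e'⟩ := h'
  exact ⟨t' * t, mul_mem ht' ht, by rw [GU_mul_mulVec, e, e']⟩

theorem reach_tv (hF : Fintype.card F = q ^ 2) {v : Fin n → F} (hv : 𝕙 v v = 0) {c : F}
    (hc : c ^ q = -c) (u : Fin n → F) : Reach q u (u + (c * 𝕙 u v) • v) := by
  obtain ⟨g, hg, hgT⟩ := exists_tv hF hv hc
  exact ⟨g, hgT, by rw [hg, unitaryTransvection_mulVec]⟩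

theorem reach_hyp_plane (hF : Fintype.card F = q ^ 2) {x y : Fin n → F} {δ : F} (hx : 𝕙 x x = 0)
    (hy : 𝕙 y y = 0) (hxy : 𝕙 x y = δ) (hδ0 : δ ≠ 0) (hδ : δ ^ q = -δ) (a b a' b' : F)
    (hN : a * b ^ q - a ^ q * b = a' * b' ^ q - a' ^ q * b') (h0 : a * b ^ q - a ^ q * b ≠ 0) :
    Reach q (a • x + b • y) (a' • x + b' • y) := by
  have hyx : 𝕙 y x = -δ := by rw [hermForm_symm hF n x y, hxy, hδ]
  have hup : ∀ (k a b : F), k ^ q = k → Reach q (a • x + b • y) ((a + k * b) • x + b • y) := by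
    intro k a b hk
    have h := reach_tv hF hx (c := -k / δ)
      (by rw [div_pow, herm_conj_neg hF, hk, hδ]; ring) (a • x + b • y)
    convert h using 1
    rw [hermForm_add_left, hermForm_smul_left, hermForm_smul_left, hx, hyx, add_smul]
    match_scalars <;> field_simp <;> ring
  have hlo : ∀ (k a b : F), k ^ q = k → Reach q (a • x + b • y) (a • x + (b + k * a) • y) := by
    intro k a b hk
    have h := reach_tv hF hy (c := k / δ) (by rw [div_pow, hk, hδ]; ring) (a • x + b • y)
    convert h using 1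
    rw [hermForm_add_left, hermForm_smul_left, hermForm_smul_left, hy, hxy, add_smul]
    match_scalars <;> field_simp <;> ring
  have hgen : ∀ a b : F, a * b ^ q - a ^ q * b = a' * b' ^ q - a' ^ q * b' →
      a * b ^ q - a ^ q * b ≠ 0 → a * (a' - a) ^ q - a ^ q * (a' - a) ≠ 0 →
      Reach q (a • x + b • y) (a' • x + b' • y) := by
    intro a b hN hD hnum
    have ha' : a' ≠ 0 := fun h => hD (by rw [hN, h, herm_conj_zero hF]; ring)
    set D := a * b ^ q - a ^ q * b with hDdef
    set t := (a * (a' - a) ^ q - a ^ q * (a' - a)) / D with ht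
    set s := ((a' - a) * b ^ q - (a' - a) ^ q * b) / D with hs
    have hDq : D ^ q = -D := by
      rw [hDdef, herm_conj_sub hF, mul_pow, mul_pow, hermConj_conj hF, hermConj_conj hF]; ring
    have htq : t ^ q = t := by
      rw [ht, div_pow, hDq, herm_conj_sub hF, mul_pow, mul_pow, hermConj_conj hF, hermConj_conj hF,
        div_neg, ← neg_div]
      congr 1; ring
    have hsq : s ^ q = s := by
      rw [hs, div_pow, hDq, herm_conj_sub hF, mul_pow, mul_pow, hermConj_conj hF, hermConj_conj hF,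
        div_neg, ← neg_div]
      congr 1; ring
    have hd : a' - a = s * a + t * b := by
      rw [ht, hs]; field_simp; rw [hDdef]; ring
    have ht0 : t ≠ 0 := div_ne_zero hnum hD
    obtain ⟨b1, hb1⟩ : ∃ b1, b1 = b + s / t * a := ⟨_, rfl⟩
    have e1 : a + t * b1 = a' := by
      rw [hb1, mul_add, ← mul_assoc, mul_div_cancel₀ _ ht0]; linear_combination -hd
    have hN1 : a' * b1 ^ q - a' ^ q * b1 = D := by
      have hb1q : b1 ^ q = b ^ q + s / t * a ^ q := by
        rw [hb1, herm_conj_add hF, mul_pow, div_pow, hsq, htq]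
      have e1q : a ^ q + t * b1 ^ q = a' ^ q := by rw [← e1, herm_conj_add hF, mul_pow, htq]
      have e3 : a * b1 ^ q - a ^ q * b1 = D := by rw [hb1q, hb1, hDdef]; ring
      linear_combination (-b1 ^ q) * e1 + b1 * e1q + e3
    obtain ⟨k, hk⟩ : ∃ k, k = (b' - b1) / a' := ⟨_, rfl⟩
    have hkq : k ^ q = k := by
      rw [hk, div_pow, div_eq_div_iff (pow_ne_zero _ ha') ha', herm_conj_sub hF]
      linear_combination -hN1 - hN
    have e2 : b1 + k * a' = b' := by rw [hk, div_mul_cancel₀ _ ha']; ring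
    have h1 := hlo (s / t) a b (by rw [div_pow, hsq, htq])
    have h2 := hup t a b1 htq
    rw [e1] at h2
    have h3 := hlo k a' b1 hkq
    rw [e2] at h3
    rw [← hb1] at h1
    exact (h1.trans h2).trans h3
  by_cases hnum : a * (a' - a) ^ q - a ^ q * (a' - a) = 0
  · have h1 := hup 1 a b (one_pow q)
    rw [one_mul] at h1
    refine h1.trans (hgen (a + b) b ?_ ?_ ?_)
    · rw [← hN, herm_conj_add hF]; ring
    · intro h
      exact h0 (by rw [herm_conj_add hF] at h; linear_combination h)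
    · intro h
      by_cases hb : b = 0
      · exact h0 (by rw [hb, herm_conj_zero hF]; ring)
      · refine h0 ?_
        rw [show a' - (a + b) = (a' - a) - b by ring, herm_conj_add hF, herm_conj_sub hF _ b] at h
        -- `(a+b) \bar d - \bar{(a+b)} d` with `d = a' - a - b`
        have hz : b * (a' - a) ^ q - b ^ q * (a' - a) = a * b ^ q - a ^ q * b := by
          linear_combination h - hnum
        by_cases ha : a = 0
        · simp [ha, herm_conj_zero hF]
        · have hd2 : (a' - a) ^ q = a ^ q / a * (a' - a) := by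
            field_simp; linear_combination hnum
          rw [hd2] at hz
          have hz2 : (a' - a) * (b * a ^ q - b ^ q * a) = a * (a * b ^ q - a ^ q * b) := by
            field_simp at hz; linear_combination hz
          have : a' = 0 := by
            have h3 : (a' : F) * (a * b ^ q - a ^ q * b) = 0 := by linear_combination -hz2
            exact (mul_eq_zero.1 h3).resolve_right h0
          rw [this, herm_conj_zero hF] at hN
          linear_combination hN
  · exact hgen a b hN h0 hnum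

theorem reach_orth_plane (hF : Fintype.card F = q ^ 2) {u z : Fin n → F} (hu : 𝕙 u u = 1)
    (hz : 𝕙 z z = 1) (huz : 𝕙 u z = 0) (α β : F) (hv : α * α ^ q + β * β ^ q = 1) :
    Reach q u (α • u + β • z) := by
  have hzu : 𝕙 z u = 0 := by rw [hermForm_symm hF n u z, huz, herm_conj_zero hF]
  obtain ⟨δ, hδ0, hδ⟩ := exists_trace_zero hF
  obtain ⟨e, -, he⟩ := exists_norm_eq hF (c := (-1 : F)) (by rw [herm_conj_neg hF, one_pow])
    (neg_ne_zero.2 one_ne_zero)
  obtain ⟨l, hl, hl2⟩ := exists_norm_one_sq_ne hF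
  rw [pow_succ] at he hl
  set e' := l * e
  have he' : e' ^ q * e' = -1 := by
    show (l * e) ^ q * (l * e) = -1
    rw [mul_pow]
    linear_combination (e ^ q * e) * hl + he
  have hne : e - e' ≠ 0 := by
    intro h
    have he0 : e ≠ 0 := fun h0 => by simp [h0] at he
    have : l = 1 := mul_right_cancel₀ he0 (by rw [one_mul]; exact (sub_eq_zero.1 h).symm)
    exact hl2 (by rw [this, mul_one])
  set γ := 1 + e * e' ^ q with hγ
  have hγ0 : γ ≠ 0 := by
    intro h
    have he0 : e ≠ 0 := fun h0 => by simp [h0] at he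
    have h1 : e' ^ q = e ^ q := mul_left_cancel₀ he0 (by rw [hγ] at h; linear_combination h - he)
    have h2 := congrArg (· ^ q) h1
    simp only [hermConj_conj hF] at h2
    exact hne (sub_eq_zero.2 h2.symm)
  set s := (δ / γ) ^ q
  set x := u + e • z
  set w := u + e' • z
  set y := s • w
  have hs0 : s ≠ 0 := pow_ne_zero _ (div_ne_zero hδ0 hγ0)
  have hiso : ∀ f : F, f ^ q * f = -1 → 𝕙 (u + f • z) (u + f • z) = 0 := fun f hf => by
    rw [hermForm_add_left, hermForm_add_right hF, hermForm_add_right hF, hermForm_smul_left,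
      hermForm_smul_left, hermForm_smul_right, hermForm_smul_right, hu, hz, huz, hzu]
    linear_combination hf
  have hxy : 𝕙 x y = δ := by
    show 𝕙 (u + e • z) (s • (u + e' • z)) = δ
    rw [hermForm_smul_right, hermForm_add_left, hermForm_add_right hF, hermForm_add_right hF,
      hermForm_smul_left, hermForm_smul_left, hermForm_smul_right, hermForm_smul_right, hu, hz, huz, hzu,
      show s ^ q = δ / γ from hermConj_conj hF _]
    rw [show (1 + e' ^ q * 0 + (e * 0 + e * (e' ^ q * 1))) = γ by rw [hγ]; ring, div_mul_cancel₀ _ hγ0]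
  have hyy : 𝕙 y y = 0 := by
    rw [hermForm_smul_left, hermForm_smul_right, hiso e' he']; ring
  have hspan : ∀ α β : F, ∃ a b : F, α • u + β • z = a • x + b • y := by
    intro α β
    refine ⟨(β - α * e') / (e - e'), (α * e - β) / (e - e') / s, ?_⟩
    show _ = _ • (u + e • z) + _ • (s • (u + e' • z))
    rw [smul_smul, div_mul_cancel₀ _ hs0]
    match_scalars <;> field_simp <;> ring
  have hnorm : ∀ a b : F, 𝕙 (a • x + b • y) (a • x + b • y) = δ * (a * b ^ q - a ^ q * b) := by
    intro a b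
    simp only [hermForm_add_left, hermForm_add_right hF, hermForm_smul_left, hermForm_smul_right]
    rw [hiso e he, hyy, hxy, hermForm_symm hF n x y, hxy, hδ]
    ring
  obtain ⟨a, b, hab⟩ := hspan 1 0
  obtain ⟨a', b', hab'⟩ := hspan α β
  rw [one_smul, zero_smul, add_zero] at hab
  have h1 : δ * (a * b ^ q - a ^ q * b) = 1 := by rw [← hnorm, ← hab, hu]
  have h2 : δ * (a' * b' ^ q - a' ^ q * b') = 1 := by
    rw [← hnorm, ← hab', hermForm_add_left, hermForm_add_right hF, hermForm_add_right hF,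
      hermForm_smul_left, hermForm_smul_left, hermForm_smul_left, hermForm_smul_left,
      hermForm_smul_right, hermForm_smul_right, hermForm_smul_right, hermForm_smul_right,
      hu, hz, huz, hzu]
    linear_combination hv
  have := reach_hyp_plane hF (hiso e he) hyy hxy hδ0 hδ a b a' b'
    (mul_left_cancel₀ hδ0 (h1.trans h2.symm)) (fun h => by rw [h, mul_zero] at h1; exact zero_ne_one h1)
  rw [← hab, ← hab'] at this
  exact this

theorem reach_of_nondegenerate (hF : Fintype.card F = q ^ 2) {u v : Fin n → F} (hu : 𝕙 u u = 1)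
    (hv : 𝕙 v v = 1) (hne : 𝕙 v u ^ (q + 1) ≠ 1) : Reach q u v := by
  set α := 𝕙 v u with hα
  set w := v - α • u
  have hwu : 𝕙 w u = 0 := by rw [hermForm_sub_left, hermForm_smul_left, hu, ← hα, mul_one, sub_self]
  have hww : 𝕙 w w = 1 - α ^ (q + 1) := by
    show 𝕙 (v - α • u) (v - α • u) = _
    rw [hermForm_sub_left, hermForm_sub_right hF, hermForm_sub_right hF, hermForm_smul_left,
      hermForm_smul_left, hermForm_smul_right, hermForm_smul_right, hu, hv, ← hα,
      hermForm_symm hF n v u, ← hα]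
    ring
  have hww0 : 𝕙 w w ≠ 0 := by rw [hww]; exact sub_ne_zero.2 (Ne.symm hne)
  obtain ⟨r, hr0, hr⟩ := exists_norm_eq hF (hermForm_self_conj hF n w) hww0
  have hz : 𝕙 (r⁻¹ • w) (r⁻¹ • w) = 1 := by
    rw [hermForm_smul_left, hermForm_smul_right, ← mul_assoc, ← pow_succ', inv_pow, hr, inv_mul_cancel₀ hww0]
  have huz : 𝕙 u (r⁻¹ • w) = 0 := by
    rw [hermForm_smul_right, hermForm_symm hF n w u, hwu, herm_conj_zero hF, mul_zero]
  have h := reach_orth_plane hF hu hz huz α r (by rw [← pow_succ', ← pow_succ', hr, hww]; ring)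
  rw [smul_smul, mul_inv_cancel₀ hr0, one_smul, add_sub_cancel] at h
  exact h

theorem exists_norm_ne_one (hF : Fintype.card F = q ^ 2) (hq : 3 ≤ q) :
    ∃ b : F, b ≠ 0 ∧ b ^ (q + 1) ≠ 1 := by
  classical
  by_contra! h
  have hsub : (Finset.univ.filter fun x : F => x ≠ 0) ⊆
      Finset.univ.filter fun x : F => x ^ (q + 1) = 1 := fun x hx => by
    simp only [Finset.mem_filter, Finset.mem_univ, true_and] at hx ⊢
    exact h x hx
  have := Finset.card_le_card hsub
  rw [card_pow_succ_eq hF, Finset.filter_ne', Finset.card_erase_of_mem (Finset.mem_univ _),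
    Finset.card_univ, hF] at this
  have : q * 3 ≤ q ^ 2 := by rw [pow_two]; exact Nat.mul_le_mul_left q hq
  omega

/-- The transvection group is transitive on vectors of norm one. -/
theorem reach_norm_one (hF : Fintype.card F = q ^ 2) (hn : 3 ≤ n) (h32 : ¬(n = 3 ∧ q = 2))
    {u v : Fin n → F} (hu : 𝕙 u u = 1) (hv : 𝕙 v v = 1) : Reach q u v := by
  have hq := herm_two_le hF
  by_cases hne : 𝕙 v u ^ (q + 1) = 1
  swap
  · exact reach_of_nondegenerate hF hu hv hne
  -- find an intermediate vector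
  suffices ∃ z, 𝕙 z z = 1 ∧ 𝕙 z u = 0 ∧ 𝕙 v z ^ (q + 1) ≠ 1 by
    obtain ⟨z, hz, hzu, hvz⟩ := this
    exact (reach_of_nondegenerate hF hu hz (by rw [hzu, zero_pow (by omega)]; exact zero_ne_one)).trans
      (reach_of_nondegenerate hF hz hv hvz)
  set α := 𝕙 v u with hα
  set w := v - α • u with hw
  have hwu : 𝕙 w u = 0 := by rw [hermForm_sub_left, hermForm_smul_left, hu, ← hα, mul_one, sub_self]
  have huw : 𝕙 u w = 0 := by rw [hermForm_symm hF n w u, hwu, herm_conj_zero hF]
  have hww : 𝕙 w w = 0 := by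
    rw [hw, hermForm_sub_left, hermForm_sub_right hF, hermForm_sub_right hF, hermForm_smul_left,
      hermForm_smul_left, hermForm_smul_right, hermForm_smul_right, hu, hv, ← hα,
      hermForm_symm hF n v u, ← hα]
    linear_combination -hne
  have hvz : ∀ z, 𝕙 z u = 0 → 𝕙 v z = 𝕙 w z := fun z hz => by
    rw [hw, hermForm_sub_left, hermForm_smul_left, hermForm_symm hF n z u, hz, herm_conj_zero hF,
      mul_zero, sub_zero]
  by_cases hw0 : w = 0
  · obtain ⟨z, hz, hzf⟩ := exists_norm_one_perp hF (n := n) (fun _ : Fin 1 => u) (by omega)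
      (fun x => x - 𝕙 x u • u)
      (fun x _ => by rw [hermForm_sub_left, hermForm_smul_left, hu, mul_one, sub_self])
      (fun x => by rw [sub_sub_cancel]; exact Submodule.smul_mem _ _ (Submodule.subset_span ⟨0, rfl⟩))
    refine ⟨z, hz, hzf 0, ?_⟩
    rw [hvz z (hzf 0), hw0, hermForm_zero_left, zero_pow (by omega)]
    exact zero_ne_one
  · obtain ⟨x0, hx0⟩ := exists_pairing_ne hF hw0
    have hwx : 𝕙 w (x0 - 𝕙 x0 u • u) = 1 := by
      rw [hermForm_sub_right hF, hermForm_smul_right, hwu, hx0, mul_zero, sub_zero]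
    obtain ⟨d, hs, hws⟩ := exists_isotropic_adjust hF hww hwx
    set s := (x0 - 𝕙 x0 u • u) + d • w
    have hsu : 𝕙 s u = 0 := by
      rw [hermForm_add_left, hermForm_sub_left, hermForm_smul_left, hermForm_smul_left, hu, hwu]; ring
    have hus : 𝕙 u s = 0 := by rw [hermForm_symm hF n s u, hsu, herm_conj_zero hF]
    have hsw : 𝕙 s w = 1 := by rw [hermForm_symm hF n w s, hws, one_pow]
    by_cases h4 : 4 ≤ n
    · obtain ⟨z, hz, hzf⟩ := exists_norm_one_perp hF (n := n) ![u, w, s] (by omega)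
        (fun x => x - 𝕙 x u • u - 𝕙 x s • w - 𝕙 x w • s)
        (fun x => Fin.forall_fin_succ.2 ⟨by
          show 𝕙 _ u = 0
          simp only [hermForm_sub_left, hermForm_smul_left, hu, hwu, hsu]; ring,
          Fin.forall_fin_two.2 ⟨by
          show 𝕙 _ w = 0
          simp only [hermForm_sub_left, hermForm_smul_left, huw, hww, hsw]; ring, by
          show 𝕙 _ s = 0
          simp only [hermForm_sub_left, hermForm_smul_left, hus, hws, hs]; ring⟩⟩)
        (fun x => by
          rw [show x - (x - 𝕙 x u • u - 𝕙 x s • w - 𝕙 x w • s) =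
            𝕙 x u • u + 𝕙 x s • w + 𝕙 x w • s by abel]
          exact add_mem (add_mem (Submodule.smul_mem _ _ (Submodule.subset_span ⟨0, rfl⟩))
            (Submodule.smul_mem _ _ (Submodule.subset_span ⟨1, rfl⟩)))
            (Submodule.smul_mem _ _ (Submodule.subset_span ⟨2, rfl⟩)))
      refine ⟨z, hz, hzf 0, ?_⟩
      rw [hvz z (hzf 0), hermForm_symm hF n z w, show 𝕙 z w = 0 from hzf 1, herm_conj_zero hF,
        zero_pow (by omega)]
      exact zero_ne_one
    · obtain ⟨b, hb0, hb⟩ := exists_norm_ne_one hF (by omega)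
      obtain ⟨t, ht⟩ := exists_trace hF (b := (1 : F)) (one_pow q)
      set a := t / b ^ q
      refine ⟨a • w + b • s, ?_, by rw [hermForm_add_left, hermForm_smul_left, hermForm_smul_left, hwu, hsu]; ring, ?_⟩
      · rw [hermForm_add_left, hermForm_add_right hF, hermForm_add_right hF, hermForm_smul_left,
          hermForm_smul_left, hermForm_smul_left, hermForm_smul_left, hermForm_smul_right,
          hermForm_smul_right, hermForm_smul_right, hermForm_smul_right, hww, hs, hws, hsw]
        have e1 : a * b ^ q = t := div_mul_cancel₀ _ (pow_ne_zero _ hb0)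
        have e2 : b * a ^ q = t ^ q := by
          rw [← e1, mul_pow, hermConj_conj hF]; ring
        linear_combination e1 + e2 + ht
      · rw [hvz _ (by rw [hermForm_add_left, hermForm_smul_left, hermForm_smul_left, hwu, hsu]; ring),
          hermForm_add_right hF, hermForm_smul_right, hermForm_smul_right, hww, hws, mul_zero, zero_add,
          mul_one, ← pow_mul, mul_comm, pow_mul]
        intro h
        apply hb
        rw [← hermConj_conj hF (b ^ (q + 1)), h, one_pow]

/-! ### Quasi-reflections and generation -/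

theorem exists_refl (hF : Fintype.card F = q ^ 2) {e : Fin n → F} (he : 𝕙 e e = 1) {μ : F}
    (hμ : μ ^ (q + 1) = 1) : ∃ g : Cfsg.GU n F q, g.1.val.det = μ ∧
      ∀ x, g.1.val *ᵥ x = x + ((μ - 1) * 𝕙 x e) • e := by
  obtain ⟨g, hg, hgx⟩ := exists_GU_rankTwo hF ((μ - 1) • e) e 0 0 (fun x y => by
    simp only [smul_zero, add_zero, smul_smul, hermForm_add_left, hermForm_add_right hF,
      hermForm_smul_left, hermForm_smul_right, mul_pow, ← hermForm_symm hF n y e, he,
      herm_conj_sub hF, one_pow]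
    rw [pow_succ] at hμ
    linear_combination (𝕙 x e * 𝕙 e y) * hμ)
  refine ⟨g, ?_, fun x => ?_⟩
  · rw [hg, rankTwoMat_det, hermForm_smul_left, he, hermForm_zero_left, hermForm_zero_left]; ring
  · rw [hgx, smul_zero, add_zero, smul_smul, mul_comm]

/-- The reflections with a fixed centre. -/
def reflGroup (hF : Fintype.card F = q ^ 2) (e : Fin n → F) (he : 𝕙 e e = 1) :
    Subgroup (Cfsg.GU n F q) where
  carrier := {g | ∃ μ : F, μ ^ (q + 1) = 1 ∧ ∀ x, g.1.val *ᵥ x = x + ((μ - 1) * 𝕙 x e) • e}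
  one_mem' := ⟨1, one_pow _, fun x => by rw [GU_one_mulVec]; simp⟩
  mul_mem' := fun {g h} ⟨μ, hμ, hg⟩ ⟨ν, hν, hh⟩ => ⟨μ * ν, by rw [mul_pow, hμ, hν, mul_one], fun x => by
    rw [GU_mul_mulVec, hh, hg, hermForm_add_left, hermForm_smul_left, he]
    match_scalars <;> ring⟩
  inv_mem' := fun {g} ⟨μ, hμ, hg⟩ => by
    have hμ0 : μ ≠ 0 := fun h => by simp [h] at hμ
    refine ⟨μ⁻¹, by rw [inv_pow, hμ, inv_one], fun x => ?_⟩
    obtain ⟨y, hy⟩ : ∃ y, y = x + ((μ⁻¹ - 1) * 𝕙 x e) • e := ⟨_, rfl⟩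
    have hgy : g.1.val *ᵥ y = x := by
      rw [hg, hy, hermForm_add_left, hermForm_smul_left, he]
      match_scalars <;> first | ring1 | linear_combination (𝕙 x e) * mul_inv_cancel₀ hμ0
    rw [← hy]
    conv_lhs => rw [← hgy]
    rw [← GU_mul_mulVec, inv_mul_cancel, GU_one_mulVec]

theorem GU_eq_tv_sup_refl (hF : Fintype.card F = q ^ 2) (hn : 3 ≤ n) (h32 : ¬(n = 3 ∧ q = 2))
    (e0 : Fin n → F) (he0 : 𝕙 e0 e0 = 1) : tvGroup n F q ⊔ reflGroup hF e0 he0 = ⊤ := by
  classical
  have hrefl : ∀ (e : Fin n → F) (μ : F), 𝕙 e e = 1 → μ ^ (q + 1) = 1 → ∀ g : Cfsg.GU n F q,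
      (∀ x, g.1.val *ᵥ x = x + ((μ - 1) * 𝕙 x e) • e) → g ∈ tvGroup n F q ⊔ reflGroup hF e0 he0 := by
    intro e μ he hμ g hg
    obtain ⟨t, ht, hte⟩ := reach_norm_one hF hn h32 he0 he
    obtain ⟨r, -, hr⟩ := exists_refl hF he0 hμ
    have hgr : g = t * r * t⁻¹ := GU_ext fun x => by
      obtain ⟨y, hy⟩ : ∃ y, y = t⁻¹.1.val *ᵥ x := ⟨_, rfl⟩
      have hx : t.1.val *ᵥ y = x := by rw [hy, ← GU_mul_mulVec, mul_inv_cancel, GU_one_mulVec]
      rw [GU_mul_mulVec, GU_mul_mulVec, ← hy, hr, hg, Matrix.mulVec_add, Matrix.mulVec_smul, hx, hte]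
      have h2 : 𝕙 x e = 𝕙 y e0 := by
        conv_lhs => rw [← hx, ← hte]
        exact mem_GU_iff.1 t.2 y e0
      rw [h2]
    rw [hgr]
    exact mul_mem (mul_mem (Subgroup.mem_sup_left ht) (Subgroup.mem_sup_right ⟨μ, hμ, hr⟩))
      (inv_mem (Subgroup.mem_sup_left ht))
  have key : ∀ k, k ≤ n → ∀ g : Cfsg.GU n F q,
      (∀ i : Fin n, i.val < n - k → g.1.val *ᵥ Pi.single i 1 = Pi.single i 1) →
        g ∈ tvGroup n F q ⊔ reflGroup hF e0 he0 := by
    intro k
    induction k with
    | zero =>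
      intro _ g hg
      have : g = 1 := Subtype.ext (Units.ext (Matrix.ext_of_mulVec_single fun i => by
        rw [hg i (by omega)]; exact (GU_one_mulVec _).symm))
      rw [this]; exact one_mem _
    | succ k ih =>
      intro hk g hg
      set m : Fin n := ⟨n - (k + 1), by omega⟩ with hm
      set u : Fin n → F := Pi.single m 1
      have hu : 𝕙 u u = 1 := by rw [hermForm_single_right hF]; simp [u]
      have huo : ∀ i : Fin n, i.val < n - (k + 1) → 𝕙 (Pi.single i 1) u = 0 := fun i hi => by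
        rw [hermForm_single_right hF, Pi.single_eq_of_ne]
        intro h; rw [← h] at hi; exact lt_irrefl _ hi
      -- it suffices to move `g u` back to `u`
      suffices main : ∀ g : Cfsg.GU n F q,
          (∀ i : Fin n, i.val < n - (k + 1) → g.1.val *ᵥ Pi.single i 1 = Pi.single i 1) →
          𝕙 (g.1.val *ᵥ u) u ≠ 1 → g ∈ tvGroup n F q ⊔ reflGroup hF e0 he0 by
        by_cases h1 : 𝕙 (g.1.val *ᵥ u) u = 1
        · obtain ⟨l, hl, hl2⟩ := exists_norm_one_sq_ne hF
          obtain ⟨s, -, hs⟩ := exists_refl hF hu hl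
          have hsK := hrefl u l hu hl s hs
          refine (Subgroup.mul_mem_cancel_left _ hsK).1 (main (s * g) (fun i hi => ?_) ?_)
          · rw [GU_mul_mulVec, hg i hi, hs, huo i hi, mul_zero, zero_smul, add_zero]
          · rw [GU_mul_mulVec, hs, hermForm_add_left, hermForm_smul_left, h1, hu, mul_one, mul_one,
              add_sub_cancel]
            intro h; exact hl2 (by rw [h, one_mul])
        · exact main g hg h1
      intro g hg hne
      obtain ⟨v, hv⟩ : ∃ v, v = g.1.val *ᵥ u := ⟨_, rfl⟩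
      rw [← hv] at hne
      have hvv : 𝕙 v v = 1 := by rw [hv, mem_GU_iff.1 g.2, hu]
      obtain ⟨w, hw⟩ : ∃ w, w = v - u := ⟨_, rfl⟩
      obtain ⟨c, hc⟩ : ∃ c, c = -(1 - 𝕙 v u)⁻¹ := ⟨_, rfl⟩
      have hc0 : 1 - 𝕙 v u ≠ 0 := sub_ne_zero.2 (Ne.symm hne)
      have hcc : c + c ^ q + c * c ^ q * 𝕙 w w = 0 := by
        have hk0' : 1 - 𝕙 u v ≠ 0 := by
          intro h
          apply hne
          rw [hermForm_symm hF n u v, ← sub_eq_zero.1 h, one_pow]
        have hcq : c ^ q = -(1 - 𝕙 u v)⁻¹ := by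
          rw [hc, herm_conj_neg hF, inv_pow, herm_conj_sub hF, one_pow, ← hermForm_symm hF n v u]
        have hww : 𝕙 w w = (1 - 𝕙 v u) + (1 - 𝕙 u v) := by
          rw [hw, hermForm_sub_left, hermForm_sub_right hF, hermForm_sub_right hF, hvv, hu]; ring
        rw [hww, hcq, hc]; field_simp; ring
      obtain ⟨r, hr, hrx⟩ := exists_GU_rankTwo hF (c • w) w 0 0 (fun x y => by
        simp only [smul_zero, add_zero, smul_smul, hermForm_add_left, hermForm_add_right hF,
          hermForm_smul_left, hermForm_smul_right, mul_pow, ← hermForm_symm hF n y w]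
        linear_combination (𝕙 x w * 𝕙 w y) * hcc)
      simp only [smul_zero, add_zero, smul_smul] at hrx
      have hrK : r ∈ tvGroup n F q ⊔ reflGroup hF e0 he0 := by
        by_cases hww : 𝕙 w w = 0
        · refine Subgroup.mem_sup_left (Subgroup.subset_closure ⟨w, c, hww, ?_⟩)
          rw [hr, unitaryTransvection_eq_rankTwo]
        · obtain ⟨s, hs0, hs⟩ := exists_norm_eq hF (hermForm_self_conj hF n w) hww
          have he : 𝕙 (s⁻¹ • w) (s⁻¹ • w) = 1 := by
            rw [hermForm_smul_left, hermForm_smul_right, ← mul_assoc, ← pow_succ', inv_pow, hs,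
              inv_mul_cancel₀ hww]
          refine hrefl (s⁻¹ • w) (1 + c * 𝕙 w w) he ?_ r fun x => ?_
          · rw [pow_succ, herm_conj_add hF, one_pow, mul_pow, hermForm_self_conj hF]
            linear_combination (𝕙 w w) * hcc
          · rw [hrx, hermForm_smul_right, smul_smul]
            congr 2
            rw [show (s⁻¹) ^ q = (s ^ q)⁻¹ from inv_pow _ _, add_sub_cancel_left, ← hs, pow_succ]
            have := pow_ne_zero q hs0
            field_simp
      refine (Subgroup.mul_mem_cancel_left _ hrK).1 (ih (by omega) (r * g) fun i hi => ?_)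
      rw [GU_mul_mulVec]
      rcases eq_or_lt_of_le (show i.val ≤ n - (k + 1) by omega) with h | h
      · rw [show i = m from Fin.ext h, ← hv, hrx]
        show v + _ = u
        have h2 : 𝕙 v w * c = -1 := by
          rw [hw, hermForm_sub_right hF, hvv, hc]; field_simp
        rw [h2, hw, neg_one_smul]; abel
      · rw [hg i h, hrx]
        have h2 : 𝕙 (Pi.single i 1) w = 0 := by
          rw [hw, hermForm_sub_right hF, huo i h, sub_zero, hv]
          conv_lhs => rw [← hg i h]
          rw [mem_GU_iff.1 g.2]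
          exact huo i h
        rw [h2, zero_mul, zero_smul, add_zero]
  exact eq_top_iff.2 fun g _ => key n le_rfl g fun i hi => by omega

theorem mem_tvGroup_of_det (hF : Fintype.card F = q ^ 2) (hn : 3 ≤ n) (h32 : ¬(n = 3 ∧ q = 2))
    (g : Cfsg.GU n F q) (hg : g.1.val.det = 1) : g ∈ tvGroup n F q := by
  classical
  set i0 : Fin n := ⟨0, by omega⟩
  set e0 : Fin n → F := Pi.single i0 1
  have he0 : 𝕙 e0 e0 = 1 := by rw [hermForm_single_right hF]; simp [e0]
  have hm : g ∈ tvGroup n F q ⊔ reflGroup hF e0 he0 := GU_eq_tv_sup_refl hF hn h32 e0 he0 ▸ Subgroup.mem_top g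
  rw [Subgroup.mem_sup_of_normal_left] at hm
  obtain ⟨t, ht, r, ⟨μ, hμ, hr⟩, rfl⟩ := hm
  obtain ⟨r', hr'd, hr'⟩ := exists_refl hF he0 hμ
  have hrr : r = r' := GU_ext fun x => by rw [hr, hr']
  have hd : (t.1.val * r.1.val).det = 1 := hg
  rw [det_mul, det_of_mem_tvGroup ht, one_mul, hrr, hr'd] at hd
  have : r = 1 := GU_ext fun x => by rw [hr, hd, GU_one_mulVec]; simp
  rw [this, mul_one]
  exact ht

/-! ### Statements in `SU` -/

/-- The transvections in `SU`. -/
def suTvSet (n : ℕ) (F : Type*) [Field F] (q : ℕ) : Set (Cfsg.SU n F q) :=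
  {A | ∃ (v : Fin n → F) (c : F), Cfsg.hermForm n F q v v = 0 ∧
    ((A : Matrix.SpecialLinearGroup (Fin n) F) : Matrix (Fin n) (Fin n) F) = Cfsg.unitaryTransvection n q v c}

theorem closure_suTvSet (hF : Fintype.card F = q ^ 2) (hn : 3 ≤ n) (h32 : ¬(n = 3 ∧ q = 2)) :
    Subgroup.closure (suTvSet n F q) = ⊤ := by
  refine eq_top_iff.2 fun s _ => ?_
  have h := mem_tvGroup_of_det hF hn h32 (suToGU n F q s) s.1.2
  have hle : tvGroup n F q ≤ (Subgroup.closure (suTvSet n F q)).map (suToGU n F q) := by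
    rw [MonoidHom.map_closure]
    refine Subgroup.closure_mono ?_
    rintro g ⟨v, c, hv, hg⟩
    obtain ⟨a, ha⟩ := exists_SU_of_GU g (by rw [hg, unitaryTransvection_det v c hv])
    exact ⟨a, ⟨v, c, hv, ha.trans hg⟩, Subtype.ext (Units.ext ha)⟩
  obtain ⟨a, ha, has⟩ := hle h
  exact suToGU_injective has ▸ ha

/-- The Eichler element of `v`, `w` and `d`. -/
theorem exists_eichler (hF : Fintype.card F = q ^ 2) {v w : Fin n → F} (hv : 𝕙 v v = 0)
    (hwv : 𝕙 w v = 0) {d : F} (hd : d + d ^ q = -𝕙 w w) :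
    ∃ g : Cfsg.GU n F q, g.1.val.det = 1 ∧
      ∀ x, g.1.val *ᵥ x = x + 𝕙 x v • w + (d * 𝕙 x v - 𝕙 x w) • v := by
  have hvw : 𝕙 v w = 0 := by rw [hermForm_symm hF n w v, hwv, herm_conj_zero hF]
  have hr : ∀ x, 𝕙 x (d ^ q • v - w) = d * 𝕙 x v - 𝕙 x w := fun x => by
    rw [hermForm_sub_right hF, hermForm_smul_right, hermConj_conj hF]
  obtain ⟨g, hg, hgx⟩ := exists_GU_rankTwo hF w v v (d ^ q • v - w) (fun x y => by
    simp only [hr, hermForm_add_left, hermForm_add_right hF, hermForm_smul_left, hermForm_smul_right,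
      herm_conj_sub hF, mul_pow, ← hermForm_symm hF n y v, ← hermForm_symm hF n y w, hv, hwv, hvw]
    linear_combination (𝕙 x v * 𝕙 v y) * hd)
  refine ⟨g, ?_, fun x => by rw [hgx, hr]⟩
  rw [hg, rankTwoMat_det, hr, hr, hwv, hv, hvw]
  ring

/-- Every transvection is a commutator in `SU`. -/
theorem tv_mem_commutatorSet (hF : Fintype.card F = q ^ 2) (hn : 3 ≤ n) (A : Cfsg.SU n F q)
    (v : Fin n → F) (c : F) (hv : 𝕙 v v = 0)
    (hA : A.1.1 = Cfsg.unitaryTransvection n q v c) : A ∈ commutatorSet (Cfsg.SU n F q) := by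
  by_cases hv0 : v = 0
  · refine ⟨1, 1, ?_⟩
    have : A = 1 := Subtype.ext (Subtype.ext (Matrix.ext_of_mulVec_single fun i => by
      rw [hA, unitaryTransvection_mulVec, hv0, smul_zero, add_zero]
      exact (Matrix.one_mulVec _).symm))
    rw [this]; simp
  obtain ⟨y, hy, hvy⟩ := exists_partner hF hv0 hv
  have hyv : 𝕙 y v = 1 := by rw [hermForm_symm hF n v y, hvy, one_pow]
  have hc : c + c ^ q = 0 := by
    have h := mem_SU_iff.1 A.2 y y
    rw [hA, unitaryTransvection_mulVec, hyv] at h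
    simp only [hermForm_add_left, hermForm_add_right hF, hermForm_smul_left, hermForm_smul_right,
      hvy, hy, hv, hyv, mul_pow, one_pow] at h
    linear_combination h
  obtain ⟨w, hww, hwv, -⟩ := exists_norm_one_perp_pair hF hn hv hy hvy
  obtain ⟨θ, hθ⟩ := exists_trace hF (b := (1 : F)) (one_pow q)
  obtain ⟨a, ha⟩ : ∃ a, a = -θ * c := ⟨_, rfl⟩
  have haq : a ^ q = θ ^ q * c := by
    rw [ha, neg_mul, herm_conj_neg hF, mul_pow]; linear_combination -(θ ^ q) * hc
  have hw'v : 𝕙 (a • w) v = 0 := by rw [hermForm_smul_left, hwv, mul_zero]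
  obtain ⟨d, hd⟩ := exists_trace hF (b := -𝕙 w w) (by rw [herm_conj_neg hF, hermForm_self_conj hF])
  obtain ⟨d', hd'⟩ := exists_trace hF (b := -𝕙 (a • w) (a • w))
    (by rw [herm_conj_neg hF, hermForm_self_conj hF])
  obtain ⟨g, hg1, hg⟩ := exists_eichler hF hv hwv hd
  obtain ⟨g', hg1', hg'⟩ := exists_eichler hF hv hw'v hd'
  obtain ⟨B, hB⟩ := exists_SU_of_GU g hg1
  obtain ⟨B', hB'⟩ := exists_SU_of_GU g' hg1'
  have key : g * g' = suToGU n F q A * (g' * g) := GU_ext fun x => by
    rw [GU_mul_mulVec, GU_mul_mulVec, GU_mul_mulVec, suToGU_val, hA, unitaryTransvection_mulVec,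
      hg', hg, hg, hg']
    simp only [hermForm_add_left, hermForm_smul_left, hermForm_smul_right, hv, hwv, hw'v, hww,
      hermForm_symm hF n w v, herm_conj_zero hF]
    match_scalars <;> first | ring1 | linear_combination (𝕙 x v) * haq - (𝕙 x v) * ha + (c * 𝕙 x v) * hθ
  refine ⟨B, B', suToGU_injective ?_⟩
  rw [commutatorElement_def, map_mul, map_mul, map_mul, map_inv, map_inv,
    show suToGU n F q B = g from Subtype.ext (Units.ext hB),
    show suToGU n F q B' = g' from Subtype.ext (Units.ext hB'), key]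
  group

theorem SU_perfect (hF : Fintype.card F = q ^ 2) (hn : 3 ≤ n) (h32 : ¬(n = 3 ∧ q = 2)) :
    commutator (Cfsg.SU n F q) = ⊤ := by
  refine eq_top_iff.2 ((closure_suTvSet hF hn h32).symm.le.trans ((Subgroup.closure_le _).2 ?_))
  rintro A ⟨v, c, hv, hA⟩
  rw [_root_.commutator_eq_closure]
  exact Subgroup.subset_closure (tv_mem_commutatorSet hF hn A v c hv hA)

end CfsgLib.ClassicalGroups
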