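import Mathlib
import Cfsg.Agent.Lib.ClassicalGroups.UnitaryGen

/-!
`PSU_n(q)` is simple for `n ≥ 3`, `(n,q) ≠ (3,2)`: Iwasawa's argument on isotropic vectors.
-/

set_option autoImplicit false
set_option linter.unusedSectionVars false

namespace CfsgLib.ClassicalGroups

open Matrix
open scoped commutatorElement

variable {F : Type*} [Field F] [Fintype F] {q n : ℕ}

local notation "𝕙" => Cfsg.hermForm n F q

theorem SU_mul_mulVec (g h : Cfsg.SU n F q) (x : Fin n → F) :
    (g * h).1.1 *ᵥ x = g.1.1 *ᵥ (h.1.1 *ᵥ x) :=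
  (Matrix.mulVec_mulVec _ _ _).symm

theorem SU_one_mulVec (x : Fin n → F) : (1 : Cfsg.SU n F q).1.1 *ᵥ x = x := Matrix.one_mulVec x

theorem SU_inv_mulVec_mulVec (g : Cfsg.SU n F q) (x : Fin n → F) : g⁻¹.1.1 *ᵥ (g.1.1 *ᵥ x) = x := by
  rw [← SU_mul_mulVec, inv_mul_cancel, SU_one_mulVec]

theorem SU_mulVec_inv_mulVec (g : Cfsg.SU n F q) (x : Fin n → F) : g.1.1 *ᵥ (g⁻¹.1.1 *ᵥ x) = x := by
  rw [← SU_mul_mulVec, mul_inv_cancel, SU_one_mulVec]

theorem SU_ext {g h : Cfsg.SU n F q} (H : ∀ x, g.1.1 *ᵥ x = h.1.1 *ᵥ x) : g = h :=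
  Subtype.ext (Subtype.ext (Matrix.ext_of_mulVec_single fun i => H _))

theorem exists_SU_tv (hF : Fintype.card F = q ^ 2) {v : Fin n → F} (hv : 𝕙 v v = 0) {c : F}
    (hc : c ^ q = -c) : ∃ A : Cfsg.SU n F q, A.1.1 = Cfsg.unitaryTransvection n q v c := by
  obtain ⟨g, hg, -⟩ := exists_tv hF hv hc
  obtain ⟨A, hA⟩ := exists_SU_of_GU g (by rw [hg, unitaryTransvection_det v c hv])
  exact ⟨A, hA.trans hg⟩

/-- `y` lies on the line of some image of `x` under `N`. -/
def NRel (N : Subgroup (Cfsg.SU n F q)) (x y : Fin n → F) : Prop :=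
  ∃ g ∈ N, ∃ a : F, a ≠ 0 ∧ g.1.1 *ᵥ x = a • y

variable {N : Subgroup (Cfsg.SU n F q)}

theorem NRel.symm {x y : Fin n → F} (h : NRel N x y) : NRel N y x := by
  obtain ⟨g, hg, a, ha, e⟩ := h
  refine ⟨g⁻¹, inv_mem hg, a⁻¹, inv_ne_zero ha, ?_⟩
  have : y = a⁻¹ • (g.1.1 *ᵥ x) := by rw [e, smul_smul, inv_mul_cancel₀ ha, one_smul]
  rw [this, Matrix.mulVec_smul, SU_inv_mulVec_mulVec]

theorem NRel.trans {x y z : Fin n → F} (h : NRel N x y) (h' : NRel N y z) : NRel N x z := by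
  obtain ⟨g, hg, a, ha, e⟩ := h
  obtain ⟨k, hk, b, hb, e'⟩ := h'
  exact ⟨k * g, mul_mem hk hg, a * b, mul_ne_zero ha hb, by
    rw [SU_mul_mulVec, e, Matrix.mulVec_smul, e', smul_smul]⟩

theorem NRel.smul {x y : Fin n → F} {a b : F} (ha : a ≠ 0) (hb : b ≠ 0) (h : NRel N (a • x) (b • y)) :
    NRel N x y := by
  obtain ⟨g, hg, c, hc, e⟩ := h
  refine ⟨g, hg, a⁻¹ * (c * b), mul_ne_zero (inv_ne_zero ha) (mul_ne_zero hc hb), ?_⟩
  rw [Matrix.mulVec_smul, smul_smul] at e
  rw [← smul_smul, ← e, smul_smul, inv_mul_cancel₀ ha, one_smul]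

theorem NRel.map (hN : N.Normal) {x y : Fin n → F} (s : Cfsg.SU n F q) (h : NRel N x y) :
    NRel N (s.1.1 *ᵥ x) (s.1.1 *ᵥ y) := by
  obtain ⟨g, hg, a, ha, e⟩ := h
  refine ⟨s * g * s⁻¹, hN.conj_mem g hg s, a, ha, ?_⟩
  rw [SU_mul_mulVec, SU_mul_mulVec, SU_inv_mulVec_mulVec, e, Matrix.mulVec_smul]

/-- Two isotropic vectors have a common non-orthogonal isotropic neighbour. -/
theorem exists_common_nonorth (hF : Fintype.card F = q ^ 2) {x z : Fin n → F} (hx0 : x ≠ 0)
    (hx : 𝕙 x x = 0) (hz0 : z ≠ 0) (hz : 𝕙 z z = 0) :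
    ∃ y, 𝕙 y y = 0 ∧ 𝕙 x y ≠ 0 ∧ 𝕙 z y ≠ 0 := by
  obtain ⟨δ, hδ0, hδ⟩ := exists_trace_zero hF
  by_cases hxz : 𝕙 x z = 0
  · obtain ⟨x', hx', hxx'⟩ := exists_partner hF hx0 hx
    by_cases h1 : 𝕙 z x' = 0
    swap
    · exact ⟨x', hx', by rw [hxx']; exact one_ne_zero, h1⟩
    obtain ⟨z', hz', hzz'⟩ := exists_partner hF hz0 hz
    by_cases h2 : 𝕙 x z' = 0
    swap
    · exact ⟨z', hz', h2, by rw [hzz']; exact one_ne_zero⟩
    obtain ⟨a, ha0, ha⟩ : ∃ a : F, a ≠ 0 ∧ a ^ q * 𝕙 x' z' + a * (𝕙 x' z') ^ q = 0 := by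
      by_cases h3 : 𝕙 x' z' = 0
      · exact ⟨1, one_ne_zero, by rw [h3, herm_conj_zero hF]; ring⟩
      · refine ⟨(δ / 𝕙 x' z') ^ q, pow_ne_zero _ (div_ne_zero hδ0 h3), ?_⟩
        rw [hermConj_conj hF, div_pow, hδ, div_mul_cancel₀ _ h3, div_mul_cancel₀ _ (pow_ne_zero _ h3)]
        ring
    refine ⟨x' + a • z', ?_, ?_, ?_⟩
    · rw [hermForm_add_left, hermForm_add_right hF, hermForm_add_right hF, hermForm_smul_left,
        hermForm_smul_left, hermForm_smul_right, hermForm_smul_right, hx', hz',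
        hermForm_symm hF n x' z']
      linear_combination ha
    · rw [hermForm_add_right hF, hermForm_smul_right, hxx', h2, mul_zero, add_zero]
      exact one_ne_zero
    · rw [hermForm_add_right hF, hermForm_smul_right, hzz', h1, zero_add, mul_one]
      exact pow_ne_zero _ ha0
  · -- `y = x + a z` with `a^q h(x,z)` of trace zero
    refine ⟨x + (δ / 𝕙 x z) ^ q • z, ?_, ?_, ?_⟩
    · rw [hermForm_add_left, hermForm_add_right hF, hermForm_add_right hF, hermForm_smul_left,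
        hermForm_smul_left, hermForm_smul_right, hermForm_smul_right, hx, hz, hermForm_symm hF n x z,
        hermConj_conj hF, div_mul_cancel₀ _ hxz, div_pow, div_mul_cancel₀ _ (pow_ne_zero _ hxz), hδ]
      ring
    · rw [hermForm_add_right hF, hermForm_smul_right, hx, hermConj_conj hF, zero_add,
        div_mul_cancel₀ _ hxz]
      exact hδ0
    · rw [hermForm_add_right hF, hermForm_smul_right, hz, mul_zero, add_zero, hermForm_symm hF n x z]
      exact pow_ne_zero _ hxz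

theorem exists_isotropic_ne_zero (hF : Fintype.card F = q ^ 2) (hn : 2 ≤ n) :
    ∃ x : Fin n → F, x ≠ 0 ∧ 𝕙 x x = 0 := by
  classical
  obtain ⟨e, -, he⟩ := exists_norm_eq hF (c := (-1 : F)) (by rw [herm_conj_neg hF, one_pow])
    (neg_ne_zero.2 one_ne_zero)
  set i : Fin n := ⟨0, by omega⟩
  set j : Fin n := ⟨1, by omega⟩
  have hij : i ≠ j := fun h => by simpa [i, j] using congrArg Fin.val h
  refine ⟨Pi.single i 1 + e • Pi.single j 1, fun h => ?_, ?_⟩
  · simpa [Pi.single_eq_of_ne hij] using congrFun h i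
  · rw [pow_succ'] at he
    simp only [hermForm_add_left, hermForm_add_right hF, hermForm_smul_left, hermForm_smul_right,
      hermForm_single_right hF, Pi.add_apply, Pi.smul_apply, smul_eq_mul, Pi.single_eq_same,
      Pi.single_eq_of_ne hij, Pi.single_eq_of_ne hij.symm]
    linear_combination he

/-- A matrix fixing every isotropic line is scalar, so an element of `SU` doing so is central. -/
theorem mem_center_of_fix_lines (hF : Fintype.card F = q ^ 2) (hn : 3 ≤ n) (g : Cfsg.SU n F q)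
    (hg : ∀ x, x ≠ 0 → 𝕙 x x = 0 → ∃ a : F, g.1.1 *ᵥ x = a • x) :
    g ∈ Subgroup.center (Cfsg.SU n F q) := by
  obtain ⟨δ, hδ0, hδ⟩ := exists_trace_zero hF
  obtain ⟨x, hx0, hx⟩ := exists_isotropic_ne_zero (q := q) (n := n) hF (by omega)
  obtain ⟨y, hy, hxy⟩ := exists_partner hF hx0 hx
  obtain ⟨l, hl⟩ := hg x hx0 hx
  -- the eigenvalue is the same for non-orthogonal isotropic vectors
  have same : ∀ u w : Fin n → F, 𝕙 u u = 0 → 𝕙 w w = 0 → 𝕙 u w ≠ 0 →
      ∀ a : F, g.1.1 *ᵥ u = a • u → g.1.1 *ᵥ w = a • w := by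
    intro u w hu hw huw a ha
    have hw0 : w ≠ 0 := fun h => huw (by rw [h, hermForm_zero_right hF])
    obtain ⟨b, hb⟩ := hg w hw0 hw
    obtain ⟨k, hk⟩ : ∃ k, k = (δ / 𝕙 u w) ^ q := ⟨_, rfl⟩
    set z := u + k • w
    have hk0 : k ≠ 0 := hk ▸ pow_ne_zero _ (div_ne_zero hδ0 huw)
    have hz : 𝕙 z z = 0 := by
      show 𝕙 (u + k • w) (u + k • w) = 0
      rw [hk, hermForm_add_left, hermForm_add_right hF, hermForm_add_right hF, hermForm_smul_left,
        hermForm_smul_left, hermForm_smul_right, hermForm_smul_right, hu, hw, hermForm_symm hF n u w,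
        hermConj_conj hF, div_mul_cancel₀ _ huw, div_pow, div_mul_cancel₀ _ (pow_ne_zero _ huw), hδ]
      ring
    have hli := linearIndependent_fin2.1 (li_pair_nonorth hF hu hw huw)
    have hz0 : z ≠ 0 := fun h => hli.2 (-k) (by
      show (-k) • w = u
      rw [neg_smul, ← eq_neg_of_add_eq_zero_left h])
    obtain ⟨c, hc⟩ := hg z hz0 hz
    rw [Matrix.mulVec_add, Matrix.mulVec_smul, ha, hb, smul_add, smul_smul, smul_smul] at hc
    have hpair := (LinearIndependent.pair_iff.1 (li_pair_nonorth hF hu hw huw)) (a - c) (k * b - c * k)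
      (by linear_combination (norm := module) hc)
    have h1 : a = c := sub_eq_zero.1 hpair.1
    have h2 : k * (b - c) = 0 := by linear_combination hpair.2
    rw [hb, h1, sub_eq_zero.1 ((mul_eq_zero.1 h2).resolve_left hk0)]
  have iso : ∀ z, 𝕙 z z = 0 → g.1.1 *ᵥ z = l • z := by
    intro z hz
    by_cases hz0 : z = 0
    · rw [hz0, Matrix.mulVec_zero, smul_zero]
    obtain ⟨w, hw, hxw, hzw⟩ := exists_common_nonorth hF hx0 hx hz0 hz
    exact same w z hw hz (by rw [hermForm_symm hF n z w]; exact pow_ne_zero _ hzw) l (same x w hx hw hxw l hl)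
  have hyx : 𝕙 y x = 1 := by rw [hermForm_symm hF n x y, hxy, one_pow]
  have perp : ∀ e, 𝕙 e x = 0 → 𝕙 e y = 0 → g.1.1 *ᵥ e = l • e := by
    intro e hex hey
    obtain ⟨b, hb⟩ := exists_trace hF (b := -𝕙 e e) (by rw [herm_conj_neg hF, hermForm_self_conj hF])
    have hxe : 𝕙 x e = 0 := by rw [hermForm_symm hF n e x, hex, herm_conj_zero hF]
    have hye : 𝕙 y e = 0 := by rw [hermForm_symm hF n e y, hey, herm_conj_zero hF]
    have hz : 𝕙 (x + b • y + e) (x + b • y + e) = 0 := by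
      simp only [hermForm_add_left, hermForm_add_right hF, hermForm_smul_left, hermForm_smul_right,
        hx, hy, hxy, hyx, hex, hey, hxe, hye]
      linear_combination hb
    have h := iso _ hz
    rw [Matrix.mulVec_add, Matrix.mulVec_add, Matrix.mulVec_smul, iso x hx, iso y hy] at h
    linear_combination (norm := module) h
  have all : ∀ u, g.1.1 *ᵥ u = l • u := by
    intro u
    have h := perp (u - 𝕙 u y • x - 𝕙 u x • y)
      (by rw [hermForm_sub_left, hermForm_sub_left, hermForm_smul_left, hermForm_smul_left, hx, hyx]; ring)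
      (by rw [hermForm_sub_left, hermForm_sub_left, hermForm_smul_left, hermForm_smul_left, hy, hxy]; ring)
    rw [Matrix.mulVec_sub, Matrix.mulVec_sub, Matrix.mulVec_smul, Matrix.mulVec_smul, iso x hx,
      iso y hy] at h
    linear_combination (norm := module) h
  rw [Subgroup.mem_center_iff]
  intro k
  refine SU_ext fun u => ?_
  rw [SU_mul_mulVec, SU_mul_mulVec, all, all, Matrix.mulVec_smul]

theorem nrel_all (hF : Fintype.card F = q ^ 2) (hn : 3 ≤ n) (hN : N.Normal)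
    (hne : ¬N ≤ Subgroup.center (Cfsg.SU n F q)) {x y : Fin n → F} (hx0 : x ≠ 0) (hx : 𝕙 x x = 0)
    (hy0 : y ≠ 0) (hy : 𝕙 y y = 0) : NRel N x y := by
  -- a non-trivially moved isotropic vector
  obtain ⟨g, hgN, hgc⟩ := SetLike.not_le_iff_exists.1 hne
  obtain ⟨u, hu0, hu, hgu⟩ : ∃ u, u ≠ 0 ∧ 𝕙 u u = 0 ∧ ∀ a : F, g.1.1 *ᵥ u ≠ a • u := by
    by_contra! h
    exact hgc (mem_center_of_fix_lines hF hn g h)
  obtain ⟨w, hw⟩ : ∃ w, w = g.1.1 *ᵥ u := ⟨_, rfl⟩
  rw [← hw] at hgu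
  have hww : 𝕙 w w = 0 := by rw [hw, mem_SU_iff.1 g.2, hu]
  have hrel : NRel N u w := ⟨g, hgN, 1, one_ne_zero, by rw [one_smul, hw]⟩
  have hw0 : w ≠ 0 := fun h => hgu 0 (by rw [h, zero_smul])
  -- non-orthogonal isotropic vectors are related
  have key : ∀ x y, 𝕙 x x = 0 → 𝕙 y y = 0 → 𝕙 x y ≠ 0 → NRel N x y := by
    intro x y hx hy hxy
    by_cases huw : 𝕙 u w = 0
    swap
    · obtain ⟨s, a, b, ha, hb, e1, e2⟩ := exists_SU_map_nonorth hF hu hww huw hx hy hxy
      have h := hrel.map hN s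
      rw [e1, e2] at h
      exact NRel.smul ha hb h
    -- an isotropic vector orthogonal to `x` and `y`
    have hli : LinearIndependent F ![u, w] := by
      rw [linearIndependent_fin2]
      refine ⟨hw0, fun a h => ?_⟩
      simp only [Matrix.cons_val_one, Matrix.cons_val_zero] at h
      have ha : a ≠ 0 := fun h0 => hu0 (by rw [← h, h0, zero_smul])
      exact hgu a⁻¹ (by rw [← h, smul_smul, inv_mul_cancel₀ ha, one_smul])
    obtain ⟨u', hu', huu'⟩ := exists_partner hF hu0 hu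
    have hu'u : 𝕙 u' u = 1 := by rw [hermForm_symm hF n u u', huu', one_pow]
    have hwu : 𝕙 w u = 0 := by rw [hermForm_symm hF n u w, huw, herm_conj_zero hF]
    set z0 := w - 𝕙 w u' • u
    have h1 : 𝕙 z0 u = 0 := by rw [hermForm_sub_left, hermForm_smul_left, hwu, hu]; ring
    have h2 : 𝕙 z0 u' = 0 := by rw [hermForm_sub_left, hermForm_smul_left, huu']; ring
    have h3 : 𝕙 z0 z0 = 0 := by
      simp only [z0, hermForm_sub_left, hermForm_sub_right hF, hermForm_smul_left, hermForm_smul_right,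
        hu, hww, huw, hwu]
      ring
    have h4 : z0 ≠ 0 := fun h => hgu (𝕙 w u') (sub_eq_zero.1 h)
    obtain ⟨s, a, b, ha, hb, e1, e2⟩ := exists_SU_map_nonorth hF hu hu' (by rw [huu']; exact one_ne_zero) hx hy hxy
    set z := s.1.1 *ᵥ z0
    have hz : 𝕙 z z = 0 := (mem_SU_iff.1 s.2 z0 z0).trans h3
    have hz0 : z ≠ 0 := fun h => h4 (by
      have h5 := SU_inv_mulVec_mulVec s z0
      rw [show s.1.1 *ᵥ z0 = 0 from h, Matrix.mulVec_zero] at h5
      exact h5.symm)
    have hzx : 𝕙 z x = 0 := by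
      have := mem_SU_iff.1 s.2 z0 u
      rw [e1, hermForm_smul_right, h1] at this
      exact (mul_eq_zero.1 this).resolve_left (pow_ne_zero _ ha)
    have hzy : 𝕙 z y = 0 := by
      have := mem_SU_iff.1 s.2 z0 u'
      rw [e2, hermForm_smul_right, h2] at this
      exact (mul_eq_zero.1 this).resolve_left (pow_ne_zero _ hb)
    have horth : ∀ p, 𝕙 p p = 0 → 𝕙 z p = 0 → (∀ c : F, c • p ≠ z) → p ≠ 0 → NRel N z p := by
      intro p hp hzp hind hp0
      obtain ⟨t, a', b', ha', hb', f1, f2⟩ := exists_SU_map_orth hF hu hww huw hli hz hp hzp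
        (linearIndependent_fin2.2 ⟨hp0, hind⟩)
      have h := hrel.map hN t
      rw [f1, f2] at h
      exact NRel.smul ha' hb' h
    have hyx' : 𝕙 y x ≠ 0 := by rw [hermForm_symm hF n x y]; exact pow_ne_zero _ hxy
    refine (horth x hx hzx (fun c h => ?_) (fun h => hxy (by rw [h, hermForm_zero_left]))).symm.trans
      (horth y hy hzy (fun c h => ?_) (fun h => hxy (by rw [h, hermForm_zero_right hF])))
    · rw [← h, hermForm_smul_left] at hzy
      rcases mul_eq_zero.1 hzy with hc | hc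
      · exact hz0 (by rw [← h, hc, zero_smul])
      · exact hxy hc
    · rw [← h, hermForm_smul_left] at hzx
      rcases mul_eq_zero.1 hzx with hc | hc
      · exact hz0 (by rw [← h, hc, zero_smul])
      · exact hyx' hc
  obtain ⟨m, hm, hxm, hym⟩ := exists_common_nonorth hF hx0 hx hy0 hy
  exact (key x m hx hm hxm).trans (key y m hy hm hym).symm

theorem normal_le_center_or_top (hF : Fintype.card F = q ^ 2) (hn : 3 ≤ n) (h32 : ¬(n = 3 ∧ q = 2))
    (N : Subgroup (Cfsg.SU n F q)) (hN : N.Normal) :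
    N ≤ Subgroup.center (Cfsg.SU n F q) ∨ N = ⊤ := by
  refine or_iff_not_imp_left.2 fun hne => ?_
  obtain ⟨x0, hx00, hx0⟩ := exists_isotropic_ne_zero (q := q) (n := n) hF (by omega)
  let A : Set (Cfsg.SU n F q) := {g | ∃ c : F, g.1.1 = Cfsg.unitaryTransvection n q x0 c}
  let f := QuotientGroup.mk' N
  have hA : ∀ a ∈ A, ∀ b ∈ A, a * b = b * a := by
    rintro a ⟨c, hc⟩ b ⟨d, hd⟩
    refine SU_ext fun x => ?_
    simp only [SU_mul_mulVec, hc, hd, unitaryTransvection_mulVec, hermForm_add_left, hermForm_smul_left, hx0]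
    match_scalars <;> ring
  have hgen : Subgroup.closure (f '' A) = ⊤ := by
    refine eq_top_iff.2 ?_
    rw [← (Subgroup.map_top_of_surjective f (QuotientGroup.mk'_surjective N)),
      ← closure_suTvSet hF hn h32, MonoidHom.map_closure]
    refine (Subgroup.closure_le _).2 ?_
    rintro _ ⟨T, ⟨v, c, hv, hT⟩, rfl⟩
    by_cases hv0 : v = 0
    · have : T = 1 := SU_ext fun x => by
        rw [hT, unitaryTransvection_mulVec, hv0, smul_zero, add_zero, SU_one_mulVec]
      rw [this, map_one]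
      exact one_mem _
    obtain ⟨g, hg, a, ha, e⟩ := nrel_all hF hn hN hne hx00 hx0 hv0 hv
    -- `g⁻¹ T g` is a transvection with centre `x0`
    have hTA : g⁻¹ * T * g ∈ A := by
      refine ⟨c / a ^ (q + 1), Matrix.ext_of_mulVec_single fun i => ?_⟩
      rw [SU_mul_mulVec, SU_mul_mulVec, hT, unitaryTransvection_mulVec, unitaryTransvection_mulVec,
        Matrix.mulVec_add, SU_inv_mulVec_mulVec, Matrix.mulVec_smul]
      have hv' : v = a⁻¹ • (g.1.1 *ᵥ x0) := by rw [e, smul_smul, inv_mul_cancel₀ ha, one_smul]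
      rw [hv', hermForm_smul_right, mem_SU_iff.1 g.2, Matrix.mulVec_smul, SU_inv_mulVec_mulVec, smul_smul]
      congr 2
      have := pow_ne_zero q ha
      rw [inv_pow, pow_succ]
      field_simp
    have hf : f g = 1 := (QuotientGroup.eq_one_iff _).2 hg
    have : f T = f (g⁻¹ * T * g) := by rw [map_mul, map_mul, map_inv, hf]; group
    rw [this]
    exact Subgroup.subset_closure ⟨_, hTA, rfl⟩
  have hcomm : ∀ a b : Cfsg.SU n F q, f a * f b = f b * f a := by
    intro a b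
    have : IsMulCommutative (Subgroup.closure (f '' A)) :=
      Subgroup.isMulCommutative_closure (by
        rintro _ ⟨a, ha, rfl⟩ _ ⟨b, hb, rfl⟩
        rw [← map_mul, ← map_mul, hA a ha b hb])
    exact congrArg Subtype.val (this.is_comm.comm (⟨f a, hgen ▸ Subgroup.mem_top _⟩ : Subgroup.closure (f '' A))
      ⟨f b, hgen ▸ Subgroup.mem_top _⟩)
  refine eq_top_iff.2 ?_
  rw [← SU_perfect hF hn h32, _root_.commutator_eq_closure, Subgroup.closure_le]
  rintro _ ⟨a, b, rfl⟩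
  refine (QuotientGroup.eq_one_iff _).1 ?_
  show f ⁅a, b⁆ = 1
  rw [map_commutatorElement, commutatorElement_eq_one_iff_mul_comm]
  exact hcomm a b

/-- `PSU_n(q)` is simple. -/
theorem psu_isSimpleGroup (hF : Fintype.card F = q ^ 2) (hn : 3 ≤ n) (h32 : ¬(n = 3 ∧ q = 2)) :
    IsSimpleGroup (Cfsg.PSU n F q) := by
  have hnc : Subgroup.center (Cfsg.SU n F q) ≠ ⊤ := by
    intro h
    obtain ⟨x, hx0, hx⟩ := exists_isotropic_ne_zero (q := q) (n := n) hF (by omega)
    obtain ⟨y, hy, hxy⟩ := exists_partner hF hx0 hx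
    obtain ⟨δ, hδ0, hδ⟩ := exists_trace_zero hF
    obtain ⟨Tx, hTx⟩ := exists_SU_tv hF hx hδ
    obtain ⟨Ty, hTy⟩ := exists_SU_tv hF hy hδ
    have hc := congrArg (fun g : Cfsg.SU n F q => g.1.1 *ᵥ x)
      (Subgroup.mem_center_iff.1 (h ▸ Subgroup.mem_top Ty) Tx)
    simp only [SU_mul_mulVec, hTx, hTy, unitaryTransvection_mulVec, hermForm_add_left,
      hermForm_smul_left, hx, hxy, hermForm_symm hF n x y, one_pow, mul_zero, zero_smul, add_zero,
      mul_one, zero_add] at hc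
    have h0 : (δ * δ) • x = 0 := by linear_combination (norm := module) hc
    exact hx0 ((smul_eq_zero.1 h0).resolve_left (mul_ne_zero hδ0 hδ0))
  have : Nontrivial (Cfsg.PSU n F q) := by
    obtain ⟨g, hg⟩ : ∃ g : Cfsg.SU n F q, g ∉ Subgroup.center (Cfsg.SU n F q) := by
      by_contra! h
      exact hnc (eq_top_iff.2 fun x _ => h x)
    exact ⟨⟨(g : Cfsg.PSU n F q), 1, fun h => hg ((QuotientGroup.eq_one_iff _).1 h)⟩⟩
  refine IsSimpleGroup.mk fun M hM => ?_
  have hM' : (M.comap (QuotientGroup.mk' (Subgroup.center (Cfsg.SU n F q)))).Normal := hM.comap _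
  rcases normal_le_center_or_top hF hn h32 _ hM' with h | h
  · left
    rw [← Subgroup.map_comap_eq_self_of_surjective
      (QuotientGroup.mk'_surjective (Subgroup.center (Cfsg.SU n F q))) M]
    exact (Subgroup.map_eq_bot_iff _).2 (by rwa [QuotientGroup.ker_mk'])
  · right
    rw [← Subgroup.map_comap_eq_self_of_surjective
      (QuotientGroup.mk'_surjective (Subgroup.center (Cfsg.SU n F q))) M, h]
    exact Subgroup.map_top_of_surjective _ (QuotientGroup.mk'_surjective _)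

end CfsgLib.ClassicalGroups
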