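import Mathlib
import Cfsg.Agent.Classical.SLBasic
import Cfsg.Agent.Lib.Small.PSLPerm

/-!
Identifying small `PSL(2, K)` with permutation groups: the image of `SL(2, K)` permutes a given
finite list of configurations of the projective line.
-/

set_option autoImplicit false
set_option linter.unusedSectionVars false

namespace CfsgLib.ClassicalGroups

open Matrix CfsgLib.Small

/-- `PSL` is functorial in ring isomorphisms. -/
noncomputable def pslFieldCongr {n : ℕ} {K L : Type*} [Field K] [Field L] (e : K ≃+* L) :
    ProjectiveSpecialLinearGroup (Fin n) K ≃* ProjectiveSpecialLinearGroup (Fin n) L :=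
  let eSL : SpecialLinearGroup (Fin n) K ≃* SpecialLinearGroup (Fin n) L :=
    { toFun := SpecialLinearGroup.map e.toRingHom
      invFun := SpecialLinearGroup.map e.symm.toRingHom
      left_inv := fun g => Subtype.ext (Matrix.ext fun _ _ => e.symm_apply_apply _)
      right_inv := fun g => Subtype.ext (Matrix.ext fun _ _ => e.apply_symm_apply _)
      map_mul' := map_mul _ }
  QuotientGroup.congr _ _ eSL (by
    ext y
    simp only [Subgroup.mem_map, Subgroup.mem_center_iff]
    constructor
    · rintro ⟨x, hx, rfl⟩ g
      obtain ⟨g', rfl⟩ := eSL.surjective g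
      show eSL g' * eSL x = eSL x * eSL g'
      rw [← map_mul, hx, map_mul]
    · intro hy
      refine ⟨eSL.symm y, fun g => eSL.injective ?_, eSL.apply_symm_apply y⟩
      rw [map_mul, map_mul, eSL.apply_symm_apply, hy])

variable {K : Type*} [Field K] [DecidableEq K]

/-- Translation of the projective line. -/
def transFun (c : K) : Option K → Option K := fun x => x.map (· + c)

/-- The map `x ↦ -1/x` of the projective line. -/
def negInvFun : Option K → Option K
  | none => some 0
  | some x => if x = 0 then none else some (-x⁻¹)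

/-- Image of a configuration under a map of points. -/
def confImg (f : Option K → Option K) (o : Finset (Finset (Option K))) :
    Finset (Finset (Option K)) :=
  o.image fun s => s.image f

theorem confImg_comp (f g : Option K → Option K) (o : Finset (Finset (Option K))) :
    confImg f (confImg g o) = confImg (f ∘ g) o := by
  simp only [confImg, Finset.image_image]
  congr 1
  funext s
  simp [Finset.image_image]

theorem confImg_id (o : Finset (Finset (Option K))) : confImg id o = o := by
  simp [confImg, Finset.image_id']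

/-- The element `[[0, -1], [1, 0]]`. -/
def slWeyl : SpecialLinearGroup (Fin 2) K := ⟨!![0, -1; 1, 0], by simp [Matrix.det_fin_two]⟩

theorem slPerm_weyl : (⇑(slPerm K slWeyl) : Option K → Option K) = negInvFun := funext fun x => by
  cases x with
  | none => rw [slPerm_none]; simp [negInvFun, slWeyl]
  | some k => rw [slPerm_some]; simp [negInvFun, slWeyl, neg_div, one_div]

theorem slPerm_transvection (c : K) :
    (⇑(slPerm K (SpecialLinearGroup.transvection zero_ne_one c)) : Option K → Option K) = transFun c :=
  funext fun x => by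
    cases x with
    | none => rw [slPerm_none]; simp [transFun, SpecialLinearGroup.transvection_coe]
    | some k => rw [slPerm_some]; simp [transFun, SpecialLinearGroup.transvection_coe]

/-- The image of `SL(2, K)` is generated by translations and `-1/x`. -/
theorem slPerm_mem_of_generators (T : Subgroup (Equiv.Perm (Option K)))
    (hup : ∀ c : K, slPerm K (SpecialLinearGroup.transvection zero_ne_one c) ∈ T)
    (hwT : slPerm K slWeyl ∈ T) (g : SpecialLinearGroup (Fin 2) K) : slPerm K g ∈ T := by
  refine SL2.transvection_induction (fun g => slPerm K g ∈ T) ?_ ?_ g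
  · intro i j hij c
    fin_cases i <;> fin_cases j <;> simp at hij
    · exact hup c
    · have e : SpecialLinearGroup.transvection one_ne_zero c =
          slWeyl * SpecialLinearGroup.transvection zero_ne_one (-c) * slWeyl⁻¹ := by
        rw [eq_mul_inv_iff_mul_eq]
        apply Subtype.ext
        show (SpecialLinearGroup.transvection one_ne_zero c).1 * slWeyl.1 =
          slWeyl.1 * (SpecialLinearGroup.transvection zero_ne_one (-c)).1
        ext a b
        fin_cases a <;> fin_cases b <;>
          simp [slWeyl, SpecialLinearGroup.transvection_coe, Matrix.mul_apply, Fin.sum_univ_two]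
      show slPerm K (SpecialLinearGroup.transvection one_ne_zero c) ∈ T
      rw [e, map_mul, map_mul, map_inv]
      exact T.mul_mem (T.mul_mem hwT (hup _)) (T.inv_mem hwT)
  · intro a b ha hb
    rw [map_mul]
    exact T.mul_mem ha hb

/-- The image of `SL(2, K)` permutes the configurations, provided translations and `-1/x` do. -/
theorem exists_confHom {n : ℕ} (obj : Fin n → Finset (Finset (Option K)))
    (hinj : Function.Injective obj)
    (hx : ∀ c : K, ∀ i, ∃ j, confImg (transFun c) (obj i) = obj j)
    (hw : ∀ i, ∃ j, confImg negInvFun (obj i) = obj j) :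
    ∃ ψ : (slPerm K).range →* Equiv.Perm (Fin n),
      ∀ (g : (slPerm K).range) (i : Fin n),
        confImg (⇑(g : Equiv.Perm (Option K))) (obj i) = obj (ψ g i) := by
  let S : Set (Equiv.Perm (Option K)) := {g | ∀ i, ∃ j, confImg (⇑g) (obj i) = obj j}
  have hone : (1 : Equiv.Perm (Option K)) ∈ S := fun i => ⟨i, by rw [Equiv.Perm.coe_one, confImg_id]⟩
  have hmul : ∀ a b, a ∈ S → b ∈ S → a * b ∈ S := fun a b ha hb i => by
    obtain ⟨j, hj⟩ := hb i
    obtain ⟨k, hk⟩ := ha j
    exact ⟨k, by rw [Equiv.Perm.coe_mul, ← confImg_comp, hj, hk]⟩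
  have hinv : ∀ a, a ∈ S → a⁻¹ ∈ S := fun a ha => by
    choose σ hσ using ha
    have hσi : Function.Injective σ := fun i j h => by
      apply hinj
      have := congrArg (confImg (⇑a⁻¹)) ((hσ i).trans ((congrArg obj h).trans (hσ j).symm))
      rwa [confImg_comp, confImg_comp, ← Equiv.Perm.coe_mul, inv_mul_cancel, Equiv.Perm.coe_one,
        confImg_id, confImg_id] at this
    intro i
    obtain ⟨j, rfl⟩ := (Finite.injective_iff_surjective.1 hσi) i
    exact ⟨j, by rw [← hσ j, confImg_comp, ← Equiv.Perm.coe_mul, inv_mul_cancel, Equiv.Perm.coe_one, confImg_id]⟩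
  let T : Subgroup (Equiv.Perm (Option K)) :=
    { carrier := S, one_mem' := hone, mul_mem' := fun {a b} => hmul a b, inv_mem' := fun {a} => hinv a }
  have hT : ∀ g, slPerm K g ∈ T := by
    intro g
    have hup : ∀ c : K, slPerm K (SpecialLinearGroup.transvection zero_ne_one c) ∈ T := by
      intro c i
      obtain ⟨j, hj⟩ := hx c i
      refine ⟨j, ?_⟩
      rwa [slPerm_transvection]
    refine slPerm_mem_of_generators T hup (fun i => ?_) g
    obtain ⟨j, hj⟩ := hw i
    refine ⟨j, ?_⟩
    rwa [slPerm_weyl]
  have hR : ∀ g : (slPerm K).range, ∀ i, ∃ j, confImg (⇑g.1) (obj i) = obj j := by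
    rintro ⟨_, a, rfl⟩
    exact hT a
  choose σ hσ using hR
  have hmulσ : ∀ g h i, σ (g * h) i = σ g (σ h i) := fun g h i => hinj (by
    rw [← hσ, ← hσ, ← hσ, Subgroup.coe_mul, Equiv.Perm.coe_mul, ← confImg_comp])
  have honeσ : ∀ i, σ 1 i = i := fun i => hinj (by
    rw [← hσ, Subgroup.coe_one, Equiv.Perm.coe_one, confImg_id])
  refine ⟨MonoidHom.mk' (fun g => ⟨σ g, σ g⁻¹, fun i => ?_, fun i => ?_⟩) (fun g h => ?_), hσ⟩
  · rw [← hmulσ, inv_mul_cancel, honeσ]
  · rw [← hmulσ, mul_inv_cancel, honeσ]
  · exact Equiv.ext (hmulσ g h)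

theorem card_range_slPerm_eq_psl :
    Nat.card (slPerm K).range = Nat.card (ProjectiveSpecialLinearGroup (Fin 2) K) :=
  (Nat.card_congr pslEquivRange.toEquiv).symm

/-- `PSL(2, K)` as the alternating group on a list of configurations. -/
theorem psl_equiv_alternating [Fintype K] (h4 : 4 ≤ Fintype.card K) {n : ℕ}
    (obj : Fin n → Finset (Finset (Option K))) (hinj : Function.Injective obj)
    (hx : ∀ c : K, ∀ i, ∃ j, confImg (transFun c) (obj i) = obj j)
    (hw : ∀ i, ∃ j, confImg negInvFun (obj i) = obj j)
    (hne : ∃ c : K, ∃ i, confImg (transFun c) (obj i) ≠ obj i)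
    (hcard : 2 * Nat.card (ProjectiveSpecialLinearGroup (Fin 2) K) = n.factorial) :
    Nonempty (ProjectiveSpecialLinearGroup (Fin 2) K ≃* alternatingGroup (Fin n)) := by
  obtain ⟨ψ, hψ⟩ := exists_confHom obj hinj hx hw
  let φ : ProjectiveSpecialLinearGroup (Fin 2) K →* Equiv.Perm (Fin n) :=
    ψ.comp pslEquivRange.toMonoidHom
  have hsimple := Matrix.ProjectiveSpecialLinearGroup.rank_two_simple (F := K)
    (by rwa [Nat.card_eq_fintype_card])
  have hker : φ.ker = ⊥ := by
    rcases φ.normal_ker.eq_bot_or_eq_top with h | h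
    · exact h
    · exfalso
      obtain ⟨c, i, hci⟩ := hne
      obtain ⟨g, hg0, hg1⟩ := exists_slPerm_translation c
      have h1 : φ (pslEquivRange.symm ⟨slPerm K g, g, rfl⟩) = 1 := by
        rw [← MonoidHom.mem_ker, h]; exact Subgroup.mem_top _
      have h2 := hψ ⟨slPerm K g, g, rfl⟩ i
      simp only [φ, MonoidHom.comp_apply, MulEquiv.coe_toMonoidHom, MulEquiv.apply_symm_apply] at h1
      rw [h1, Equiv.Perm.one_apply] at h2
      refine hci ?_
      rwa [show (⇑(slPerm K g) : Option K → Option K) = transFun c from funext fun x => ?_] at h2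
      cases x with
      | none => rw [hg0]; rfl
      | some k => rw [hg1]; rfl
  have hinj' : Function.Injective φ := (MonoidHom.ker_eq_bot_iff φ).1 hker
  have hidx : φ.range.index = 2 := by
    have h := φ.range.card_mul_index
    rw [← Nat.card_congr (MonoidHom.ofInjective hinj').toEquiv, Nat.card_perm, Nat.card_eq_fintype_card (α := Fin n),
      Fintype.card_fin, ← hcard, mul_comm 2] at h
    exact Nat.eq_of_mul_eq_mul_left Nat.card_pos h
  exact ⟨(MonoidHom.ofInjective hinj').trans
    (MulEquiv.subgroupCongr (Equiv.Perm.eq_alternatingGroup_of_index_eq_two hidx))⟩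

end CfsgLib.ClassicalGroups
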