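import Mathlib
import Cfsg.Agent.Lib.ClassicalGroups.PermModel

/-!
The configurations of the projective line of order 5 permuted like letters by its `PSL(2)`.
-/

set_option autoImplicit false

namespace CfsgLib.ClassicalGroups

theorem primeFive : Fact (Nat.Prime 5) := ⟨by norm_num⟩

attribute [local instance] primeFive

/-- The configurations. -/
def confFive : Fin 5 → Finset (Finset (Option (ZMod 5))) :=
![
  {{some 0, some 1}, {some 2, some 4}, {some 3, none}},
  {{some 0, some 2}, {some 1, none}, {some 3, some 4}},
  {{some 0, some 3}, {some 1, some 2}, {some 4, none}},
  {{some 0, some 4}, {some 1, some 3}, {some 2, none}},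
  {{some 0, none}, {some 1, some 4}, {some 2, some 3}}
]

theorem confFive_injective : Function.Injective confFive := by decide +kernel

theorem confFive_trans : ∀ c : ZMod 5, ∀ i, ∃ j, confImg (transFun c) (confFive i) = confFive j := by
  decide +kernel

theorem confFive_negInv : ∀ i, ∃ j, confImg negInvFun (confFive i) = confFive j := by decide +kernel

theorem confFive_ne : ∃ c : ZMod 5, ∃ i, confImg (transFun c) (confFive i) ≠ confFive i := by decide +kernel

end CfsgLib.ClassicalGroups
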