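import Mathlib
import Cfsg.Agent.Lib.ClassicalGroups.PermModel

/-!
The configurations of the projective line of order 9 permuted like letters by its `PSL(2)`.
-/

set_option autoImplicit false

namespace CfsgLib.ClassicalGroups

/-- The field with nine elements, `ZMod 3[i]`. -/
abbrev NineField : Type := QuadraticAlgebra (ZMod 3) (-1) 0

theorem nineField_irreducible : Fact (∀ r : ZMod 3, r ^ 2 ≠ -1 + 0 * r) := ⟨by decide⟩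

attribute [local instance] nineField_irreducible

instance nineFieldFintype : Fintype NineField :=
  Fintype.ofEquiv (ZMod 3 × ZMod 3) (QuadraticAlgebra.equivProd (-1) 0).symm

/-- The configurations. -/
def confNine : Fin 6 → Finset (Finset (Option (NineField))) :=
![
  {{some ⟨0, 0⟩, some ⟨0, 1⟩}, {some ⟨0, 0⟩, some ⟨0, 2⟩}, {some ⟨0, 0⟩, none}, {some ⟨0, 1⟩, some ⟨1, 2⟩}, {some ⟨0, 1⟩, some ⟨2, 2⟩}, {some ⟨0, 2⟩, some ⟨1, 1⟩}, {some ⟨0, 2⟩, some ⟨2, 1⟩}, {some ⟨1, 0⟩, some ⟨1, 1⟩}, {some ⟨1, 0⟩, some ⟨1, 2⟩}, {some ⟨1, 0⟩, none}, {some ⟨1, 1⟩, some ⟨2, 2⟩}, {some ⟨1, 2⟩, some ⟨2, 1⟩}, {some ⟨2, 0⟩, some ⟨2, 1⟩}, {some ⟨2, 0⟩, some ⟨2, 2⟩}, {some ⟨2, 0⟩, none}},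
  {{some ⟨0, 0⟩, some ⟨0, 1⟩}, {some ⟨0, 0⟩, some ⟨1, 2⟩}, {some ⟨0, 0⟩, some ⟨2, 2⟩}, {some ⟨0, 1⟩, some ⟨0, 2⟩}, {some ⟨0, 1⟩, none}, {some ⟨0, 2⟩, some ⟨1, 0⟩}, {some ⟨0, 2⟩, some ⟨2, 0⟩}, {some ⟨1, 0⟩, some ⟨1, 1⟩}, {some ⟨1, 0⟩, some ⟨2, 2⟩}, {some ⟨1, 1⟩, some ⟨1, 2⟩}, {some ⟨1, 1⟩, none}, {some ⟨1, 2⟩, some ⟨2, 0⟩}, {some ⟨2, 0⟩, some ⟨2, 1⟩}, {some ⟨2, 1⟩, some ⟨2, 2⟩}, {some ⟨2, 1⟩, none}},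
  {{some ⟨0, 0⟩, some ⟨0, 2⟩}, {some ⟨0, 0⟩, some ⟨1, 1⟩}, {some ⟨0, 0⟩, some ⟨2, 1⟩}, {some ⟨0, 1⟩, some ⟨0, 2⟩}, {some ⟨0, 1⟩, some ⟨1, 0⟩}, {some ⟨0, 1⟩, some ⟨2, 0⟩}, {some ⟨0, 2⟩, none}, {some ⟨1, 0⟩, some ⟨1, 2⟩}, {some ⟨1, 0⟩, some ⟨2, 1⟩}, {some ⟨1, 1⟩, some ⟨1, 2⟩}, {some ⟨1, 1⟩, some ⟨2, 0⟩}, {some ⟨1, 2⟩, none}, {some ⟨2, 0⟩, some ⟨2, 2⟩}, {some ⟨2, 1⟩, some ⟨2, 2⟩}, {some ⟨2, 2⟩, none}},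
  {{some ⟨0, 0⟩, some ⟨1, 0⟩}, {some ⟨0, 0⟩, some ⟨2, 0⟩}, {some ⟨0, 0⟩, none}, {some ⟨0, 1⟩, some ⟨1, 1⟩}, {some ⟨0, 1⟩, some ⟨2, 1⟩}, {some ⟨0, 1⟩, none}, {some ⟨0, 2⟩, some ⟨1, 2⟩}, {some ⟨0, 2⟩, some ⟨2, 2⟩}, {some ⟨0, 2⟩, none}, {some ⟨1, 0⟩, some ⟨2, 1⟩}, {some ⟨1, 0⟩, some ⟨2, 2⟩}, {some ⟨1, 1⟩, some ⟨2, 0⟩}, {some ⟨1, 1⟩, some ⟨2, 2⟩}, {some ⟨1, 2⟩, some ⟨2, 0⟩}, {some ⟨1, 2⟩, some ⟨2, 1⟩}},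
  {{some ⟨0, 0⟩, some ⟨1, 0⟩}, {some ⟨0, 0⟩, some ⟨2, 1⟩}, {some ⟨0, 0⟩, some ⟨2, 2⟩}, {some ⟨0, 1⟩, some ⟨1, 1⟩}, {some ⟨0, 1⟩, some ⟨2, 0⟩}, {some ⟨0, 1⟩, some ⟨2, 2⟩}, {some ⟨0, 2⟩, some ⟨1, 2⟩}, {some ⟨0, 2⟩, some ⟨2, 0⟩}, {some ⟨0, 2⟩, some ⟨2, 1⟩}, {some ⟨1, 0⟩, some ⟨2, 0⟩}, {some ⟨1, 0⟩, none}, {some ⟨1, 1⟩, some ⟨2, 1⟩}, {some ⟨1, 1⟩, none}, {some ⟨1, 2⟩, some ⟨2, 2⟩}, {some ⟨1, 2⟩, none}},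
  {{some ⟨0, 0⟩, some ⟨1, 1⟩}, {some ⟨0, 0⟩, some ⟨1, 2⟩}, {some ⟨0, 0⟩, some ⟨2, 0⟩}, {some ⟨0, 1⟩, some ⟨1, 0⟩}, {some ⟨0, 1⟩, some ⟨1, 2⟩}, {some ⟨0, 1⟩, some ⟨2, 1⟩}, {some ⟨0, 2⟩, some ⟨1, 0⟩}, {some ⟨0, 2⟩, some ⟨1, 1⟩}, {some ⟨0, 2⟩, some ⟨2, 2⟩}, {some ⟨1, 0⟩, some ⟨2, 0⟩}, {some ⟨1, 1⟩, some ⟨2, 1⟩}, {some ⟨1, 2⟩, some ⟨2, 2⟩}, {some ⟨2, 0⟩, none}, {some ⟨2, 1⟩, none}, {some ⟨2, 2⟩, none}}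
]

theorem confNine_injective : Function.Injective confNine := by decide +kernel

theorem confNine_trans : ∀ c : NineField, ∀ i, ∃ j, confImg (transFun c) (confNine i) = confNine j := by
  decide +kernel

theorem confNine_negInv : ∀ i, ∃ j, confImg negInvFun (confNine i) = confNine j := by decide +kernel

theorem confNine_ne : ∃ c : NineField, ∃ i, confImg (transFun c) (confNine i) ≠ confNine i := by decide +kernel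

end CfsgLib.ClassicalGroups
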