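import Mathlib
import Cfsg.Agent.Lib.ClassicalGroups.PermModel

/-!
The configurations of the projective line of order 7 permuted like letters by its `PSL(2)`.
-/

set_option autoImplicit false

namespace CfsgLib.ClassicalGroups

theorem primeSeven : Fact (Nat.Prime 7) := ⟨by norm_num⟩

attribute [local instance] primeSeven

/-- The configurations. -/
def confSeven : Fin 7 → Finset (Finset (Option (ZMod 7))) :=
![
  {{some 0, some 1, some 2, some 4}, {some 3, some 5, some 6, none}},
  {{some 0, some 1, some 3, some 6}, {some 2, some 4, some 5, none}},
  {{some 0, some 1, some 5, none}, {some 2, some 3, some 4, some 6}},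
  {{some 0, some 2, some 3, none}, {some 1, some 4, some 5, some 6}},
  {{some 0, some 2, some 5, some 6}, {some 1, some 3, some 4, none}},
  {{some 0, some 3, some 4, some 5}, {some 1, some 2, some 6, none}},
  {{some 0, some 4, some 6, none}, {some 1, some 2, some 3, some 5}}
]

theorem confSeven_injective : Function.Injective confSeven := by decide +kernel

theorem confSeven_trans : ∀ c : ZMod 7, ∀ i, ∃ j, confImg (transFun c) (confSeven i) = confSeven j := by
  decide +kernel

theorem confSeven_negInv : ∀ i, ∃ j, confImg negInvFun (confSeven i) = confSeven j := by decide +kernel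

theorem confSeven_ne : ∃ c : ZMod 7, ∃ i, confImg (transFun c) (confSeven i) ≠ confSeven i := by decide +kernel

end CfsgLib.ClassicalGroups
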