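import Mathlib
import Cfsg.Agent.Classical.SLBasic
import Cfsg.Agent.Classical.SLGen
import Cfsg.Agent.Lib.Small.PSLPerm
import Cfsg.Agent.Lib.ClassicalGroups.PermModel
import Cfsg.Agent.Lib.ClassicalGroups.ConfFive
import Cfsg.Agent.Lib.ClassicalGroups.ConfSeven
import Cfsg.Agent.Lib.ClassicalGroups.ConfNine

/-!
Small exceptional isomorphisms of `PSL(2, q)`, `q ≤ 9`.
-/

set_option autoImplicit false
set_option linter.unusedSectionVars false

namespace CfsgLib.ClassicalGroups

open Matrix CfsgLib.Small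

variable {K : Type*} [Field K] [Fintype K]

/-- A group of order `n!/2` in `S_n` is `A_n`. -/
theorem nonempty_equiv_alternating {G : Type*} [Group G] {n : ℕ} (φ : G →* Equiv.Perm (Fin n))
    (hφ : Function.Injective φ) (hcard : 2 * Nat.card G = n.factorial) :
    Nonempty (G ≃* alternatingGroup (Fin n)) := by
  have hidx : φ.range.index = 2 := by
    have h := φ.range.card_mul_index
    rw [← Nat.card_congr (MonoidHom.ofInjective hφ).toEquiv, Nat.card_perm,
      Nat.card_eq_fintype_card (α := Fin n), Fintype.card_fin, ← hcard, mul_comm 2] at h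
    exact Nat.eq_of_mul_eq_mul_left (by
      rcases Nat.eq_zero_or_pos (Nat.card G) with h0 | h0
      · exfalso; rw [h0, mul_zero] at hcard; exact (Nat.factorial_pos n).ne hcard
      · exact h0) h
  exact ⟨(MonoidHom.ofInjective hφ).trans
    (MulEquiv.subgroupCongr (Equiv.Perm.eq_alternatingGroup_of_index_eq_two hidx))⟩

theorem card_psl_two_gcd :
    Nat.gcd 2 (Fintype.card K - 1) * Nat.card (ProjectiveSpecialLinearGroup (Fin 2) K) =
      Fintype.card K * (Fintype.card K ^ 2 - 1) := by
  classical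
  rw [← card_range_slPerm_eq_psl, card_range_slPerm]

/-- The faithful action of `PSL(2, K)` on `q + 1` points. -/
theorem exists_injective_line [DecidableEq K] {n : ℕ} (hn : Fintype.card K + 1 = n) :
    ∃ φ : ProjectiveSpecialLinearGroup (Fin 2) K →* Equiv.Perm (Fin n), Function.Injective φ := by
  let e : Option K ≃ Fin n := Fintype.equivFinOfCardEq (by simp [hn])
  refine ⟨e.permCongrHom.toMonoidHom.comp ((slPerm K).range.subtype.comp pslEquivRange.toMonoidHom), ?_⟩
  exact e.permCongrHom.injective.comp (Subtype.val_injective.comp pslEquivRange.injective)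

theorem psl_two_three_alternating (hK : Fintype.card K = 3) :
    Nonempty (ProjectiveSpecialLinearGroup (Fin 2) K ≃* alternatingGroup (Fin 4)) := by
  classical
  obtain ⟨φ, hφ⟩ := exists_injective_line (K := K) (n := 4) (by rw [hK])
  have h := card_psl_two_gcd (K := K)
  rw [hK] at h
  exact nonempty_equiv_alternating φ hφ (h.trans (by rfl))

theorem psl_two_four_alternating (hK : Fintype.card K = 4) :
    Nonempty (ProjectiveSpecialLinearGroup (Fin 2) K ≃* alternatingGroup (Fin 5)) := by
  classical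
  obtain ⟨φ, hφ⟩ := exists_injective_line (K := K) (n := 5) (by rw [hK])
  have h := card_psl_two_gcd (K := K)
  rw [hK] at h
  simp [-Nat.card_eq_fintype_card] at h
  exact nonempty_equiv_alternating φ hφ (by rw [h]; rfl)

theorem sl_two_two_perm (hK : Fintype.card K = 2) :
    Nonempty (SpecialLinearGroup (Fin 2) K ≃* Equiv.Perm (Fin 3)) := by
  classical
  have hc := Cfsg.Agent.Classical.card_center_sl (F := K) 2 (by norm_num)
  rw [hK] at hc
  have hz : Subgroup.center (SpecialLinearGroup (Fin 2) K) = ⊥ :=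
    Subgroup.eq_bot_of_card_eq _ (by simpa using hc)
  obtain ⟨φ, hφ⟩ := exists_injective_line (K := K) (n := 3) (by rw [hK])
  have h := card_psl_two_gcd (K := K)
  rw [hK] at h
  simp [-Nat.card_eq_fintype_card] at h
  have hb : Function.Bijective φ := by
    rw [Nat.bijective_iff_injective_and_card]
    exact ⟨hφ, by rw [h, Nat.card_perm, Nat.card_eq_fintype_card, Fintype.card_fin]; rfl⟩
  exact ⟨((QuotientGroup.quotientBot (G := SpecialLinearGroup (Fin 2) K)).symm.trans
    (QuotientGroup.quotientMulEquivOfEq hz.symm)).trans (MulEquiv.ofBijective φ hb)⟩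

attribute [local instance] primeFive primeSeven nineField_irreducible

theorem psl_two_five_alternating (hK : Fintype.card K = 5) :
    Nonempty (ProjectiveSpecialLinearGroup (Fin 2) K ≃* alternatingGroup (Fin 5)) := by
  have h := card_psl_two_gcd (K := ZMod 5)
  rw [ZMod.card] at h
  obtain ⟨e⟩ := psl_equiv_alternating (K := ZMod 5) (by simp) confFive confFive_injective
    confFive_trans confFive_negInv confFive_ne (h.trans (by rfl))
  exact ⟨(pslFieldCongr (ZMod.ringEquivOfPrime K primeFive.out hK)).symm.trans e⟩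

theorem card_nineField : Fintype.card NineField = 9 := by
  rw [Fintype.card_congr (QuadraticAlgebra.equivProd (-1 : ZMod 3) 0)]
  simp

theorem psl_two_nine_alternating (hK : Fintype.card K = 9) :
    Nonempty (ProjectiveSpecialLinearGroup (Fin 2) K ≃* alternatingGroup (Fin 6)) := by
  have h := card_psl_two_gcd (K := NineField)
  rw [card_nineField] at h
  obtain ⟨e⟩ := psl_equiv_alternating (K := NineField) (by rw [card_nineField]; norm_num) confNine
    confNine_injective confNine_trans confNine_negInv confNine_ne (h.trans (by rfl))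
  exact ⟨(pslFieldCongr (FiniteField.ringEquivOfCardEq (hK.trans card_nineField.symm))).trans e⟩

/-- Labelling of the seven configurations by nonzero vectors. -/
def sevenVec : Fin 7 → Fin 3 → ZMod 2 :=
  ![![0, 0, 1], ![0, 1, 0], ![0, 1, 1], ![1, 0, 0], ![1, 0, 1], ![1, 1, 0], ![1, 1, 1]]

/-- The image of `x ↦ x + 1`. -/
def sevenA : Matrix (Fin 3) (Fin 3) (ZMod 2) := !![1, 0, 1; 0, 0, 1; 1, 1, 1]

/-- The image of `x ↦ -1/x`. -/
def sevenB : Matrix (Fin 3) (Fin 3) (ZMod 2) := !![1, 1, 0; 0, 1, 0; 0, 0, 1]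

theorem sevenVec_injective : Function.Injective sevenVec := by decide +kernel

theorem sevenVec_surjective : ∀ v : Fin 3 → ZMod 2, v ≠ 0 → ∃ i, sevenVec i = v := by decide +kernel

theorem sevenVec_ne_zero : ∀ i, sevenVec i ≠ 0 := by decide +kernel

theorem sevenA_spec : ∀ c : ZMod 7, ∀ i, ∃ j,
    confImg (transFun c) (confSeven i) = confSeven j ∧ (sevenA ^ c.val) *ᵥ sevenVec i = sevenVec j := by
  decide +kernel

theorem sevenB_spec : ∀ i, ∃ j,
    confImg negInvFun (confSeven i) = confSeven j ∧ sevenB *ᵥ sevenVec i = sevenVec j := by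
  decide +kernel

theorem sevenDet : sevenA.det = 1 ∧ sevenB.det = 1 := by
  constructor <;> simp [Matrix.det_fin_three, sevenA, sevenB]

theorem psl_two_seven_psl_three_two {L : Type*} [Field L] [Fintype L]
    (hK : Fintype.card K = 7) (hL : Fintype.card L = 2) :
    Nonempty (ProjectiveSpecialLinearGroup (Fin 2) K ≃* ProjectiveSpecialLinearGroup (Fin 3) L) := by
  obtain ⟨ψ, hψ⟩ := exists_confHom confSeven confSeven_injective
    (fun c i => (sevenA_spec c i).imp fun _ h => h.1) (fun i => (sevenB_spec i).imp fun _ h => h.1)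
  -- the linear group on the seven vectors
  have hex : ∀ (g : SpecialLinearGroup (Fin 3) (ZMod 2)) (i : Fin 7), ∃ j, sevenVec j = g.1 *ᵥ sevenVec i := by
    intro g i
    refine sevenVec_surjective _ fun h => sevenVec_ne_zero i ?_
    exact Matrix.eq_zero_of_mulVec_eq_zero (by rw [g.2]; exact one_ne_zero) h
  choose σ hσ using hex
  have hσm : ∀ g h i, σ (g * h) i = σ g (σ h i) := fun g h i => sevenVec_injective (by
    rw [hσ, hσ, hσ, Matrix.mulVec_mulVec]; rfl)
  have hσ1 : ∀ i, σ 1 i = i := fun i => sevenVec_injective (by rw [hσ]; exact Matrix.one_mulVec _)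
  let ρ : SpecialLinearGroup (Fin 3) (ZMod 2) →* Equiv.Perm (Fin 7) :=
    MonoidHom.mk' (fun g => ⟨σ g, σ g⁻¹,
      fun i => by rw [← hσm, inv_mul_cancel, hσ1], fun i => by rw [← hσm, mul_inv_cancel, hσ1]⟩)
      (fun g h => Equiv.ext (hσm g h))
  have hρ : Function.Injective ρ := by
    rw [injective_iff_map_eq_one]
    intro g hg
    apply Subtype.ext
    refine Matrix.ext_of_mulVec_single fun i => ?_
    obtain ⟨j, hj⟩ := sevenVec_surjective (Pi.single i 1) (by simp)
    rw [← hj, ← hσ]
    show sevenVec (ρ g j) = _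
    rw [hg]
    exact (Matrix.one_mulVec _).symm
  have hle : ψ.range ≤ ρ.range := by
    rintro _ ⟨⟨_, a, rfl⟩, rfl⟩
    let T : Subgroup (Equiv.Perm (Option (ZMod 7))) := (ρ.range.comap ψ).map (slPerm (ZMod 7)).range.subtype
    suffices h : slPerm (ZMod 7) a ∈ T by
      obtain ⟨r, hr, hr2⟩ := h
      have : r = ⟨slPerm (ZMod 7) a, a, rfl⟩ := Subtype.ext hr2
      subst this
      exact hr
    refine slPerm_mem_of_generators T (fun c => ?_) ?_ a
    · refine ⟨⟨_, _, rfl⟩, ⟨⟨sevenA, sevenDet.1⟩ ^ c.val, Equiv.ext fun i => ?_⟩, rfl⟩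
      obtain ⟨j, hj, hjv⟩ := sevenA_spec c i
      have h2 := hψ ⟨slPerm (ZMod 7) (SpecialLinearGroup.transvection zero_ne_one c), _, rfl⟩ i
      rw [slPerm_transvection, hj] at h2
      rw [← confSeven_injective h2]
      apply sevenVec_injective
      show sevenVec (σ _ i) = _
      exact (hσ _ i).trans hjv
    · refine ⟨⟨_, _, rfl⟩, ⟨⟨sevenB, sevenDet.2⟩, Equiv.ext fun i => ?_⟩, rfl⟩
      obtain ⟨j, hj, hjv⟩ := sevenB_spec i
      have h2 := hψ ⟨slPerm (ZMod 7) slWeyl, _, rfl⟩ i
      rw [slPerm_weyl, hj] at h2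
      rw [← confSeven_injective h2]
      apply sevenVec_injective
      show sevenVec (σ _ i) = _
      exact (hσ _ i).trans hjv
  let φ : ProjectiveSpecialLinearGroup (Fin 2) (ZMod 7) →* Equiv.Perm (Fin 7) :=
    ψ.comp pslEquivRange.toMonoidHom
  have hsimple := Matrix.ProjectiveSpecialLinearGroup.rank_two_simple (F := ZMod 7) (by simp)
  have hφ : Function.Injective φ := by
    rw [← MonoidHom.ker_eq_bot_iff]
    rcases φ.normal_ker.eq_bot_or_eq_top with h | h
    · exact h
    exfalso
    obtain ⟨c, i, hci⟩ := confSeven_ne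
    have h1 : φ (pslEquivRange.symm ⟨slPerm (ZMod 7) (SpecialLinearGroup.transvection zero_ne_one c), _, rfl⟩) = 1 := by
      rw [← MonoidHom.mem_ker, h]; exact Subgroup.mem_top _
    have h2 := hψ ⟨slPerm (ZMod 7) (SpecialLinearGroup.transvection zero_ne_one c), _, rfl⟩ i
    simp only [φ, MonoidHom.comp_apply, MulEquiv.coe_toMonoidHom, MulEquiv.apply_symm_apply] at h1
    rw [h1, Equiv.Perm.one_apply, slPerm_transvection] at h2
    exact hci h2
  have hrange : φ.range = ρ.range := by
    refine Subgroup.eq_of_le_of_card_ge ?_ ?_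
    · rintro _ ⟨x, rfl⟩
      exact hle ⟨_, rfl⟩
    · rw [← Nat.card_congr (MonoidHom.ofInjective hφ).toEquiv, ← Nat.card_congr (MonoidHom.ofInjective hρ).toEquiv]
      have h1 := card_psl_two_gcd (K := ZMod 7)
      have h2 := Cfsg.Agent.Classical.card_sl_mul (F := ZMod 2) 3 (by norm_num)
      rw [ZMod.card] at h1 h2
      norm_num [Fin.prod_univ_three, -Nat.card_eq_fintype_card] at h1 h2 ⊢
      omega
  have hz : Subgroup.center (SpecialLinearGroup (Fin 3) (ZMod 2)) = ⊥ :=
    Subgroup.eq_bot_of_card_eq _ (by rw [Cfsg.Agent.Classical.card_center_sl 3 (by norm_num)]; simp [ZMod.card])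
  exact ⟨((pslFieldCongr (ZMod.ringEquivOfPrime K primeSeven.out hK)).symm.trans
    ((MonoidHom.ofInjective hφ).trans (MulEquiv.subgroupCongr hrange))).trans
    ((MonoidHom.ofInjective hρ).symm.trans (((QuotientGroup.quotientBot).symm.trans
      (QuotientGroup.quotientMulEquivOfEq hz.symm)).trans
        (pslFieldCongr (ZMod.ringEquivOfPrime L Nat.prime_two hL))))⟩

end CfsgLib.ClassicalGroups
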