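import Mathlib

/-!
Tables for `PSU_4(2) ≅ PSp_4(3)`: representatives of the 40 points of the symplectic space over the field of three
elements, of the 40 non-isotropic points of the Hermitian space over the field of four elements, and the common
permutation action of transvections and pseudo-reflections.
-/

set_option autoImplicit false

namespace CfsgLib.PSUFour

/-- Symplectic points, base 3. -/
def pTab : List ℕ := [27, 9, 36, 63, 3, 30, 57, 12, 39, 66, 21, 48, 75, 1, 28, 55, 10, 37, 64, 19, 46, 73, 4, 31, 58, 13, 40, 67, 22, 49, 76, 7, 34, 61, 16, 43, 70, 25, 52, 79]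

/-- Hermitian points, base 4. -/
def nTab : List ℕ := [64, 16, 4, 1, 69, 133, 197, 201, 73, 137, 141, 205, 77, 21, 57, 45, 37, 25, 61, 53, 41, 29, 84, 148, 212, 100, 164, 228, 116, 180, 244, 81, 209, 145, 97, 225, 161, 113, 241, 177]

/-- Permutation of the generator `i`. -/
def sTab : List (List ℕ) := [
  [0, 1, 2, 3, 6, 4, 5, 9, 7, 8, 12, 10, 11, 13, 14, 15, 16, 17, 18, 19, 20, 21, 24, 22, 23, 27, 25, 26, 30, 28, 29, 32, 33, 31, 35, 36, 34, 38, 39, 37],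
  [0, 1, 2, 3, 4, 5, 6, 7, 8, 9, 10, 11, 12, 19, 20, 21, 13, 14, 15, 16, 17, 18, 28, 29, 30, 22, 23, 24, 25, 26, 27, 37, 38, 39, 31, 32, 33, 34, 35, 36],
  [0, 1, 2, 3, 12, 10, 11, 6, 4, 5, 9, 7, 8, 21, 19, 20, 15, 13, 14, 18, 16, 17, 26, 27, 25, 29, 30, 28, 23, 24, 22, 31, 32, 33, 34, 35, 36, 37, 38, 39],
  [0, 1, 2, 3, 9, 7, 8, 12, 10, 11, 6, 4, 5, 20, 21, 19, 14, 15, 13, 17, 18, 16, 22, 23, 24, 25, 26, 27, 28, 29, 30, 36, 34, 35, 39, 37, 38, 33, 31, 32],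
  [5, 1, 8, 11, 4, 6, 0, 7, 12, 3, 10, 9, 2, 13, 23, 33, 16, 26, 36, 19, 29, 39, 22, 32, 15, 25, 35, 18, 28, 38, 21, 31, 14, 24, 34, 17, 27, 37, 20, 30],
  [6, 1, 9, 12, 0, 5, 4, 3, 8, 10, 2, 11, 7, 13, 24, 32, 16, 27, 35, 19, 30, 38, 15, 23, 31, 18, 26, 34, 21, 29, 37, 14, 22, 33, 17, 25, 36, 20, 28, 39],
  [4, 1, 7, 10, 5, 0, 6, 11, 3, 9, 8, 2, 12, 13, 22, 31, 16, 25, 34, 19, 28, 37, 33, 15, 24, 36, 18, 27, 39, 21, 30, 23, 32, 14, 26, 35, 17, 29, 38, 20],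
  [8, 1, 11, 5, 4, 12, 2, 7, 9, 0, 10, 6, 3, 37, 14, 27, 31, 17, 30, 34, 20, 24, 19, 23, 36, 13, 26, 39, 16, 29, 33, 28, 32, 18, 22, 35, 21, 25, 38, 15],
  [9, 1, 12, 6, 2, 5, 10, 0, 8, 7, 3, 11, 4, 39, 14, 25, 33, 17, 28, 36, 20, 22, 35, 19, 24, 38, 13, 27, 32, 16, 30, 31, 18, 29, 34, 21, 23, 37, 15, 26],
  [7, 1, 10, 4, 11, 2, 6, 8, 0, 9, 5, 3, 12, 38, 14, 26, 32, 17, 29, 35, 20, 23, 22, 34, 19, 25, 37, 13, 28, 31, 16, 18, 30, 33, 21, 24, 36, 15, 27, 39],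
  [11, 1, 5, 8, 4, 9, 3, 7, 6, 2, 10, 12, 0, 28, 35, 15, 22, 38, 18, 25, 32, 21, 37, 17, 24, 31, 20, 27, 34, 14, 30, 19, 26, 33, 13, 29, 36, 16, 23, 39],
  [12, 1, 6, 9, 3, 5, 7, 2, 8, 4, 0, 11, 10, 29, 34, 15, 23, 37, 18, 26, 31, 21, 22, 39, 17, 25, 33, 20, 28, 36, 14, 27, 32, 19, 30, 35, 13, 24, 38, 16],
  [10, 1, 4, 7, 8, 3, 6, 5, 2, 9, 11, 0, 12, 30, 36, 15, 24, 39, 18, 27, 33, 21, 17, 23, 38, 20, 26, 32, 14, 29, 35, 31, 19, 25, 34, 13, 28, 37, 16, 22],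
  [0, 16, 17, 18, 4, 5, 6, 25, 26, 27, 34, 36, 35, 13, 14, 15, 19, 21, 20, 1, 3, 2, 22, 23, 24, 37, 39, 38, 10, 11, 12, 31, 32, 33, 28, 30, 29, 7, 9, 8],
  [0, 17, 18, 16, 32, 31, 33, 7, 8, 9, 29, 30, 28, 13, 14, 15, 21, 20, 19, 2, 1, 3, 6, 4, 5, 25, 26, 27, 36, 35, 34, 24, 23, 22, 11, 10, 12, 37, 38, 39],
  [0, 18, 16, 17, 24, 22, 23, 39, 38, 37, 10, 11, 12, 13, 14, 15, 20, 19, 21, 3, 2, 1, 32, 31, 33, 8, 9, 7, 28, 29, 30, 6, 5, 4, 34, 35, 36, 26, 25, 27],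
  [0, 19, 20, 21, 4, 5, 6, 28, 29, 30, 37, 39, 38, 1, 3, 2, 16, 17, 18, 13, 15, 14, 10, 11, 12, 25, 26, 27, 31, 33, 32, 7, 9, 8, 34, 35, 36, 22, 24, 23],
  [0, 20, 21, 19, 35, 34, 36, 7, 8, 9, 23, 24, 22, 2, 1, 3, 16, 17, 18, 15, 14, 13, 39, 38, 37, 6, 4, 5, 28, 29, 30, 31, 32, 33, 27, 26, 25, 11, 10, 12],
  [0, 21, 19, 20, 27, 25, 26, 33, 32, 31, 10, 11, 12, 3, 2, 1, 16, 17, 18, 14, 13, 15, 22, 23, 24, 35, 34, 36, 8, 9, 7, 29, 28, 30, 6, 5, 4, 37, 38, 39],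
  [0, 13, 14, 15, 4, 5, 6, 22, 23, 24, 31, 33, 32, 16, 18, 17, 1, 3, 2, 19, 20, 21, 34, 36, 35, 10, 11, 12, 28, 29, 30, 25, 27, 26, 7, 9, 8, 37, 38, 39],
  [0, 14, 15, 13, 38, 37, 39, 7, 8, 9, 26, 27, 25, 18, 17, 16, 2, 1, 3, 19, 20, 21, 22, 23, 24, 33, 32, 31, 6, 4, 5, 11, 10, 12, 34, 35, 36, 30, 29, 28],
  [0, 15, 13, 14, 30, 28, 29, 36, 35, 34, 10, 11, 12, 17, 16, 18, 3, 2, 1, 19, 20, 21, 8, 9, 7, 25, 26, 27, 38, 37, 39, 31, 32, 33, 23, 22, 24, 6, 5, 4],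
  [23, 25, 30, 3, 4, 32, 14, 34, 21, 9, 16, 11, 39, 13, 33, 5, 37, 12, 18, 7, 20, 35, 22, 24, 0, 28, 2, 27, 1, 29, 26, 31, 15, 6, 19, 8, 36, 10, 38, 17],
  [24, 26, 28, 3, 14, 5, 31, 7, 36, 21, 38, 16, 12, 13, 32, 6, 39, 10, 18, 8, 20, 34, 0, 23, 22, 25, 29, 2, 27, 1, 30, 15, 4, 33, 9, 35, 19, 37, 17, 11],
  [22, 27, 29, 3, 33, 14, 6, 21, 8, 35, 10, 37, 16, 13, 31, 4, 38, 11, 18, 9, 20, 36, 23, 0, 24, 2, 26, 30, 28, 25, 1, 5, 32, 15, 34, 19, 7, 17, 12, 39],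
  [26, 28, 24, 3, 4, 35, 17, 37, 15, 9, 19, 11, 33, 7, 14, 38, 16, 36, 5, 31, 12, 21, 1, 23, 29, 25, 27, 0, 22, 2, 30, 10, 32, 20, 34, 18, 6, 13, 8, 39],
  [27, 29, 22, 3, 17, 5, 34, 7, 39, 15, 32, 19, 12, 8, 14, 37, 16, 35, 6, 33, 10, 21, 30, 1, 24, 0, 26, 25, 28, 23, 2, 31, 20, 11, 18, 4, 36, 9, 38, 13],
  [25, 30, 23, 3, 36, 17, 6, 15, 8, 38, 10, 31, 19, 9, 14, 39, 16, 34, 4, 32, 11, 21, 22, 28, 1, 26, 0, 27, 2, 29, 24, 20, 12, 33, 5, 35, 18, 37, 13, 7],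
  [29, 22, 27, 3, 4, 38, 20, 31, 18, 9, 13, 11, 36, 34, 12, 15, 7, 17, 32, 19, 39, 5, 25, 2, 24, 1, 26, 23, 28, 30, 0, 16, 8, 33, 10, 35, 14, 37, 21, 6],
  [30, 23, 25, 3, 20, 5, 37, 7, 33, 18, 35, 13, 12, 36, 10, 15, 8, 17, 31, 19, 38, 6, 22, 26, 2, 24, 1, 27, 0, 29, 28, 9, 32, 16, 34, 14, 11, 21, 4, 39],
  [28, 24, 26, 3, 39, 20, 6, 18, 8, 32, 10, 34, 13, 35, 11, 15, 9, 17, 33, 19, 37, 4, 2, 23, 27, 25, 22, 1, 29, 0, 30, 31, 16, 7, 14, 12, 36, 5, 38, 21],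
  [33, 34, 2, 38, 4, 24, 15, 16, 8, 29, 25, 20, 12, 13, 5, 23, 28, 17, 9, 10, 27, 21, 22, 6, 14, 19, 26, 11, 7, 18, 30, 31, 0, 32, 37, 35, 3, 1, 36, 39],
  [31, 35, 2, 39, 23, 15, 6, 7, 28, 16, 20, 11, 27, 13, 4, 22, 30, 17, 8, 12, 26, 21, 5, 14, 24, 25, 10, 19, 18, 29, 9, 33, 32, 0, 3, 38, 36, 37, 1, 34],
  [32, 36, 2, 37, 15, 5, 22, 30, 16, 9, 10, 26, 20, 13, 6, 24, 29, 17, 7, 11, 25, 21, 14, 23, 4, 12, 19, 27, 28, 8, 18, 0, 31, 33, 34, 3, 39, 35, 38, 1],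
  [36, 37, 2, 32, 4, 27, 18, 19, 8, 23, 28, 14, 12, 10, 30, 15, 16, 5, 26, 22, 20, 9, 7, 21, 24, 25, 6, 17, 13, 29, 11, 1, 39, 33, 34, 0, 35, 31, 38, 3],
  [34, 38, 2, 33, 26, 18, 6, 7, 22, 19, 14, 11, 30, 12, 29, 15, 16, 4, 25, 24, 20, 8, 21, 23, 9, 5, 17, 27, 28, 10, 13, 31, 1, 37, 36, 35, 0, 3, 32, 39],
  [35, 39, 2, 31, 18, 5, 25, 24, 19, 9, 10, 29, 14, 11, 28, 15, 16, 6, 27, 23, 20, 7, 22, 8, 21, 17, 26, 4, 12, 13, 30, 38, 32, 1, 0, 34, 36, 37, 3, 33],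
  [39, 31, 2, 35, 4, 30, 21, 13, 8, 26, 22, 17, 12, 25, 14, 9, 10, 24, 18, 19, 5, 29, 16, 23, 11, 7, 15, 27, 28, 6, 20, 34, 32, 3, 1, 33, 36, 37, 0, 38],
  [37, 32, 2, 36, 29, 21, 6, 7, 25, 13, 17, 11, 24, 27, 14, 8, 12, 23, 18, 19, 4, 28, 22, 10, 16, 15, 26, 9, 5, 20, 30, 3, 35, 33, 34, 1, 31, 39, 38, 0],
  [38, 33, 2, 34, 21, 5, 28, 27, 13, 9, 10, 23, 17, 26, 14, 7, 11, 22, 18, 19, 6, 30, 12, 16, 24, 25, 8, 15, 20, 29, 4, 31, 3, 36, 32, 35, 1, 0, 37, 39]]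

/-- Digit `a` of symplectic point `i`. -/
def pd (i a : ℕ) : ℕ := pTab.getD i 0 / 3 ^ a % 3

/-- Digit `a` of Hermitian point `i`. -/
def nd (i a : ℕ) : ℕ := nTab.getD i 0 / 4 ^ a % 4

/-- Image of `j` under generator `i`. -/
def img (i j : ℕ) : ℕ := (sTab.getD i []).getD j 40

/-- Sum in the field of four elements. -/
def add4 (a b : ℕ) : ℕ := [0, 1, 2, 3, 1, 0, 3, 2, 2, 3, 0, 1, 3, 2, 1, 0].getD (4 * a + b) 0

/-- Product in the field of four elements. -/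
def mul4 (a b : ℕ) : ℕ := [0, 0, 0, 0, 0, 1, 2, 3, 0, 2, 3, 1, 0, 3, 1, 2].getD (4 * a + b) 0

/-- The symplectic form modulo 3. -/
def f3 (u v : ℕ → ℕ) : ℕ := (u 2 * v 0 + u 3 * v 1 + 2 * (u 0 * v 2) + 2 * (u 1 * v 3)) % 3

/-- The Hermitian form. -/
def h4 (u v : ℕ → ℕ) : ℕ :=
  add4 (add4 (mul4 (u 0) (mul4 (v 0) (v 0))) (mul4 (u 1) (mul4 (v 1) (v 1))))
    (add4 (mul4 (u 2) (mul4 (v 2) (v 2))) (mul4 (u 3) (mul4 (v 3) (v 3))))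

/-- Check: transvection `i` maps point `j` to a non-zero multiple of point `img i j`. -/
def okK (i j : ℕ) : Bool :=
  [1, 2].any fun s => (List.range 4).all fun a =>
    (pd j a + f3 (pd j) (pd i) * pd i a) % 3 == s * pd (img i j) a % 3

/-- Check: reflection `i` maps point `j` to a non-zero multiple of point `img i j`. -/
def okF (i j : ℕ) : Bool :=
  [1, 2, 3].any fun s => (List.range 4).all fun a =>
    add4 (nd j a) (mul4 (mul4 (add4 3 1) (h4 (nd j) (nd i))) (nd i a)) == mul4 s (nd (img i j) a)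

/-- Check: all generator images. -/
def okAll : Bool :=
  (List.range 40).all fun i => (List.range 40).all fun j => okK i j && okF i j && decide (img i j < 40)

theorem okAll_eq : okAll = true := by decide +kernel

/-- Check: representatives are pairwise non-proportional, normalised, and cover. -/
def okRep : Bool :=
  ((List.range 40).all fun i => h4 (nd i) (nd i) == 1) &&
  ((List.range 40).all fun i => (List.range 40).all fun j => i == j ||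
    (([1, 2].all fun s => (List.range 4).any fun a => pd i a != s * pd j a % 3) &&
      ([1, 2, 3].all fun s => (List.range 4).any fun a => nd i a != mul4 s (nd j a)))) &&
  ((List.range 81).all fun c => c == 0 || (List.range 40).any fun i => [1, 2].any fun s =>
    (List.range 4).all fun a => c / 3 ^ a % 3 == s * pd i a % 3)

theorem okRep_eq : okRep = true := by decide +kernel

/-- Positions of the coordinate vectors. -/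
def unitAt : List ℕ := [3, 2, 1, 0]

theorem unitAt_eq : ((List.range 4).all fun a => decide (unitAt.getD a 40 < 40) &&
    (List.range 4).all fun b => nd (unitAt.getD a 40) b == if a == b then 1 else 0) = true := by
  decide +kernel

theorem triple_eq : (decide (13 < 40 ∧ 22 < 40) &&
    (List.range 4).all fun b => (nd 13 b == [1, 1, 1, 0].getD b 0) && (nd 22 b == [0, 1, 1, 1].getD b 0)) = true := by
  decide +kernel

end CfsgLib.PSUFour
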