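import Mathlib
import Cfsg.Agent.Lib.ClassicalGroups.PSUFourData
import Cfsg.Agent.Lib.ClassicalGroups.HermGroup
import Cfsg.Agent.Lib.UnitaryEmbed.HermSpace
import Cfsg.Agent.Lib.Sp.Card

/-!
`PSU_4(2) ≅ PSp_4(3)` through the common action on 40 points.
-/

set_option autoImplicit false
set_option linter.unusedSectionVars false

namespace CfsgLib.PSUFour

open Matrix CfsgLib.ClassicalGroups

section K

variable {K : Type*} [Field K]

/-- Vector with digits `u`. -/
def kv (u : ℕ → ℕ) : Fin 2 ⊕ Fin 2 → K := Sum.elim ![(u 0 : K), (u 1 : K)] ![(u 2 : K), (u 3 : K)]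

variable [CharP K 3]

theorem cast_mod (a : ℕ) : ((a % 3 : ℕ) : K) = (a : K) := (CharP.natCast_eq_natCast' K 3 (Nat.mod_modEq a 3))

theorem kv_ext {u v : ℕ → ℕ} (h : ∀ a < 4, u a % 3 = v a % 3) : (kv u : Fin 2 ⊕ Fin 2 → K) = kv v := by
  have h' : ∀ a < 4, ((u a : ℕ) : K) = ((v a : ℕ) : K) := fun a ha => by
    rw [← cast_mod (u a), h a ha, cast_mod]
  funext i
  rcases i with i | i <;> fin_cases i <;>
    simp [kv, h' 0 (by norm_num), h' 1 (by norm_num), h' 2 (by norm_num), h' 3 (by norm_num)]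

theorem kv_add_smul (u v : ℕ → ℕ) (c : ℕ) :
    (kv u : Fin 2 ⊕ Fin 2 → K) + (c : K) • kv v = kv fun a => u a + c * v a := by
  funext i
  rcases i with i | i <;> fin_cases i <;> simp [kv]

theorem sympForm_kv (u v : ℕ → ℕ) : Cfsg.sympForm 2 K (kv u) (kv v) = (f3 u v : K) := by
  have h3 : (3 : K) = 0 := by exact_mod_cast CharP.cast_eq_zero K 3
  rw [CfsgLib.Sp.sympForm_eq_sum, f3, cast_mod, Fin.sum_univ_two]
  simp [kv]
  linear_combination (-(u 0 : K) * (v 2 : K) - (u 1 : K) * (v 3 : K)) * h3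

theorem exists_digit [Fintype K] (hK : Fintype.card K = 3) (x : K) : ∃ n : ℕ, n < 3 ∧ (n : K) = x := by
  classical
  have hinj : Function.Injective (fun n : Fin 3 => ((n : ℕ) : K)) := fun a b h =>
    Fin.ext (CharP.natCast_injOn_Iio K 3 (Set.mem_Iio.2 a.2) (Set.mem_Iio.2 b.2) h)
  obtain ⟨n, hn⟩ := ((Fintype.bijective_iff_injective_and_card _).2 ⟨hinj, by simp [hK]⟩).2 x
  exact ⟨n, n.2, hn⟩

end K

section F

variable {F : Type*} [Field F]

/-- The field element with code `a`. -/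
def em (ω : F) (a : ℕ) : F := [0, 1, ω, ω + 1].getD a 0

variable {ω : F} (h2 : (2 : F) = 0) (hω : ω ^ 2 + ω + 1 = 0)

theorem add4_lt {a b : ℕ} (ha : a < 4) (hb : b < 4) : add4 a b < 4 := by
  interval_cases a <;> interval_cases b <;> decide

theorem mul4_lt {a b : ℕ} (ha : a < 4) (hb : b < 4) : mul4 a b < 4 := by
  interval_cases a <;> interval_cases b <;> decide

include h2 hω in
theorem em_add {a b : ℕ} (ha : a < 4) (hb : b < 4) : em ω (add4 a b) = em ω a + em ω b := by
  interval_cases a <;> interval_cases b <;> simp [em, add4] <;>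
    first
      | ring1
      | linear_combination h2
      | linear_combination -h2
      | linear_combination ω * h2
      | linear_combination -ω * h2
      | linear_combination (ω + 1) * h2
      | linear_combination -(ω + 1) * h2

include h2 hω in
theorem em_mul {a b : ℕ} (ha : a < 4) (hb : b < 4) : em ω (mul4 a b) = em ω a * em ω b := by
  interval_cases a <;> interval_cases b <;> simp [em, mul4] <;>
    first
      | ring1
      | linear_combination -hω + (ω + 1) * h2
      | linear_combination -hω + ω * h2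
      | linear_combination -hω + h2
      | linear_combination -hω

/-- Vector with codes `u`. -/
def fv (ω : F) (u : ℕ → ℕ) : Fin 4 → F := fun a => em ω (u a)

theorem h4_lt {u v : ℕ → ℕ} (hu : ∀ a, u a < 4) (hv : ∀ a, v a < 4) : h4 u v < 4 := by
  exact add4_lt (add4_lt (mul4_lt (hu 0) (mul4_lt (hv 0) (hv 0))) (mul4_lt (hu 1) (mul4_lt (hv 1) (hv 1))))
    (add4_lt (mul4_lt (hu 2) (mul4_lt (hv 2) (hv 2))) (mul4_lt (hu 3) (mul4_lt (hv 3) (hv 3))))

include h2 hω in
theorem hermForm_fv {u v : ℕ → ℕ} (hu : ∀ a, u a < 4) (hv : ∀ a, v a < 4) :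
    Cfsg.hermForm 4 F 2 (fv ω u) (fv ω v) = em ω (h4 u v) := by
  have sq : ∀ a, mul4 (v a) (v a) < 4 := fun a => mul4_lt (hv a) (hv a)
  have tm : ∀ a, mul4 (u a) (mul4 (v a) (v a)) < 4 := fun a => mul4_lt (hu a) (sq a)
  rw [h4, em_add h2 hω (add4_lt (tm 0) (tm 1)) (add4_lt (tm 2) (tm 3)), em_add h2 hω (tm 0) (tm 1),
    em_add h2 hω (tm 2) (tm 3)]
  simp only [em_mul h2 hω (hu _) (sq _), em_mul h2 hω (hv _) (hv _), Cfsg.hermForm, fv, Fin.sum_univ_four]
  simp only [Fin.val_zero, Fin.val_one, Fin.val_two, show ((3 : Fin 4) : ℕ) = 3 from rfl]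
  ring

end F

theorem nd_lt (i a : ℕ) : nd i a < 4 := Nat.mod_lt _ (by norm_num)

theorem pd_lt (i a : ℕ) : pd i a < 3 := Nat.mod_lt _ (by norm_num)

section Main

variable {F K : Type*} [Field F] [Fintype F] [Field K] [Fintype K]

/-- A pair of matrices acting alike on the two sets of 40 points. -/
def Rel (ω : F) (p : symplecticGroup (Fin 2) K × Cfsg.GU 4 F 2) : Prop :=
  ∀ j < 40, ∃ k < 40, (∃ s : K, s ≠ 0 ∧ p.1.1 *ᵥ kv (pd j) = s • kv (pd k)) ∧
    ∃ e : F, e ≠ 0 ∧ p.2.1.val *ᵥ fv ω (nd j) = e • fv ω (nd k)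

theorem rel_mul (ω : F) {p p' : symplecticGroup (Fin 2) K × Cfsg.GU 4 F 2} (hp : Rel ω p) (hp' : Rel ω p') :
    Rel ω (p * p') := by
  intro j hj
  obtain ⟨k, hk, ⟨s, hs, h1⟩, e, he, h1'⟩ := hp' j hj
  obtain ⟨l, hl, ⟨t, ht, h2⟩, f, hf, h2'⟩ := hp k hk
  refine ⟨l, hl, ⟨s * t, mul_ne_zero hs ht, ?_⟩, e * f, mul_ne_zero he hf, ?_⟩
  · rw [Prod.fst_mul, Submonoid.coe_mul, ← mulVec_mulVec, h1, mulVec_smul, h2, smul_smul]
  · rw [Prod.snd_mul, Subgroup.coe_mul, Units.val_mul, ← mulVec_mulVec, h1', mulVec_smul, h2', smul_smul]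

theorem rel_one (ω : F) : Rel ω (1 : symplecticGroup (Fin 2) K × Cfsg.GU 4 F 2) :=
  fun j hj => ⟨j, hj, ⟨1, one_ne_zero, by simp⟩, 1, one_ne_zero, by simp⟩

variable (hF : Fintype.card F = 4) (hK : Fintype.card K = 3)

include hF in
theorem exists_omega : ∃ ω : F, (2 : F) = 0 ∧ ω ^ 2 + ω + 1 = 0 ∧ ω ≠ 0 := by
  classical
  have h2 : (2 : F) = 0 := by
    have h : ((Fintype.card F : ℕ) : F) = 0 := FiniteField.cast_card_eq_zero F
    rw [hF] at h
    have : (2 : F) * 2 = 0 := by norm_num at h ⊢; exact h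
    exact (mul_self_eq_zero.1 this)
  obtain ⟨ω, -, hω⟩ := Finset.exists_mem_notMem_of_card_lt_card (s := ({0, 1} : Finset F)) (t := Finset.univ)
    (by rw [Finset.card_univ, hF]; exact (Finset.card_le_two).trans_lt (by norm_num))
  simp only [Finset.mem_insert, Finset.mem_singleton, not_or] at hω
  refine ⟨ω, h2, ?_, hω.1⟩
  have h3 : ω ^ 3 = 1 := by
    have := FiniteField.pow_card_sub_one_eq_one ω hω.1
    rwa [hF] at this
  have : (ω - 1) * (ω ^ 2 + ω + 1) = 0 := by linear_combination h3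
  exact (mul_eq_zero.1 this).resolve_left (sub_ne_zero.2 hω.2)

include hF in
theorem exists_gu_refl {ω : F} (h2 : (2 : F) = 0) (hω : ω ^ 2 + ω + 1 = 0) (a : Fin 4 → F)
    (ha : Cfsg.hermForm 4 F 2 a a = 1) :
    ∃ g : Cfsg.GU 4 F 2, ∀ x, g.1.val *ᵥ x = x + (ω * Cfsg.hermForm 4 F 2 x a) • a := by
  obtain ⟨τ, hτ, -, hτ2⟩ := CfsgLib.UnitaryEmbed.exists_conj (K := F) (q := 2) (by simpa using hF)
  let L : F → ((Fin 4 → F) →ₗ[F] (Fin 4 → F)) := fun c =>
    LinearMap.id + c • (CfsgLib.UnitaryEmbed.hermSesq 4 τ a).smulRight a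
  have hL : ∀ c x, L c x = x + (c * Cfsg.hermForm 4 F 2 x a) • a := fun c x => by
    simp [L, CfsgLib.UnitaryEmbed.hermSesq_apply τ hτ, mul_smul]
  have haa : CfsgLib.UnitaryEmbed.hermSesq 4 τ a a = 1 := by
    rw [CfsgLib.UnitaryEmbed.hermSesq_apply τ hτ]; exact ha
  have hbij : Function.Injective (L ω) := by
    intro x y h
    have h' := congrArg (CfsgLib.UnitaryEmbed.hermSesq 4 τ a) h
    simp only [hL, ← CfsgLib.UnitaryEmbed.hermSesq_apply τ hτ, map_add, map_smul, haa, smul_eq_mul, mul_one] at h'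
    have e : CfsgLib.UnitaryEmbed.hermSesq 4 τ a x = CfsgLib.UnitaryEmbed.hermSesq 4 τ a y := by
      have h1 : (1 + ω) ≠ 0 := fun h1 => one_ne_zero (α := F) (by linear_combination hω - ω * h1)
      apply mul_left_cancel₀ h1
      linear_combination h'
    rw [hL, hL, ← CfsgLib.UnitaryEmbed.hermSesq_apply τ hτ, ← CfsgLib.UnitaryEmbed.hermSesq_apply τ hτ, e] at h
    exact add_right_cancel h
  refine ⟨CfsgLib.UnitaryEmbed.toGU (LinearEquiv.ofInjectiveEndo (L ω) hbij) (fun u v => ?_), fun x => ?_⟩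
  · simp only [LinearEquiv.coe_ofInjectiveEndo, hL]
    simp only [← CfsgLib.UnitaryEmbed.hermSesq_apply τ hτ, map_add, map_smulₛₗ, LinearMap.add_apply,
      LinearMap.smul_apply, smul_eq_mul, RingHom.id_apply, map_mul, haa,
      CfsgLib.UnitaryEmbed.hermSesq_symm τ hτ2]
    rw [show τ ω = ω + 1 by rw [hτ]; linear_combination hω - (ω + 1) * h2]
    linear_combination (CfsgLib.UnitaryEmbed.hermSesq 4 τ a u * CfsgLib.UnitaryEmbed.hermSesq 4 τ v a) *
      (hω + ω * h2)
  · rw [CfsgLib.UnitaryEmbed.toGU_mulVec, LinearEquiv.coe_ofInjectiveEndo, hL]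

theorem okAll_get {i j : ℕ} (hi : i < 40) (hj : j < 40) :
    okK i j = true ∧ okF i j = true ∧ img i j < 40 := by
  have h := okAll_eq
  simp only [okAll, List.all_eq_true, List.mem_range, Bool.and_eq_true, decide_eq_true_eq] at h
  exact and_assoc.1 (h i hi j hj)

theorem okRep_get : (∀ i < 40, h4 (nd i) (nd i) = 1) ∧
    (∀ i < 40, ∀ j < 40, i ≠ j → (∀ s, (s = 1 ∨ s = 2) → ∃ a < 4, pd i a ≠ s * pd j a % 3) ∧
      (∀ s, (s = 1 ∨ s = 2 ∨ s = 3) → ∃ a < 4, nd i a ≠ mul4 s (nd j a))) ∧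
    ∀ c < 81, c ≠ 0 → ∃ i < 40, ∃ s, (s = 1 ∨ s = 2) ∧ ∀ a < 4, c / 3 ^ a % 3 = s * pd i a % 3 := by
  have h := okRep_eq
  simp only [okRep, Bool.and_eq_true, List.all_eq_true, List.any_eq_true, List.mem_range, Bool.or_eq_true,
    beq_iff_eq, bne_iff_ne, List.mem_cons, List.not_mem_nil, or_false] at h
  exact ⟨h.1.1, fun i hi j hj hij => (h.1.2 i hi j hj).resolve_left hij, fun c hc hc0 =>
    (h.2 c hc).resolve_left hc0⟩

include hF hK in
theorem rel_gen [CharP K 3] {ω : F} (h2 : (2 : F) = 0) (hω : ω ^ 2 + ω + 1 = 0) (hω0 : ω ≠ 0) {i : ℕ}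
    (hi : i < 40) : ∃ g : Cfsg.GU 4 F 2, Rel ω (CfsgLib.Sp.tmat (kv (pd i) : Fin 2 ⊕ Fin 2 → K) 1, g) := by
  obtain ⟨g, hg⟩ := exists_gu_refl hF h2 hω (fv ω (nd i)) (by
    rw [hermForm_fv h2 hω (nd_lt i) (nd_lt i), okRep_get.1 i hi]; rfl)
  refine ⟨g, fun j hj => ?_⟩
  obtain ⟨hk, hf, hlt⟩ := okAll_get hi hj
  simp only [okK, okF, List.any_eq_true, List.all_eq_true, List.mem_range, beq_iff_eq, List.mem_cons,
    List.not_mem_nil, or_false] at hk hf
  obtain ⟨s, hs, hsk⟩ := hk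
  obtain ⟨e, he, hef⟩ := hf
  refine ⟨img i j, hlt, ⟨(s : K), ?_, ?_⟩, em ω e, ?_, ?_⟩
  · intro h0
    rw [CharP.cast_eq_zero_iff K 3] at h0
    omega
  · show (CfsgLib.Sp.tmat (kv (pd i) : Fin 2 ⊕ Fin 2 → K) 1).1 *ᵥ kv (pd j) = _
    rw [CfsgLib.Sp.tmat, CfsgLib.Sp.sympTransvection_mulVec, one_mul, sympForm_kv, kv_add_smul,
      show ((s : K) • kv (pd (img i j)) : Fin 2 ⊕ Fin 2 → K) = kv (fun a => 0 + s * pd (img i j) a) by
        rw [← kv_add_smul]; simp [show kv (K := K) (fun _ => 0) = 0 from by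
          funext x; rcases x with x | x <;> fin_cases x <;> simp [kv]]]
    exact kv_ext fun a ha => by rw [hsk a ha, zero_add]
  · rcases he with rfl | rfl | rfl
    · simp [em]
    · simpa [em] using hω0
    · intro h0
      simp [em] at h0
      exact one_ne_zero (α := F) (by linear_combination hω - ω * h0)
  · show g.1.val *ᵥ fv ω (nd j) = _
    rw [hg, hermForm_fv h2 hω (nd_lt j) (nd_lt i)]
    funext a
    have e3 : e < 4 := by omega
    have h := hef a.1 a.2
    have hm : add4 3 1 = 2 := rfl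
    rw [hm] at h
    simp only [Pi.add_apply, Pi.smul_apply, smul_eq_mul, fv]
    rw [← em_mul h2 hω e3 (nd_lt _ _), ← h, em_add h2 hω (nd_lt _ _) (mul4_lt (mul4_lt (by norm_num)
      (h4_lt (nd_lt j) (nd_lt i))) (nd_lt _ _)), em_mul h2 hω (mul4_lt (by norm_num)
      (h4_lt (nd_lt j) (nd_lt i))) (nd_lt _ _), em_mul h2 hω (by norm_num) (h4_lt (nd_lt j) (nd_lt i))]
    rfl

include hK in
/-- Every non-zero vector is a multiple of one of the 40 representatives. -/
theorem exists_rep [CharP K 3] {v : Fin 2 ⊕ Fin 2 → K} (hv : v ≠ 0) :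
    ∃ i < 40, ∃ s : K, v = s • kv (pd i) := by
  choose d hd hdv using fun x => exists_digit hK (v x)
  set c := d (.inl 0) + 3 * d (.inl 1) + 9 * d (.inr 0) + 27 * d (.inr 1) with hc
  have := hd (.inl 0); have := hd (.inl 1); have := hd (.inr 0); have := hd (.inr 1)
  obtain ⟨i, hi, s, -, hsa⟩ := okRep_get.2.2 c (by omega) (by
    intro h0
    apply hv
    funext x
    rw [← hdv x]
    have : d x = 0 := by rcases x with x | x <;> fin_cases x <;> simp at * <;> omega
    simp [this])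
  refine ⟨i, hi, (s : K), ?_⟩
  have h0 := hsa 0 (by norm_num)
  have h1 := hsa 1 (by norm_num)
  have h2 := hsa 2 (by norm_num)
  have h3 := hsa 3 (by norm_num)
  have e0 : c / 3 ^ 0 % 3 = d (.inl 0) := by rw [pow_zero]; omega
  have e1 : c / 3 ^ 1 % 3 = d (.inl 1) := by rw [pow_one]; omega
  have e2 : c / 3 ^ 2 % 3 = d (.inr 0) := by rw [show 3 ^ 2 = 9 from rfl]; omega
  have e3 : c / 3 ^ 3 % 3 = d (.inr 1) := by rw [show 3 ^ 3 = 27 from rfl]; omega
  have f0 : ((d (.inl 0) : ℕ) : K) = (s : K) * (pd i 0 : K) := by rw [← e0, h0, cast_mod, Nat.cast_mul]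
  have f1 : ((d (.inl 1) : ℕ) : K) = (s : K) * (pd i 1 : K) := by rw [← e1, h1, cast_mod, Nat.cast_mul]
  have f2 : ((d (.inr 0) : ℕ) : K) = (s : K) * (pd i 2 : K) := by rw [← e2, h2, cast_mod, Nat.cast_mul]
  have f3 : ((d (.inr 1) : ℕ) : K) = (s : K) * (pd i 3 : K) := by rw [← e3, h3, cast_mod, Nat.cast_mul]
  funext x
  rw [← hdv x]
  rcases x with x | x <;> fin_cases x
  · simpa [kv] using f0
  · simpa [kv] using f1
  · simpa [kv] using f2
  · simpa [kv] using f3

include hK in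
theorem closure_gen [CharP K 3] :
    Subgroup.closure {A : symplecticGroup (Fin 2) K | ∃ i < 40, A = CfsgLib.Sp.tmat (kv (pd i)) 1} = ⊤ := by
  refine CfsgLib.Sp.le_of_tmat_mem fun v c => ?_
  set H := Subgroup.closure {A : symplecticGroup (Fin 2) K | ∃ i < 40, A = CfsgLib.Sp.tmat (kv (pd i)) 1}
  have hpow : ∀ i < 40, ∀ n : ℕ, CfsgLib.Sp.tmat (kv (pd i) : Fin 2 ⊕ Fin 2 → K) (n : K) ∈ H := by
    intro i hi n
    induction n with
    | zero =>
      have : CfsgLib.Sp.tmat (kv (pd i) : Fin 2 ⊕ Fin 2 → K) (0 : K) = 1 := by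
        have h := CfsgLib.Sp.tmat_mul (kv (pd i) : Fin 2 ⊕ Fin 2 → K) 0 0
        rw [add_zero] at h
        exact mul_eq_left.1 h
      simpa [this] using H.one_mem
    | succ n ih =>
      rw [Nat.cast_succ, ← CfsgLib.Sp.tmat_mul]
      exact mul_mem ih (Subgroup.subset_closure ⟨i, hi, rfl⟩)
  rcases eq_or_ne v 0 with rfl | hv
  · have h : CfsgLib.Sp.tmat (0 : Fin 2 ⊕ Fin 2 → K) c = 1 :=
      CfsgLib.Sp.toEquiv_injective (LinearEquiv.ext fun x => by
        simp [CfsgLib.Sp.tmat, CfsgLib.Sp.sympTransvection_mulVec])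
    rw [h]; exact H.one_mem
  obtain ⟨i, hi, s, rfl⟩ := exists_rep hK hv
  rw [CfsgLib.Sp.tmat_smul]
  obtain ⟨n, -, hn⟩ := exists_digit hK (c * s * s)
  rw [← hn]
  exact hpow i hi n

/-- A linear map having all vectors as eigenvectors is a scalar. -/
theorem scalar_of_eigen {M : Matrix (Fin 2 ⊕ Fin 2) (Fin 2 ⊕ Fin 2) K}
    (h : ∀ v, ∃ s : K, M *ᵥ v = s • v) : ∃ s : K, M = s • 1 := by
  obtain ⟨a, ha⟩ := (Matrix.toLin' M).exists_eq_smul_id_of_forall_notLinearIndependent (fun v => by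
    obtain ⟨s, hs⟩ := h v
    rw [linearIndependent_fin2]
    simp only [Matrix.cons_val_one, Matrix.cons_val_zero, Matrix.toLin'_apply, not_and, not_forall, not_not]
    intro hv
    rcases eq_or_ne v 0 with rfl | hv0
    · simp at hv
    · refine ⟨s⁻¹, ?_⟩
      rcases eq_or_ne s 0 with rfl | hs0
      · simp [hs] at hv
      · rw [hs, smul_smul, inv_mul_cancel₀ hs0, one_smul])
  exact ⟨a, Matrix.toLin'.injective (by rw [ha, map_smul, Matrix.toLin'_one]; rfl)⟩

theorem eq_of_line [CharP K 3] (hK : Fintype.card K = 3) {j k : ℕ} (hj : j < 40) (hk : k < 40) {s : K}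
    (hs : s ≠ 0) (h : (kv (pd j) : Fin 2 ⊕ Fin 2 → K) = s • kv (pd k)) : j = k := by
  by_contra hne
  obtain ⟨n, hn, rfl⟩ := exists_digit hK s
  have hn' : n = 1 ∨ n = 2 := by
    rcases Nat.eq_zero_or_pos n with rfl | hp
    · simp at hs
    · omega
  obtain ⟨a, ha, hne'⟩ := (okRep_get.2.1 j hj k hk hne).1 n hn'
  apply hne'
  have key : ((pd j a : ℕ) : K) = ((n * pd k a % 3 : ℕ) : K) := by
    rw [cast_mod, Nat.cast_mul]
    interval_cases a
    · simpa [kv] using congrFun h (.inl 0)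
    · simpa [kv] using congrFun h (.inl 1)
    · simpa [kv] using congrFun h (.inr 0)
    · simpa [kv] using congrFun h (.inr 1)
  exact CharP.natCast_injOn_Iio K 3 (Set.mem_Iio.2 (pd_lt j a)) (Set.mem_Iio.2 (Nat.mod_lt _ (by norm_num))) key

include hF hK in
theorem eq_of_line' {ω : F} (h2 : (2 : F) = 0) (hω : ω ^ 2 + ω + 1 = 0) (hω0 : ω ≠ 0) {j k : ℕ}
    (hj : j < 40) (hk : k < 40) {e : F} (he : e ≠ 0) (h : fv ω (nd j) = e • fv ω (nd k)) : j = k := by
  classical
  by_contra hne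
  have hinj : Function.Injective (fun n : Fin 4 => em ω n) := by
    have hω1 : ω ≠ 1 := fun h1 => by
      subst h1; exact one_ne_zero (α := F) (by linear_combination hω - h2)
    have hp : ω + 1 ≠ 0 := fun h0 => one_ne_zero (α := F) (by linear_combination hω - ω * h0)
    have hp1 : ω + 1 ≠ 1 := fun h0 => hω0 (by linear_combination h0)
    have hpω : ω + 1 ≠ ω := fun h0 => one_ne_zero (α := F) (by linear_combination h0)
    intro a b hab
    fin_cases a <;> fin_cases b <;> simp [em] at hab ⊢ <;>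
      first
        | exact hω0 hab | exact hω0 hab.symm | exact hω1 hab | exact hω1 hab.symm | exact hp hab
        | exact hp hab.symm | exact hp1 hab | exact hp1 hab.symm | exact hpω hab | exact hpω hab.symm
  obtain ⟨⟨n, hn⟩, hne4⟩ := ((Fintype.bijective_iff_injective_and_card _).2 ⟨hinj, by simp [hF]⟩).2 e
  simp only at hne4
  subst hne4
  have hn' : n = 1 ∨ n = 2 ∨ n = 3 := by
    rcases Nat.eq_zero_or_pos n with rfl | hp
    · exact absurd (by simp [em]) he
    · omega
  obtain ⟨a, ha, hne'⟩ := (okRep_get.2.1 j hj k hk hne).2 n hn'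
  apply hne'
  have := congrFun h ⟨a, ha⟩
  simp only [fv, Pi.smul_apply, smul_eq_mul, ← em_mul h2 hω hn (nd_lt k a)] at this
  exact congrArg Fin.val (@hinj ⟨_, nd_lt j a⟩ ⟨_, mul4_lt hn (nd_lt k a)⟩ this)

include hF hK in
theorem nonempty_iso : Nonempty (Cfsg.PSU 4 F 2 ≃* Cfsg.PSp 2 K) := by
  classical
  obtain ⟨ω, h2, hω, hω0⟩ := exists_omega hF
  have : Fact (Nat.Prime 3) := ⟨Nat.prime_three⟩
  have : CharP K 3 := charP_of_card_eq_prime hK
  choose g hg using fun i : {i // i < 40} => rel_gen hF hK (K := K) h2 hω hω0 i.2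
  set H : Subgroup (symplecticGroup (Fin 2) K × Cfsg.GU 4 F 2) :=
    Subgroup.closure (Set.range fun i : {i // i < 40} => (CfsgLib.Sp.tmat (kv (pd i.1)) 1, g i)) with hH
  have hrel : ∀ p ∈ H, Rel ω p := by
    intro p hp
    induction hp using Subgroup.closure_induction with
    | mem x hx => obtain ⟨i, rfl⟩ := hx; exact hg i
    | one => exact rel_one ω
    | mul x y _ _ hx hy => exact rel_mul ω hx hy
    | inv x _ hx =>
      have e : x⁻¹ = x ^ (orderOf x - 1) := by
        refine inv_eq_of_mul_eq_one_right ?_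
        rw [← pow_succ', Nat.sub_add_cancel (orderOf_pos x), pow_orderOf_eq_one]
      rw [e]
      generalize orderOf x - 1 = n
      induction n with
      | zero => simpa using rel_one ω
      | succ n ih => rw [pow_succ]; exact rel_mul ω ih hx
  let φ : H →* Cfsg.PSp 2 K := (QuotientGroup.mk' _).comp ((MonoidHom.fst _ _).comp H.subtype)
  have hφ : Function.Surjective φ := by
    intro x
    obtain ⟨A, rfl⟩ := QuotientGroup.mk_surjective x
    have hA : A ∈ H.map (MonoidHom.fst _ _) := by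
      rw [hH, MonoidHom.map_closure]
      have : A ∈ (⊤ : Subgroup (symplecticGroup (Fin 2) K)) := trivial
      rw [← closure_gen hK] at this
      refine Subgroup.closure_mono ?_ this
      rintro _ ⟨i, hi, rfl⟩
      exact ⟨_, ⟨⟨i, hi⟩, rfl⟩, rfl⟩
    obtain ⟨p, hp, rfl⟩ := hA
    exact ⟨⟨p, hp⟩, rfl⟩
  -- normalise the determinant
  have hF2 : Fintype.card F = 2 ^ 2 := by rw [hF]; rfl
  have hdet3 : ∀ a : Cfsg.GU 4 F 2, a.1.val.det ^ 3 = 1 := fun a => by
    have := congrArg Units.val (GU_det_pow hF2 a)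
    simpa using this
  have hnmem : ∀ a : Cfsg.GU 4 F 2, ∃ s : Cfsg.SU 4 F 2, s.1.1 = (a.1.val.det ^ 2) • a.1.val := by
    intro a
    refine ⟨⟨⟨(a.1.val.det ^ 2) • a.1.val, ?_⟩, ?_⟩, rfl⟩
    · rw [Matrix.det_smul, Fintype.card_fin]
      calc (a.1.val.det ^ 2) ^ 4 * a.1.val.det = (a.1.val.det ^ 3) ^ 3 := by ring
        _ = 1 := by rw [hdet3, one_pow]
    · intro u v
      show Cfsg.hermForm 4 F 2 (((a.1.val.det ^ 2) • a.1.val) *ᵥ u) (((a.1.val.det ^ 2) • a.1.val) *ᵥ v) = _
      rw [Matrix.smul_mulVec, Matrix.smul_mulVec, ← a.2 u v]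
      simp only [Units.coeHom_apply, Cfsg.hermForm, Pi.smul_apply, smul_eq_mul]
      refine Finset.sum_congr rfl fun x _ => ?_
      linear_combination ((a.1.val *ᵥ u) x * (a.1.val *ᵥ v) x ^ 2) * (congrArg (· ^ 2) (hdet3 a))
  choose nrm hnrm using hnmem
  have nrm_mul : ∀ a b, nrm (a * b) = nrm a * nrm b := by
    intro a b
    apply Subtype.ext; apply Subtype.ext
    simp only [Subgroup.coe_mul, Matrix.SpecialLinearGroup.coe_mul, hnrm, Units.val_mul, Matrix.det_mul,
      Matrix.smul_mul, Matrix.mul_smul, smul_smul]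
    rw [mul_pow, mul_comm]
  let ψ : H →* Cfsg.PSU 4 F 2 :=
    (QuotientGroup.mk' _).comp ((MonoidHom.mk' nrm nrm_mul).comp ((MonoidHom.snd _ _).comp H.subtype))
  have hzero : Subgroup.center (Cfsg.SU 4 F 2) = ⊥ := by
    rw [← Subgroup.card_eq_one, card_center_SU hF2 (by norm_num)]
    rfl
  have hker : ψ.ker = φ.ker := by
    ext ⟨p, hp⟩
    simp only [ψ, φ, MonoidHom.mem_ker, MonoidHom.comp_apply, Subgroup.coe_subtype, MonoidHom.coe_fst,
      MonoidHom.coe_snd, MonoidHom.mk'_apply, QuotientGroup.mk'_apply, QuotientGroup.eq_one_iff, hzero,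
      Subgroup.mem_bot, CfsgLib.Sp.mem_center_iff]
    constructor
    · intro h
      have hsc : (p.2.1.val.det ^ 2) • p.2.1.val = 1 := by rw [← hnrm, h]; rfl
      have hd0 : p.2.1.val.det ≠ 0 := fun h0 => by have := hdet3 p.2; simp [h0] at this
      have hfix : ∀ x, p.2.1.val *ᵥ x = p.2.1.val.det • x := fun x => by
        have h' := congrArg (fun M => p.2.1.val.det • (M *ᵥ x)) hsc
        simp only [Matrix.smul_mulVec, Matrix.one_mulVec, smul_smul, ← pow_succ', hdet3, one_smul] at h'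
        exact h'
      have hlines : ∀ j < 40, ∃ s : K, p.1.1 *ᵥ kv (pd j) = s • kv (pd j) := by
        intro j hj
        obtain ⟨k, hk, ⟨s, hs, h1⟩, e, he, h1'⟩ := hrel p hp j hj
        rw [hfix] at h1'
        have : j = k := eq_of_line' hF hK h2 hω hω0 hj hk (e := p.2.1.val.det⁻¹ * e)
          (mul_ne_zero (inv_ne_zero hd0) he) (by rw [mul_smul, ← h1', smul_smul, inv_mul_cancel₀ hd0, one_smul])
        exact ⟨s, this ▸ h1⟩
      obtain ⟨s, hs⟩ := scalar_of_eigen (M := p.1.1) fun v => by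
        rcases eq_or_ne v 0 with rfl | hv
        · exact ⟨0, by simp⟩
        obtain ⟨i, hi, t, rfl⟩ := exists_rep hK hv
        obtain ⟨s, hs⟩ := hlines i hi
        exact ⟨s, by rw [mulVec_smul, hs, smul_comm]⟩
      obtain ⟨n, hn, rfl⟩ := exists_digit hK s
      interval_cases n
      · exfalso
        have := CfsgLib.Sp.sympForm_mulVec p.1 (kv fun a => if a = 2 then 1 else 0) (kv fun a => if a = 0 then 1 else 0)
        simp [hs, CfsgLib.Sp.sympForm_eq_sum, kv] at this
      · left; simpa using hs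
      · right
        have h3 : ((2 : ℕ) : K) = -1 := by
          rw [eq_neg_iff_add_eq_zero]; exact_mod_cast CharP.cast_eq_zero K 3
        rw [hs, h3, neg_one_smul]
    · intro h
      have hsign : ∃ s : K, s ≠ 0 ∧ ∀ v, p.1.1 *ᵥ v = s • v := by
        rcases h with h | h
        · exact ⟨1, one_ne_zero, fun v => by simp [h]⟩
        · exact ⟨-1, by simp, fun v => by simp [h, Matrix.neg_mulVec]⟩
      obtain ⟨s, hs0, hs⟩ := hsign
      have hlines : ∀ j < 40, ∃ e : F, p.2.1.val *ᵥ fv ω (nd j) = e • fv ω (nd j) := by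
        intro j hj
        obtain ⟨k, hk, ⟨t, ht, h1⟩, e, -, h1'⟩ := hrel p hp j hj
        rw [hs] at h1
        have : j = k := eq_of_line hK hj hk (s := s⁻¹ * t) (mul_ne_zero (inv_ne_zero hs0) ht)
          (by rw [mul_smul, ← h1, smul_smul, inv_mul_cancel₀ hs0, one_smul])
        exact ⟨e, this ▸ h1'⟩
      have hu := unitAt_eq
      simp only [List.all_eq_true, List.mem_range, Bool.and_eq_true, decide_eq_true_eq, beq_iff_eq] at hu
      have htr := triple_eq
      simp only [List.all_eq_true, List.mem_range, Bool.and_eq_true, decide_eq_true_eq, beq_iff_eq] at htr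
      have hsingle : ∀ a : Fin 4, fv ω (nd (unitAt.getD a.1 40)) = Pi.single a 1 := by
        intro a
        funext b
        simp only [fv, (hu a.1 a.2).2 b.1 b.2, Pi.single_apply, Fin.ext_iff, eq_comm (a := b.1)]
        split_ifs <;> simp [em]
      choose c hc using fun a : Fin 4 => hlines _ (hu a.1 a.2).1
      simp only [hsingle] at hc
      have hdiag : ∀ x, p.2.1.val *ᵥ x = fun b => c b * x b := by
        intro x
        have hM : p.2.1.val = Matrix.diagonal c := Matrix.ext_of_mulVec_single fun a => by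
          rw [hc, Matrix.diagonal_mulVec_single, mul_one, ← Pi.single_smul, smul_eq_mul, mul_one]
        funext b
        rw [hM, Matrix.mulVec_diagonal]
      obtain ⟨e, he⟩ := hlines 13 htr.1.1
      obtain ⟨e', he'⟩ := hlines 22 htr.1.2
      rw [hdiag] at he he'
      have v1 : ∀ b : Fin 4, fv ω (nd 13) b = em ω ([1, 1, 1, 0].getD b.1 0) := fun b => by
        rw [fv, (htr.2 b.1 b.2).1]
      have v2 : ∀ b : Fin 4, fv ω (nd 22) b = em ω ([0, 1, 1, 1].getD b.1 0) := fun b => by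
        rw [fv, (htr.2 b.1 b.2).2]
      have a0 : c 0 = e := by simpa [v1, em] using congrFun he 0
      have a1 : c 1 = e := by simpa [v1, em] using congrFun he 1
      have a2 : c 2 = e := by simpa [v1, em] using congrFun he 2
      have b1 : c 1 = e' := by simpa [v2, em] using congrFun he' 1
      have b3 : c 3 = e' := by simpa [v2, em] using congrFun he' 3
      have hcall : ∀ b, c b = e := fun b => by fin_cases b <;> simp [a0, a1, a2, b3, ← b1]
      have hM : p.2.1.val = e • 1 := Matrix.toLin'.injective (LinearMap.ext fun x => by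
        simp [Matrix.toLin'_apply, hdiag, funext_iff, hcall])
      apply Subtype.ext; apply Subtype.ext
      rw [hnrm, hM, Matrix.det_smul, Matrix.det_one, Fintype.card_fin, mul_one, smul_smul]
      have he3 : e ^ 3 = 1 := by
        have he0 : e ≠ 0 := fun h0 => by
          have := hdet3 p.2
          simp [hM, h0] at this
        have := FiniteField.pow_card_sub_one_eq_one e he0
        rwa [hF] at this
      rw [show (e ^ 4) ^ 2 * e = (e ^ 3) ^ 3 by ring, he3, one_pow, one_smul]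
      rfl
  have hcard : Nat.card (Cfsg.PSp 2 K) = Nat.card (Cfsg.PSU 4 F 2) := by
    have h1 : Nat.card (symplecticGroup (Fin 2) K) = 51840 := by
      rw [CfsgLib.Sp.card_symplecticGroup hK]; simp [Finset.prod_range_succ]
    have h2 := Subgroup.card_eq_card_quotient_mul_card_subgroup (Subgroup.center (symplecticGroup (Fin 2) K))
    rw [CfsgLib.Sp.card_center hK (by norm_num), h1] at h2
    have h3 : Nat.card (Cfsg.GU 4 F 2) = 77760 := by
      rw [card_GU hF2]; simp [Finset.prod_range_succ, Nat.even_iff]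
    have h4 := card_SU_mul hF2 (n := 4) (by norm_num)
    rw [h3] at h4
    have h5 := card_SU_eq_center_mul_PSU (F := F) (q := 2) 4
    rw [hzero, Subgroup.card_bot, one_mul] at h5
    rw [show Nat.gcd 2 (3 - 1) = 2 from rfl] at h2
    show Nat.card (symplecticGroup (Fin 2) K ⧸ _) = Nat.card (Cfsg.PSU 4 F 2)
    rw [← h5]
    omega
  have hψ : Function.Surjective ψ := by
    rw [← MonoidHom.range_eq_top]
    apply Subgroup.eq_top_of_card_eq
    rw [← Nat.card_congr (QuotientGroup.quotientKerEquivRange ψ).toEquiv, hker,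
      Nat.card_congr (QuotientGroup.quotientKerEquivOfSurjective φ hφ).toEquiv, hcard]
  exact ⟨((QuotientGroup.quotientKerEquivOfSurjective ψ hψ).symm.trans
    (QuotientGroup.quotientMulEquivOfEq hker)).trans (QuotientGroup.quotientKerEquivOfSurjective φ hφ)⟩

end Main

end CfsgLib.PSUFour
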