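import Mathlib
import Cfsg.Agent.Lib.ClassicalGroups.PSUFourTwo

/-!
`PSU_3(2)` is an elementary abelian group of order nine extended by a quaternion group.
-/

set_option autoImplicit false
set_option linter.unusedSectionVars false

namespace CfsgLib.PSUThree

open Matrix CfsgLib.PSUFour CfsgLib.ClassicalGroups

/-- Entry of a coded matrix. -/
def ent (c i j : ℕ) : ℕ := c / 4 ^ (3 * i + j) % 4

/-- Product entry. -/
def pent (a b i j : ℕ) : ℕ :=
  add4 (add4 (mul4 (ent a i 0) (ent b 0 j)) (mul4 (ent a i 1) (ent b 1 j))) (mul4 (ent a i 2) (ent b 2 j))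

/-- `a * b = s • c`. -/
def mulEq (a b s c : ℕ) : Bool :=
  (List.range 3).all fun i => (List.range 3).all fun j => pent a b i j == mul4 s (ent c i j)

/-- Gram condition and determinant one. -/
def suOk (c : ℕ) : Bool :=
  ((List.range 3).all fun i => (List.range 3).all fun j =>
    add4 (add4 (mul4 (ent c 0 i) (mul4 (ent c 0 j) (ent c 0 j))) (mul4 (ent c 1 i) (mul4 (ent c 1 j) (ent c 1 j))))
      (mul4 (ent c 2 i) (mul4 (ent c 2 j) (ent c 2 j))) == if i == j then 1 else 0) &&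
  add4
    (add4 (add4 (mul4 (mul4 (ent c 0 0) (ent c 1 1)) (ent c 2 2)) (mul4 (mul4 (ent c 0 0) (ent c 1 2)) (ent c 2 1)))
      (add4 (mul4 (mul4 (ent c 0 1) (ent c 1 0)) (ent c 2 2)) (mul4 (mul4 (ent c 0 1) (ent c 1 2)) (ent c 2 0))))
    (add4 (mul4 (mul4 (ent c 0 2) (ent c 1 0)) (ent c 2 1)) (mul4 (mul4 (ent c 0 2) (ent c 1 1)) (ent c 2 0))) == 1

/-- Codes of the quaternion subgroup. -/
def qCode : QuaternionGroup 2 → ℕ
  | .a n => [65793, 187989, 17409, 236373].getD n.val 0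
  | .xa n => [192189, 244713, 240573, 196329].getD n.val 0

/-- Codes of the elementary abelian subgroup. -/
def hCode (x : ZMod 3 × ZMod 3) : ℕ :=
  [65793, 16464, 5124, 197121, 49296, 14340, 131841, 32976, 11268].getD (3 * x.1.val + x.2.val) 0

theorem qOk : ∀ q, suOk (qCode q) = true := by decide +kernel

theorem hOk : ∀ x, suOk (hCode x) = true := by decide +kernel

theorem qMul : ∀ q r, mulEq (qCode q) (qCode r) 1 (qCode (q * r)) = true := by decide +kernel

theorem hMul : ∀ x y, ∃ s : Fin 4, s ≠ 0 ∧ mulEq (hCode x) (hCode y) s (hCode (x + y)) = true := by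
  decide +kernel

/-- `q x q⁻¹` is again in the abelian subgroup. -/
theorem hNorm : ∀ q x, ∃ y : ZMod 3 × ZMod 3, ∃ s : Fin 4, s ≠ 0 ∧ ((List.range 3).all fun i =>
    (List.range 3).all fun j => pent (qCode q) (hCode x) i j == mul4 s (pent (hCode y) (qCode q) i j)) = true := by
  decide +kernel

theorem disjointOk : ∀ (x : ZMod 3 × ZMod 3) (q : QuaternionGroup 2), ∀ s : Fin 4,
    s ≠ 0 → ((List.range 3).all fun i => (List.range 3).all fun j =>
      ent (hCode x) i j == mul4 s (ent (qCode q) i j)) = true → x = 0 ∧ q = 1 := by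
  decide +kernel

theorem qOne : qCode 1 = 65793 ∧ hCode 0 = 65793 := by decide

section Main

variable {F : Type*} [Field F] [Fintype F]

theorem ent_lt (c i j : ℕ) : ent c i j < 4 := Nat.mod_lt _ (by norm_num)

theorem pent_lt (a b i j : ℕ) : pent a b i j < 4 :=
  add4_lt (add4_lt (mul4_lt (ent_lt _ _ _) (ent_lt _ _ _)) (mul4_lt (ent_lt _ _ _) (ent_lt _ _ _)))
    (mul4_lt (ent_lt _ _ _) (ent_lt _ _ _))

/-- The matrix of a code. -/
def mat (ω : F) (c : ℕ) : Matrix (Fin 3) (Fin 3) F := fun i j => em ω (ent c i j)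

variable {ω : F} (h2 : (2 : F) = 0) (hω : ω ^ 2 + ω + 1 = 0)

include h2 hω in
theorem mat_mul (a b : ℕ) : mat ω a * mat ω b = fun i j : Fin 3 => em ω (pent a b i j) := by
  ext i j
  have e : ∀ k, em ω (mul4 (ent a i k) (ent b k j)) = em ω (ent a i k) * em ω (ent b k j) := fun k =>
    em_mul h2 hω (ent_lt _ _ _) (ent_lt _ _ _)
  have hl : ∀ k, mul4 (ent a i k) (ent b k j) < 4 := fun k => mul4_lt (ent_lt _ _ _) (ent_lt _ _ _)
  rw [pent, em_add h2 hω (add4_lt (hl 0) (hl 1)) (hl 2), em_add h2 hω (hl 0) (hl 1), e, e, e,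
    Matrix.mul_apply, Fin.sum_univ_three]
  rfl

include h2 hω in
theorem mat_mul_eq {a b : ℕ} {s : Fin 4} {c : ℕ} (h : mulEq a b s c = true) :
    mat ω a * mat ω b = em ω s • mat ω c := by
  rw [mat_mul h2 hω]
  ext i j
  simp only [mulEq, List.all_eq_true, List.mem_range, beq_iff_eq] at h
  rw [h i i.2 j j.2, em_mul h2 hω s.2 (ent_lt _ _ _)]
  rfl

include h2 hω in
theorem exists_su (hF : Fintype.card F = 4) {c : ℕ} (hc : suOk c = true) :
    ∃ g : Cfsg.SU 3 F 2, g.1.1 = mat ω c := by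
  obtain ⟨τ, hτ, -, -⟩ := CfsgLib.UnitaryEmbed.exists_conj (K := F) (q := 2) (by simpa using hF)
  simp only [suOk, Bool.and_eq_true, List.all_eq_true, List.mem_range, beq_iff_eq] at hc
  obtain ⟨hgram, hdet⟩ := hc
  have hs : ∀ k i, em ω (mul4 (ent c k i) (ent c k i)) = em ω (ent c k i) ^ 2 := fun k i => by
    rw [em_mul h2 hω (ent_lt _ _ _) (ent_lt _ _ _), sq]
  have hG : ∀ i j : Fin 3, mat ω c 0 i * mat ω c 0 j ^ 2 + mat ω c 1 i * mat ω c 1 j ^ 2 +
      mat ω c 2 i * mat ω c 2 j ^ 2 = if i = j then 1 else 0 := by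
    intro i j
    have h := congrArg (em ω) (hgram i i.2 j j.2)
    have hl : ∀ k, mul4 (ent c k i) (mul4 (ent c k j) (ent c k j)) < 4 :=
      fun k => mul4_lt (ent_lt _ _ _) (mul4_lt (ent_lt _ _ _) (ent_lt _ _ _))
    rw [em_add h2 hω (add4_lt (hl 0) (hl 1)) (hl 2), em_add h2 hω (hl 0) (hl 1)] at h
    simp only [em_mul h2 hω (ent_lt _ _ _) (mul4_lt (ent_lt _ _ _) (ent_lt _ _ _)), hs] at h
    refine h.trans ?_
    by_cases hij : i = j <;> simp [hij, PSUFour.em, Fin.val_inj]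
  have hneg : ∀ x : F, -x = x := fun x => by linear_combination (-x) * h2
  have hd : (mat ω c).det = 1 := by
    have h := congrArg (em ω) hdet
    have hl : ∀ a b d e f g : ℕ, mul4 (mul4 (ent c a b) (ent c d e)) (ent c f g) < 4 :=
      fun _ _ _ _ _ _ => mul4_lt (mul4_lt (ent_lt _ _ _) (ent_lt _ _ _)) (ent_lt _ _ _)
    have hm : ∀ a b d e f g : ℕ, em ω (mul4 (mul4 (ent c a b) (ent c d e)) (ent c f g)) =
        em ω (ent c a b) * em ω (ent c d e) * em ω (ent c f g) := fun _ _ _ _ _ _ => by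
      rw [em_mul h2 hω (mul4_lt (ent_lt _ _ _) (ent_lt _ _ _)) (ent_lt _ _ _),
        em_mul h2 hω (ent_lt _ _ _) (ent_lt _ _ _)]
    rw [em_add h2 hω (add4_lt (add4_lt (hl _ _ _ _ _ _) (hl _ _ _ _ _ _))
        (add4_lt (hl _ _ _ _ _ _) (hl _ _ _ _ _ _))) (add4_lt (hl _ _ _ _ _ _) (hl _ _ _ _ _ _)),
      em_add h2 hω (add4_lt (hl _ _ _ _ _ _) (hl _ _ _ _ _ _)) (add4_lt (hl _ _ _ _ _ _) (hl _ _ _ _ _ _)),
      em_add h2 hω (hl _ _ _ _ _ _) (hl _ _ _ _ _ _), em_add h2 hω (hl _ _ _ _ _ _) (hl _ _ _ _ _ _),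
      em_add h2 hω (hl _ _ _ _ _ _) (hl _ _ _ _ _ _)] at h
    simp only [hm] at h
    rw [Matrix.det_fin_three]
    simp only [sub_eq_add_neg, hneg, mat, Fin.val_zero, Fin.val_one, Fin.val_two]
    have h1 : em ω 1 = 1 := rfl
    rw [h1] at h
    linear_combination h
  refine ⟨⟨⟨mat ω c, hd⟩, fun u v => ?_⟩, rfl⟩
  show Cfsg.hermForm 3 F 2 (mat ω c *ᵥ u) (mat ω c *ᵥ v) = _
  simp only [Cfsg.hermForm, ← hτ, Fin.sum_univ_three, Matrix.mulVec, dotProduct, map_add, map_mul]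
  have g00 := hG 0 0; have g01 := hG 0 1; have g02 := hG 0 2
  have g10 := hG 1 0; have g11 := hG 1 1; have g12 := hG 1 2
  have g20 := hG 2 0; have g21 := hG 2 1; have g22 := hG 2 2
  simp only [← hτ, if_true] at g00 g11 g22
  simp only [← hτ, Fin.reduceEq, if_false] at g01 g02 g10 g12 g20 g21
  linear_combination (u 0 * τ (v 0)) * g00 + (u 0 * τ (v 1)) * g01 + (u 0 * τ (v 2)) * g02 +
    (u 1 * τ (v 0)) * g10 + (u 1 * τ (v 1)) * g11 + (u 1 * τ (v 2)) * g12 +
    (u 2 * τ (v 0)) * g20 + (u 2 * τ (v 1)) * g21 + (u 2 * τ (v 2)) * g22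

theorem mk_eq_of_smul (x y : Cfsg.SU 3 F 2) (s : F) (h : x.1.1 = s • y.1.1) :
    (QuotientGroup.mk x : Cfsg.PSU 3 F 2) = QuotientGroup.mk y := by
  rw [eq_comm, QuotientGroup.eq, Subgroup.mem_center_iff]
  intro z
  have hone : y⁻¹.1.1 * y.1.1 = 1 := congrArg (fun g : Cfsg.SU 3 F 2 => g.1.1) (inv_mul_cancel y)
  apply Subtype.ext; apply Subtype.ext
  simp only [Subgroup.coe_mul, Matrix.SpecialLinearGroup.coe_mul, h, Matrix.mul_smul, hone, Matrix.smul_mul,
    Matrix.mul_one, Matrix.one_mul]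

theorem smul_of_mk_eq (hF : Fintype.card F = 4) (x y : Cfsg.SU 3 F 2)
    (h : (QuotientGroup.mk x : Cfsg.PSU 3 F 2) = QuotientGroup.mk y) : ∃ s : F, x.1.1 = s • y.1.1 := by
  rw [eq_comm, QuotientGroup.eq] at h
  have hz := center_SU_scalar (F := F) (q := 2) (by simpa using hF) (n := 3) ⟨_, h⟩
  refine ⟨(y⁻¹ * x).1.1 0 0, ?_⟩
  have hs : (y⁻¹ * x).1.1 = (y⁻¹ * x).1.1 0 0 • (1 : Matrix (Fin 3) (Fin 3) F) := by
    ext i j
    rcases eq_or_ne i j with rfl | hij
    · rw [Matrix.smul_apply, Matrix.one_apply_eq, smul_eq_mul, mul_one]; exact (hz i 0).2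
    · rw [Matrix.smul_apply, Matrix.one_apply_ne hij, smul_zero]; exact (hz i j).1 hij
  calc x.1.1 = (y * (y⁻¹ * x)).1.1 := by rw [mul_inv_cancel_left]
    _ = y.1.1 * (y⁻¹ * x).1.1 := rfl
    _ = _ := by rw [hs, Matrix.mul_smul, Matrix.mul_one, ← hs]

theorem exists_normal_nine (hF : Fintype.card F = 4) :
    ∃ (N : Subgroup (Cfsg.PSU 3 F 2)) (_ : N.Normal), Nat.card N = 9 ∧ (∀ x ∈ N, x ^ 3 = 1) ∧
      Nonempty (Cfsg.PSU 3 F 2 ⧸ N ≃* QuaternionGroup 2) := by
  classical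
  obtain ⟨ω, h2, hω, hω0⟩ := exists_omega hF
  choose sq hsq using fun q => exists_su h2 hω hF (qOk q)
  choose sh hsh using fun x => exists_su h2 hω hF (hOk x)
  let φ : QuaternionGroup 2 →* Cfsg.PSU 3 F 2 := MonoidHom.mk' (fun q => QuotientGroup.mk (sq q)) fun q r => by
    rw [← QuotientGroup.mk_mul, eq_comm]
    refine mk_eq_of_smul _ _ 1 ?_
    show (sq q).1.1 * (sq r).1.1 = _
    rw [hsq, hsq, hsq, mat_mul_eq h2 hω (s := 1) (qMul q r)]
    rfl
  let η : Multiplicative (ZMod 3 × ZMod 3) →* Cfsg.PSU 3 F 2 :=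
    MonoidHom.mk' (fun x => QuotientGroup.mk (sh (Multiplicative.toAdd x))) fun x y => by
      rw [← QuotientGroup.mk_mul, eq_comm]
      obtain ⟨s, -, hs⟩ := hMul (Multiplicative.toAdd x) (Multiplicative.toAdd y)
      refine mk_eq_of_smul _ _ (em ω s) ?_
      show (sh _).1.1 * (sh _).1.1 = _
      rw [hsh, hsh, hsh, mat_mul_eq h2 hω hs]
      rfl
  have hem : ∀ s : F, s ≠ 0 → ∃ n : Fin 4, n ≠ 0 ∧ em ω n = s := by
    have hω1 : ω ≠ 1 := fun h1 => by subst h1; exact one_ne_zero (α := F) (by linear_combination hω - h2)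
    intro s hs
    have h3 : s ^ 3 = 1 := by
      have := FiniteField.pow_card_sub_one_eq_one s hs
      rwa [hF] at this
    have h4 : (s - 1) * ((s - ω) * (s - (ω + 1))) = 0 := by
      linear_combination h3 + (s - 1) * hω - ((ω + 1) * (s ^ 2 - s) + (s - 1)) * h2
    rcases mul_eq_zero.1 h4 with h | h
    · exact ⟨1, by decide, (sub_eq_zero.1 h).symm⟩
    rcases mul_eq_zero.1 h with h | h
    · exact ⟨2, by decide, (sub_eq_zero.1 h).symm⟩
    · exact ⟨3, by decide, (sub_eq_zero.1 h).symm⟩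
  have hinjem : ∀ a < 4, ∀ b < 4, em ω a = em ω b → a = b := by
    intro a ha b hb hab
    have hω1 : ω ≠ 1 := fun h1 => by subst h1; exact one_ne_zero (α := F) (by linear_combination hω - h2)
    have hp : ω + 1 ≠ 0 := fun h0 => one_ne_zero (α := F) (by linear_combination hω - ω * h0)
    have hp1 : ω + 1 ≠ 1 := fun h0 => hω0 (by linear_combination h0)
    have hpω : ω + 1 ≠ ω := fun h0 => one_ne_zero (α := F) (by linear_combination h0)
    interval_cases a <;> interval_cases b <;> simp [PSUFour.em] at hab ⊢ <;>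
      first
        | exact hω0 hab | exact hω0 hab.symm | exact hω1 hab | exact hω1 hab.symm | exact hp hab
        | exact hp hab.symm | exact hp1 hab | exact hp1 hab.symm | exact hpω hab | exact hpω hab.symm
  have hdisj : ∀ x q, η x = φ q → x = 1 ∧ q = 1 := by
    intro x q h
    obtain ⟨s, hs⟩ := smul_of_mk_eq hF _ _ h
    rw [hsh, hsq] at hs
    have hs0 : s ≠ 0 := by
      rintro rfl
      have := congrArg Matrix.det hs
      rw [← hsh, (sh _).1.2, zero_smul, Matrix.det_zero] at this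
      exact one_ne_zero this
    obtain ⟨n, hn, rfl⟩ := hem s hs0
    have h' := disjointOk (Multiplicative.toAdd x) q n hn (by
      simp only [List.all_eq_true, List.mem_range, beq_iff_eq]
      intro i hi j hj
      refine hinjem _ (ent_lt _ _ _) _ (mul4_lt n.2 (ent_lt _ _ _)) ?_
      rw [em_mul h2 hω n.2 (ent_lt _ _ _)]
      exact congrFun (congrFun hs ⟨i, hi⟩) ⟨j, hj⟩)
    exact ⟨Multiplicative.toAdd.injective h'.1, h'.2⟩
  have hnorm : ∀ q x, ∃ y, φ q * η x = η y * φ q := by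
    intro q x
    obtain ⟨y, s, -, hy⟩ := hNorm q (Multiplicative.toAdd x)
    refine ⟨Multiplicative.ofAdd y, ?_⟩
    show QuotientGroup.mk (sq q * sh _) = QuotientGroup.mk (sh y * sq q)
    refine mk_eq_of_smul _ _ (em ω s) ?_
    show (sq q).1.1 * (sh _).1.1 = em ω s • ((sh y).1.1 * (sq q).1.1)
    rw [hsq, hsh, hsh, mat_mul h2 hω, mat_mul h2 hω]
    simp only [List.all_eq_true, List.mem_range, beq_iff_eq] at hy
    ext i j
    show em ω (pent _ _ i j) = em ω s * em ω (pent _ _ i j)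
    rw [hy i i.2 j j.2, em_mul h2 hω s.2 (pent_lt _ _ _ _)]
  have hinj : Function.Injective fun p : Multiplicative (ZMod 3 × ZMod 3) × QuaternionGroup 2 => η p.1 * φ p.2 := by
    rintro ⟨x, q⟩ ⟨y, r⟩ h
    have h' : η (y⁻¹ * x) = φ (r * q⁻¹) := by
      simp only [map_mul, map_inv]
      simp only at h
      rw [eq_mul_inv_iff_mul_eq, mul_assoc, h, inv_mul_cancel_left]
    obtain ⟨h1, h3⟩ := hdisj _ _ h'
    exact Prod.ext (inv_mul_eq_one.1 h1).symm (mul_inv_eq_one.1 h3).symm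
  have hcard : Nat.card (Cfsg.PSU 3 F 2) = 72 := by
    have hF2 : Fintype.card F = 2 ^ 2 := by rw [hF]; rfl
    have h3 : Nat.card (Cfsg.GU 3 F 2) = 648 := by
      rw [card_GU hF2]; simp [Finset.prod_range_succ, Nat.even_iff]
    have h4 := card_SU_mul hF2 (n := 3) (by norm_num)
    have h5 := card_SU_eq_center_mul_PSU (F := F) (q := 2) 3
    rw [h3] at h4
    rw [card_center_SU hF2 (by norm_num), show Nat.gcd 3 (2 + 1) = 3 from rfl] at h5
    omega
  have hsurj : Function.Surjective fun p : Multiplicative (ZMod 3 × ZMod 3) × QuaternionGroup 2 => η p.1 * φ p.2 := by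
    refine ((Nat.bijective_iff_injective_and_card _).2 ⟨hinj, ?_⟩).2
    rw [hcard, Nat.card_prod, Nat.card_eq_fintype_card, Nat.card_eq_fintype_card, QuaternionGroup.card]
    rfl
  set N := η.range with hN
  have hNn : N.Normal := by
    refine ⟨?_⟩
    rintro _ ⟨x, rfl⟩ g
    obtain ⟨⟨w, q⟩, rfl⟩ := hsurj g
    obtain ⟨y, hy⟩ := hnorm q x
    refine ⟨w * y * w⁻¹, ?_⟩
    simp only [map_mul, map_inv, _root_.mul_inv_rev]
    calc η w * η y * (η w)⁻¹ = η w * (η y * φ q) * ((φ q)⁻¹ * (η w)⁻¹) := by group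
      _ = η w * (φ q * η x) * ((φ q)⁻¹ * (η w)⁻¹) := by rw [hy]
      _ = _ := by group
  refine ⟨N, hNn, ?_, ?_, ⟨(MulEquiv.ofBijective ((QuotientGroup.mk' N).comp φ) ⟨?_, ?_⟩).symm⟩⟩
  · rw [hN, ← Nat.card_congr (MonoidHom.ofInjective (f := η) fun x y h => ?_).toEquiv]
    · simp
    · exact congrArg Prod.fst (@hinj (x, 1) (y, 1) (by simp [h]))
  · rintro _ ⟨x, rfl⟩
    rw [← map_pow, show x ^ 3 = 1 from ?_, map_one]
    revert x; decide
  · rw [injective_iff_map_eq_one]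
    intro q hq
    obtain ⟨x, hx⟩ := (QuotientGroup.eq_one_iff _).1 (show (QuotientGroup.mk (φ q) : _ ⧸ N) = 1 from hq)
    exact (hdisj x q hx).2
  · intro g
    obtain ⟨g, rfl⟩ := QuotientGroup.mk_surjective g
    obtain ⟨⟨w, q⟩, rfl⟩ := hsurj g
    refine ⟨q, ?_⟩
    show (QuotientGroup.mk (φ q) : _ ⧸ N) = QuotientGroup.mk (η w * φ q)
    rw [QuotientGroup.eq]
    have : (φ q)⁻¹ * (η w * φ q) = (φ q)⁻¹ * η w * ((φ q)⁻¹)⁻¹ := by group
    rw [this]
    exact hNn.conj_mem _ ⟨w, rfl⟩ _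

end Main

end CfsgLib.PSUThree
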