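import Mathlib
import Cfsg.Agent.Lib.ClassicalGroups.Count

/-!
Adding a hyperbolic plane to a quadratic form: transitivity on singular vectors, group order and
number of zeros, in any characteristic.
-/

set_option autoImplicit false

namespace CfsgLib.ClassicalGroups

variable {F V : Type*} [Field F] [AddCommGroup V] [Module F V]

/-- `Q` is a quadratic form with polar bilinear form `B`, which is nondegenerate. -/
structure IsQuadPair (Q : V → F) (B : V →ₗ[F] V →ₗ[F] F) : Prop where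
  smul : ∀ (c : F) v, Q (c • v) = c * c * Q v
  add : ∀ u v, Q (u + v) = Q u + Q v + B u v
  nondeg : ∀ u, (∀ v, B u v = 0) → u = 0

namespace IsQuadPair

variable {Q : V → F} {B : V →ₗ[F] V →ₗ[F] F} (hQ : IsQuadPair Q B)

include hQ

theorem symm (u v : V) : B u v = B v u := by
  have h := hQ.add u v
  rw [add_comm u v, hQ.add v u] at h
  linear_combination -h

theorem zero : Q 0 = 0 := by simpa using hQ.smul 0 0

theorem neg (v : V) : Q (-v) = Q v := by simpa using hQ.smul (-1) v

theorem polar_self (v : V) : B v v = 2 * Q v := by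
  have h := hQ.add v v
  have h2 := hQ.smul 2 v
  rw [two_smul] at h2
  linear_combination h2 - h

theorem map_polar {g : V ≃ₗ[F] V} (hg : g ∈ isoGroup Q) (u v : V) : B (g u) (g v) = B u v := by
  have h1 := hQ.add (g u) (g v)
  rw [← map_add, hg, hg, hg, hQ.add] at h1
  linear_combination -h1

end IsQuadPair

/-- `Q ⊥` hyperbolic plane, on `F × F × V`. -/
def hypQ (Q : V → F) (p : F × F × V) : F := p.1 * p.2.1 + Q p.2.2

/-- The polar form of `hypQ`. -/
def hypB (B : V →ₗ[F] V →ₗ[F] F) : F × F × V →ₗ[F] F × F × V →ₗ[F] F :=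
  LinearMap.mk₂ F (fun p r => p.1 * r.2.1 + p.2.1 * r.1 + B p.2.2 r.2.2)
    (fun a b c => by simp only [Prod.fst_add, Prod.snd_add, map_add, LinearMap.add_apply]; ring)
    (fun a b c => by simp only [Prod.smul_fst, Prod.smul_snd, map_smul, LinearMap.smul_apply, smul_eq_mul]; ring)
    (fun a b c => by simp only [Prod.fst_add, Prod.snd_add, map_add]; ring)
    (fun a b c => by simp only [Prod.smul_fst, Prod.smul_snd, map_smul, smul_eq_mul]; ring)

@[simp] theorem hypB_apply (B : V →ₗ[F] V →ₗ[F] F) (p r : F × F × V) :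
    hypB B p r = p.1 * r.2.1 + p.2.1 * r.1 + B p.2.2 r.2.2 := rfl

theorem IsQuadPair.hyp {Q : V → F} {B : V →ₗ[F] V →ₗ[F] F} (hQ : IsQuadPair Q B) :
    IsQuadPair (hypQ Q) (hypB B) where
  smul c v := by
    simp only [hypQ, Prod.smul_fst, Prod.smul_snd, smul_eq_mul, hQ.smul]
    ring
  add u v := by
    simp only [hypQ, Prod.fst_add, Prod.snd_add, hypB_apply, hQ.add]
    ring
  nondeg u h := by
    obtain ⟨a, b, x⟩ := u
    have h1 := h (1, 0, 0)
    have h2 := h (0, 1, 0)
    simp at h1 h2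
    have h3 : x = 0 := hQ.nondeg x fun v => by simpa [h1, h2] using h (0, 0, v)
    simp [h1, h2, h3]

/-- Scaling of the hyperbolic pair. -/
def hypScale (t : Fˣ) : (F × F × V) ≃ₗ[F] (F × F × V) :=
  (LinearEquiv.smulOfUnit t).prodCongr ((LinearEquiv.smulOfUnit t⁻¹).prodCongr (LinearEquiv.refl F V))

/-- Swapping the hyperbolic pair. -/
def hypSwap : (F × F × V) ≃ₗ[F] (F × F × V) where
  toFun p := (p.2.1, p.1, p.2.2)
  invFun p := (p.2.1, p.1, p.2.2)
  map_add' _ _ := rfl
  map_smul' _ _ := rfl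
  left_inv _ := rfl
  right_inv _ := rfl

@[simp] theorem hypSwap_apply (p : F × F × V) : hypSwap p = (p.2.1, p.1, p.2.2) := rfl

@[simp] theorem hypScale_apply (t : Fˣ) (p : F × F × V) :
    hypScale t p = ((t : F) * p.1, ((t⁻¹ : Fˣ) : F) * p.2.1, p.2.2) := rfl

variable {Q : V → F} {B : V →ₗ[F] V →ₗ[F] F}

/-- Eichler transformation fixing `(1, 0, 0)`. -/
def hypEichler (hQ : IsQuadPair Q B) (y : V) : (F × F × V) ≃ₗ[F] (F × F × V) where
  toFun p := (p.1 - B p.2.2 y - p.2.1 * Q y, p.2.1, p.2.2 + p.2.1 • y)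
  invFun p := (p.1 + B p.2.2 y - p.2.1 * Q y, p.2.1, p.2.2 - p.2.1 • y)
  map_add' p r := by
    refine Prod.ext ?_ (Prod.ext rfl ?_)
    · simp only [Prod.fst_add, Prod.snd_add, map_add, LinearMap.add_apply]; ring
    · simp only [Prod.fst_add, Prod.snd_add]; module
  map_smul' c p := by
    refine Prod.ext ?_ (Prod.ext rfl ?_)
    · simp only [Prod.smul_fst, Prod.smul_snd, map_smul, LinearMap.smul_apply, smul_eq_mul, RingHom.id_apply]; ring
    · simp only [Prod.smul_snd, Prod.smul_fst, smul_eq_mul, RingHom.id_apply]; module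
  left_inv p := by
    refine Prod.ext ?_ (Prod.ext rfl ?_)
    · simp only [map_add, map_smul, LinearMap.add_apply, LinearMap.smul_apply, smul_eq_mul, hQ.polar_self]; ring
    · simp
  right_inv p := by
    refine Prod.ext ?_ (Prod.ext rfl ?_)
    · simp only [map_sub, map_smul, LinearMap.sub_apply, LinearMap.smul_apply, smul_eq_mul, hQ.polar_self]; ring
    · simp

@[simp] theorem hypEichler_apply (hQ : IsQuadPair Q B) (y : V) (p : F × F × V) :
    hypEichler hQ y p = (p.1 - B p.2.2 y - p.2.1 * Q y, p.2.1, p.2.2 + p.2.1 • y) := rfl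

theorem hypScale_mem (t : Fˣ) : hypScale t ∈ isoGroup (hypQ Q) := fun p => by
  simp only [hypScale_apply, hypQ]
  rw [mul_mul_mul_comm, Units.mul_inv, one_mul]

theorem hypSwap_mem : (hypSwap : (F × F × V) ≃ₗ[F] _) ∈ isoGroup (hypQ Q) := fun p => by
  simp only [hypSwap_apply, hypQ]
  ring

theorem hypEichler_mem (hQ : IsQuadPair Q B) (y : V) : hypEichler hQ y ∈ isoGroup (hypQ Q) := fun p => by
  simp only [hypEichler_apply, hypQ, hQ.add, hQ.smul, map_smul, smul_eq_mul]
  ring

/-- Transitivity on nonzero singular vectors. -/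
theorem exists_mem_map_eq (hQ : IsQuadPair Q B) (v : F × F × V) (hv : v ≠ 0)
    (h0 : hypQ Q v = 0) : ∃ g ∈ isoGroup (hypQ Q), g (1, 0, 0) = v := by
  have key : ∀ v : F × F × V, v.1 ≠ 0 → hypQ Q v = 0 →
      ∃ g ∈ isoGroup (hypQ Q), g (1, 0, 0) = v := by
    rintro ⟨a, b, x⟩ ha h0
    refine ⟨hypScale (Units.mk0 a ha) * (hypSwap * hypEichler hQ x * hypSwap),
      mul_mem (hypScale_mem _) (mul_mem (mul_mem hypSwap_mem (hypEichler_mem hQ _)) hypSwap_mem), ?_⟩
    simp only [hypQ] at h0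
    simp only [LinearEquiv.mul_apply, hypSwap_apply, hypEichler_apply, hypScale_apply]
    refine Prod.ext ?_ (Prod.ext ?_ ?_)
    · simp
    · simp only [map_zero, LinearMap.zero_apply, Units.val_inv_eq_inv_val, Units.val_mk0]
      field_simp
      linear_combination -h0
    · simp
  by_cases ha : v.1 = 0
  · by_cases hb : v.2.1 = 0
    · have hx : v.2.2 ≠ 0 := fun h => hv (Prod.ext ha (Prod.ext hb h))
      obtain ⟨z, hz⟩ : ∃ z, B v.2.2 z ≠ 0 := by
        by_contra h
        push Not at h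
        exact hx (hQ.nondeg _ h)
      obtain ⟨g, hg, hgv⟩ := key (hypEichler hQ z v) (by simp [ha, hb, hz])
        (by rw [hypEichler_mem hQ z, h0])
      refine ⟨(hypEichler hQ z)⁻¹ * g, mul_mem (inv_mem (hypEichler_mem hQ z)) hg, ?_⟩
      rw [LinearEquiv.mul_apply, hgv, ← LinearEquiv.mul_apply, inv_mul_cancel]
      rfl
    · obtain ⟨g, hg, hgv⟩ := key (hypSwap v) (by simpa using hb) (by rw [hypSwap_mem, h0])
      refine ⟨hypSwap * g, mul_mem hypSwap_mem hg, ?_⟩
      rw [LinearEquiv.mul_apply, hgv]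
      rfl
  · exact key v ha h0

/-- Extension of an isometry of `Q` by the identity. -/
def hypEmb (g : V ≃ₗ[F] V) : (F × F × V) ≃ₗ[F] (F × F × V) :=
  (LinearEquiv.refl F F).prodCongr ((LinearEquiv.refl F F).prodCongr g)

@[simp] theorem hypEmb_apply (g : V ≃ₗ[F] V) (p : F × F × V) :
    hypEmb g p = (p.1, p.2.1, g p.2.2) := rfl

theorem hypEmb_mem {g : V ≃ₗ[F] V} (hg : g ∈ isoGroup Q) : hypEmb g ∈ isoGroup (hypQ Q) := fun p => by
  simp only [hypEmb_apply, hypQ, hg p.2.2]

/-- An isometry fixing the hyperbolic pair restricts to the complement. -/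
theorem eq_hypEmb (hQ : IsQuadPair Q B) {g : (F × F × V) ≃ₗ[F] (F × F × V)}
    (hg : g ∈ isoGroup (hypQ Q)) (he : g (1, 0, 0) = (1, 0, 0)) (hf : g (0, 1, 0) = (0, 1, 0)) :
    ∃ h ∈ isoGroup Q, g = hypEmb h := by
  have perp : ∀ g : (F × F × V) ≃ₗ[F] (F × F × V), g ∈ isoGroup (hypQ Q) →
      g (1, 0, 0) = (1, 0, 0) → g (0, 1, 0) = (0, 1, 0) → ∀ x, g (0, 0, x) = (0, 0, (g (0, 0, x)).2.2) := by
    intro g hg he hf x
    have h1 := hQ.hyp.map_polar hg (1, 0, 0) (0, 0, x)
    have h2 := hQ.hyp.map_polar hg (0, 1, 0) (0, 0, x)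
    rw [he] at h1
    rw [hf] at h2
    simp at h1 h2
    exact Prod.ext h2 (Prod.ext h1 rfl)
  have hi : g⁻¹ ∈ isoGroup (hypQ Q) := inv_mem hg
  have hie : g⁻¹ (1, 0, 0) = (1, 0, 0) := g.injective (by rw [he]; exact g.apply_symm_apply _)
  have hif : g⁻¹ (0, 1, 0) = (0, 1, 0) := g.injective (by rw [hf]; exact g.apply_symm_apply _)
  have hg0 := perp g hg he hf
  have hi0 := perp g⁻¹ hi hie hif
  refine ⟨
    { toFun := fun x => (g (0, 0, x)).2.2
      invFun := fun x => (g⁻¹ (0, 0, x)).2.2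
      map_add' := fun x y => by
        have : ((0, 0, x + y) : F × F × V) = (0, 0, x) + (0, 0, y) := by simp
        rw [this, map_add]; rfl
      map_smul' := fun c x => by
        have : ((0, 0, c • x) : F × F × V) = c • (0, 0, x) := by simp
        rw [this, map_smul]; rfl
      left_inv := fun x => by
        show (g⁻¹ (0, 0, (g (0, 0, x)).2.2)).2.2 = x
        rw [← hg0 x]
        show (g.symm (g (0, 0, x))).2.2 = x
        rw [g.symm_apply_apply]
      right_inv := fun x => by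
        show (g (0, 0, (g⁻¹ (0, 0, x)).2.2)).2.2 = x
        rw [← hi0 x]
        show (g (g.symm (0, 0, x))).2.2 = x
        rw [g.apply_symm_apply] }, fun x => ?_, ?_⟩
  · show Q (g (0, 0, x)).2.2 = Q x
    have h := hg (0, 0, x)
    rw [hg0 x] at h
    simpa [hypQ] using h
  · apply LinearEquiv.ext
    rintro ⟨a, b, x⟩
    have : ((a, b, x) : F × F × V) = a • (1, 0, 0) + b • (0, 1, 0) + (0, 0, x) := by simp
    rw [this, map_add, map_add, map_smul, map_smul, he, hf, hg0 x]
    simp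

/-- The stabiliser of the singular vector `(1, 0, 0)`. -/
def hypStab (Q : V → F) : Subgroup (isoGroup (hypQ Q)) where
  carrier := {g | g.1 (1, 0, 0) = (1, 0, 0)}
  mul_mem' {a b} ha hb := by
    show a.1 (b.1 (1, 0, 0)) = _
    rw [show b.1 (1, 0, 0) = (1, 0, 0) from hb]
    exact ha
  one_mem' := rfl
  inv_mem' {a} ha := by
    show a.1.symm (1, 0, 0) = _
    rw [LinearEquiv.symm_apply_eq]
    exact ha.symm

theorem card_hypStab (hQ : IsQuadPair Q B) :
    Nat.card (hypStab Q) = Nat.card V * Nat.card (isoGroup Q) := by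
  rw [← Nat.card_prod]
  refine (Nat.card_congr (Equiv.ofBijective (fun p : V × isoGroup Q =>
    (⟨⟨hypEichler hQ p.1 * hypEmb p.2.1, mul_mem (hypEichler_mem hQ _) (hypEmb_mem p.2.2)⟩,
      show (hypEichler hQ p.1 * hypEmb p.2.1) (1, 0, 0) = (1, 0, 0) by simp⟩ : hypStab Q)) ⟨?_, ?_⟩)).symm
  · rintro ⟨y, h⟩ ⟨y', h'⟩ he
    have he' : ∀ p, (hypEichler hQ y * hypEmb h.1) p = (hypEichler hQ y' * hypEmb h'.1) p :=
      fun p => congrArg (fun k : hypStab Q => k.1.1 p) he
    have hy : y = y' := by simpa using congrArg (fun p => p.2.2) (he' (0, 1, 0))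
    subst hy
    refine Prod.ext rfl (Subtype.ext (LinearEquiv.ext fun x => ?_))
    simpa using congrArg (fun p => p.2.2) (he' (0, 0, x))
  · rintro ⟨⟨g, hg⟩, he⟩
    have he' : g (1, 0, 0) = (1, 0, 0) := he
    have hb : (g (0, 1, 0)).2.1 = 1 := by
      have h := hQ.hyp.map_polar hg (1, 0, 0) (0, 1, 0)
      rw [he'] at h
      simpa using h
    have hq : (g (0, 1, 0)).1 = -Q (g (0, 1, 0)).2.2 := by
      have h := hg (0, 1, 0)
      simp only [hypQ, hb, hQ.zero] at h
      linear_combination h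
    let y := (g (0, 1, 0)).2.2
    have hfy : hypEichler hQ y (0, 1, 0) = g (0, 1, 0) := by
      refine Prod.ext ?_ (Prod.ext ?_ ?_) <;> simp [y, hb, hq]
    obtain ⟨h, hh, hgh⟩ := eq_hypEmb hQ (g := (hypEichler hQ y)⁻¹ * g)
      (mul_mem (inv_mem (hypEichler_mem hQ y)) hg)
      (by
        show (hypEichler hQ y).symm (g (1, 0, 0)) = _
        rw [LinearEquiv.symm_apply_eq, he']; simp)
      (by
        show (hypEichler hQ y).symm (g (0, 1, 0)) = _
        rw [LinearEquiv.symm_apply_eq, hfy])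
    refine ⟨(y, ⟨h, hh⟩), Subtype.ext (Subtype.ext ?_)⟩
    show hypEichler hQ y * hypEmb h = g
    rw [← hgh, mul_inv_cancel_left]

/-- `|O(Q ⊥ H)| = (number of nonzero singular vectors) * |V| * |O(Q)|`. -/
theorem card_isoGroup_hyp (hQ : IsQuadPair Q B) :
    Nat.card (isoGroup (hypQ Q)) =
      Nat.card {v : F × F × V // v ≠ 0 ∧ hypQ Q v = 0} * (Nat.card V * Nat.card (isoGroup Q)) := by
  rw [← card_hypStab hQ]
  refine natCard_eq_image_mul (hypStab Q) (fun g => g.1 (1, 0, 0))
    {v | v ≠ 0 ∧ hypQ Q v = 0} (fun a b => ?_) (fun g => ⟨?_, ?_⟩) ?_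
  · show _ ↔ a.1.symm (b.1 (1, 0, 0)) = (1, 0, 0)
    rw [LinearEquiv.symm_apply_eq]
    exact eq_comm
  · simp
  · rw [g.2]; simp [hypQ, hQ.zero]
  · rintro v ⟨hv, h0⟩
    obtain ⟨g, hg, rfl⟩ := exists_mem_map_eq hQ v hv h0
    exact ⟨⟨g, hg⟩, rfl⟩

theorem card_mul_pairs [Fintype F] [DecidableEq F] (c : F) :
    (Finset.univ.filter fun p : F × F => p.1 * p.2 = c).card =
      (Fintype.card F - 1) + if c = 0 then Fintype.card F else 0 := by
  classical
  rw [Finset.card_filter, Fintype.sum_prod_type, ← Finset.add_sum_erase _ _ (Finset.mem_univ (0 : F)), add_comm]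
  have h1 : ∀ a ∈ (Finset.univ : Finset F).erase 0, (∑ b : F, if a * b = c then 1 else 0) = 1 := by
    intro a ha
    have ha' := Finset.ne_of_mem_erase ha
    rw [Finset.sum_eq_single (c / a)]
    · simp [mul_div_cancel₀ _ ha']
    · intro b _ hb
      rw [if_neg]
      rintro rfl
      exact hb (by field_simp)
    · simp
  rw [Finset.sum_congr rfl h1]
  congr 1
  · simp [Finset.card_erase_of_mem]
  · by_cases hc : c = 0 <;> simp [hc, eq_comm]

omit [AddCommGroup V] [Module F V] in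
/-- Number of zeros after adding a hyperbolic plane. -/
theorem card_hypQ_zero [Fintype F] [Finite V] (Q : V → F) :
    Nat.card {v : F × F × V // hypQ Q v = 0} =
      (Fintype.card F - 1) * Nat.card V + Fintype.card F * Nat.card {x : V // Q x = 0} := by
  classical
  let _ : Fintype V := Fintype.ofFinite V
  have e : {v : F × F × V // hypQ Q v = 0} ≃ Σ x : V, {p : F × F // p.1 * p.2 = -Q x} :=
    { toFun := fun v => ⟨v.1.2.2, (v.1.1, v.1.2.1), eq_neg_of_add_eq_zero_left v.2⟩
      invFun := fun s => ⟨(s.2.1.1, s.2.1.2, s.1), by rw [hypQ, s.2.2, neg_add_cancel]⟩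
      left_inv := fun v => rfl
      right_inv := fun s => rfl }
  rw [Nat.card_congr e, Nat.card_sigma]
  simp only [Nat.card_eq_fintype_card, Fintype.card_subtype]
  rw [Finset.sum_congr rfl (fun x _ => ((congrArg Finset.card (by congr)).trans (card_mul_pairs (-Q x))))]
  simp only [neg_eq_zero]
  rw [Finset.sum_add_distrib, Finset.sum_const, Finset.card_univ, smul_eq_mul, mul_comm,
    ← Finset.sum_filter, Finset.sum_const, smul_eq_mul, mul_comm (Finset.card _)]

omit [Module F V] in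
theorem card_ne_zero_eq [Finite V] (Q : V → F) (h0 : Q 0 = 0) :
    Nat.card {v : V // v ≠ 0 ∧ Q v = 0} = Nat.card {v : V // Q v = 0} - 1 := by
  classical
  let _ : Fintype V := Fintype.ofFinite V
  have hmem : (0 : V) ∈ Finset.univ.filter (fun v => Q v = 0) := by simp [h0]
  simp only [Nat.card_eq_fintype_card, Fintype.card_subtype]
  rw [← Finset.card_erase_of_mem hmem]
  congr 1
  ext v
  simp

end CfsgLib.ClassicalGroups
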