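import Mathlib
import Cfsg.Agent.Lib.ClassicalGroups.Count
import Cfsg.Agent.Lib.ClassicalGroups.HypExt

/-!
The anisotropic binary quadratic form `z₁² + a z₁ z₂ + b z₂²`: values and isometry group.
-/

set_option autoImplicit false

namespace CfsgLib.ClassicalGroups

variable {F : Type*} [Field F]

/-- The binary form. -/
def binQ (a b : F) (p : F × F) : F := p.1 ^ 2 + a * p.1 * p.2 + b * p.2 ^ 2

/-- Its polar form. -/
def binB (a b : F) : F × F →ₗ[F] F × F →ₗ[F] F :=
  LinearMap.mk₂ F (fun p r => 2 * p.1 * r.1 + a * (p.1 * r.2 + r.1 * p.2) + 2 * b * p.2 * r.2)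
    (fun _ _ _ => by simp only [Prod.fst_add, Prod.snd_add]; ring)
    (fun _ _ _ => by simp only [Prod.smul_fst, Prod.smul_snd, smul_eq_mul]; ring)
    (fun _ _ _ => by simp only [Prod.fst_add, Prod.snd_add]; ring)
    (fun _ _ _ => by simp only [Prod.smul_fst, Prod.smul_snd, smul_eq_mul]; ring)

@[simp] theorem binB_apply (a b : F) (p r : F × F) :
    binB a b p r = 2 * p.1 * r.1 + a * (p.1 * r.2 + r.1 * p.2) + 2 * b * p.2 * r.2 := rfl

/-- Multiplication in `F[θ]`, `θ² = a θ - b`. -/
def binMul (a b : F) (p r : F × F) : F × F :=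
  (p.1 * r.1 - b * p.2 * r.2, p.1 * r.2 + p.2 * r.1 + a * p.2 * r.2)

theorem binQ_binMul (a b : F) (p r : F × F) : binQ a b (binMul a b p r) = binQ a b p * binQ a b r := by
  simp only [binQ, binMul]; ring

variable [Fintype F]

theorem binDisc_ne_zero {a b : F} (hab : ∀ z₁ z₂ : F, z₁ ^ 2 + a * z₁ * z₂ + b * z₂ ^ 2 = 0 → z₁ = 0 ∧ z₂ = 0) :
    a ^ 2 - 4 * b ≠ 0 := by
  intro h
  by_cases h2 : (2 : F) = 0
  · have ha : a = 0 := by
      have h4 : (4 : F) = 0 := by linear_combination (2 : F) * h2
      have : a ^ 2 = 0 := by linear_combination h + b * h4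
      simpa using this
    obtain ⟨s, hs⟩ := FiniteField.isSquare_of_char_two (F := F) (by
      have := CharTwo.of_one_ne_zero_of_two_eq_zero (one_ne_zero (α := F)) h2
      exact ringChar.eq F 2) (-b)
    exact one_ne_zero (hab s 1 (by subst ha; linear_combination -hs)).2
  · exact h2 (hab (-a) 2 (by linear_combination -h)).2

theorem isQuadPair_bin {a b : F} (hab : ∀ z₁ z₂ : F, z₁ ^ 2 + a * z₁ * z₂ + b * z₂ ^ 2 = 0 → z₁ = 0 ∧ z₂ = 0) :
    IsQuadPair (binQ a b) (binB a b) where
  smul c v := by simp only [binQ, Prod.smul_fst, Prod.smul_snd, smul_eq_mul]; ring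
  add u v := by simp only [binQ, binB_apply, Prod.fst_add, Prod.snd_add]; ring
  nondeg u h := by
    obtain ⟨x, y⟩ := u
    have h1 := h (1, 0)
    have h2 := h (0, 1)
    simp at h1 h2
    have hd := binDisc_ne_zero hab
    have hx : (a ^ 2 - 4 * b) * x = 0 := by linear_combination a * h2 - 2 * b * h1
    have hy : (a ^ 2 - 4 * b) * y = 0 := by linear_combination a * h1 - 2 * h2
    simp [mul_eq_zero, hd] at hx hy
    simp [hx, hy]

theorem exists_binQ_eq (a b c : F) (hd : a ^ 2 - 4 * b ≠ 0) : ∃ p : F × F, binQ a b p = c := by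
  by_cases h2 : (2 : F) = 0
  · obtain ⟨s, hs⟩ := FiniteField.isSquare_of_char_two (F := F) (by
      have := CharTwo.of_one_ne_zero_of_two_eq_zero (one_ne_zero (α := F)) h2
      exact ringChar.eq F 2) c
    exact ⟨(s, 0), by simp only [binQ]; linear_combination -hs⟩
  · have hodd : Fintype.card F % 2 = 1 := by
      apply FiniteField.odd_card_of_char_ne_two
      intro hc
      apply h2
      have := ringChar.Nat.cast_ringChar (R := F)
      rw [hc] at this
      exact_mod_cast this
    have h4 : (4 : F) ≠ 0 := by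
      intro h
      apply h2
      have : (2 : F) * 2 = 0 := by linear_combination h
      simpa using this
    have hcoef : (4 * b - a ^ 2) / 4 ≠ 0 :=
      div_ne_zero (fun h => hd (by linear_combination -h)) h4
    obtain ⟨u, y, huy⟩ := FiniteField.exists_root_sum_quadratic
      (f := Polynomial.X ^ 2 - Polynomial.C c)
      (g := Polynomial.C ((4 * b - a ^ 2) / 4) * Polynomial.X ^ 2)
      (Polynomial.degree_X_pow_sub_C (by decide) _)
      (Polynomial.degree_C_mul_X_pow 2 hcoef) hodd
    refine ⟨(u - a * y / 2, y), ?_⟩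
    simp only [Polynomial.eval_sub, Polynomial.eval_pow, Polynomial.eval_X, Polynomial.eval_C,
      Polynomial.eval_mul] at huy
    simp only [binQ]
    field_simp at huy ⊢
    linear_combination huy

/-- Each nonzero value is taken `q + 1` times. -/
theorem card_binQ_eq_one {a b : F} (hab : ∀ z₁ z₂ : F, z₁ ^ 2 + a * z₁ * z₂ + b * z₂ ^ 2 = 0 → z₁ = 0 ∧ z₂ = 0) :
    Nat.card {p : F × F // binQ a b p = 1} = Fintype.card F + 1 := by
  classical
  have hinj : ∀ p : F × F, p ≠ 0 → Function.Injective (binMul a b p) := by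
    intro p hp r r' h
    by_contra hne
    have hd : r - r' ≠ 0 := sub_ne_zero.2 hne
    have h0 : binMul a b p (r - r') = 0 := by
      have : binMul a b p (r - r') = binMul a b p r - binMul a b p r' := by
        simp only [binMul, Prod.fst_sub, Prod.snd_sub, Prod.mk_sub_mk]
        ext <;> simp <;> ring
      rw [this, h, sub_self]
    have := binQ_binMul a b p (r - r')
    rw [h0] at this
    simp only [binQ, Prod.fst_zero, Prod.snd_zero] at this
    rcases mul_eq_zero.1 (this.symm.trans (by ring)) with h1 | h1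
    · exact hp (Prod.ext (hab _ _ h1).1 (hab _ _ h1).2)
    · exact hd (Prod.ext (hab _ _ h1).1 (hab _ _ h1).2)
  set N := (Finset.univ.filter fun p : F × F => binQ a b p = 1).card with hN
  have hfib : ∀ c ∈ (Finset.univ : Finset F).erase 0,
      (Finset.univ.filter fun p : F × F => binQ a b p = c).card = N := by
    intro c hc
    have hc0 := Finset.ne_of_mem_erase hc
    obtain ⟨p, hp⟩ := exists_binQ_eq a b c (binDisc_ne_zero hab)
    have hp0 : p ≠ 0 := fun h => hc0 (by rw [← hp, h]; simp [binQ])
    have hb : Function.Bijective (binMul a b p) := Finite.injective_iff_bijective.1 (hinj p hp0)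
    symm
    refine Finset.card_bij (fun r _ => binMul a b p r) ?_ (fun r _ r' _ h => hb.1 h) ?_
    · intro r hr
      simp only [Finset.mem_filter, Finset.mem_univ, true_and] at hr ⊢
      rw [binQ_binMul, hr, hp, mul_one]
    · intro r hr
      obtain ⟨s, rfl⟩ := hb.2 r
      refine ⟨s, ?_, rfl⟩
      simp only [Finset.mem_filter, Finset.mem_univ, true_and, binQ_binMul, hp] at hr ⊢
      simpa [hc0] using hr
  have h0 : (Finset.univ.filter fun p : F × F => binQ a b p = 0) = {0} := by
    ext p
    simp only [Finset.mem_filter, Finset.mem_univ, true_and, Finset.mem_singleton]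
    exact ⟨fun h => Prod.ext (hab _ _ h).1 (hab _ _ h).2, fun h => by simp [h, binQ]⟩
  have htot := Finset.card_eq_sum_card_fiberwise (f := binQ a b) (s := (Finset.univ : Finset (F × F)))
    (t := (Finset.univ : Finset F)) (by simp)
  rw [← Finset.add_sum_erase _ _ (Finset.mem_univ (0 : F)), h0, Finset.sum_congr rfl hfib] at htot
  simp [Finset.card_erase_of_mem] at htot
  rw [Nat.card_eq_fintype_card, Fintype.card_subtype, ← hN]
  obtain ⟨k, hk⟩ : ∃ k, Fintype.card F = k + 2 :=
    Nat.exists_eq_add_of_le' (Fintype.one_lt_card (α := F))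
  rw [hk] at htot ⊢
  have : (k + 1) * N = (k + 1) * (k + 3) := by
    rw [show k + 2 - 1 = k + 1 from rfl] at htot
    nlinarith
  exact Nat.eq_of_mul_eq_mul_left (Nat.succ_pos k) this


omit [Fintype F] in
theorem binPair_iff {a b : F} (hd : a ^ 2 - 4 * b ≠ 0) {u w : F × F} (hu : binQ a b u = 1) :
    binQ a b w = b ∧ binB a b u w = a ↔
      w = (-b * u.2, u.1 + a * u.2) ∨ w = (a * u.1 + b * u.2, -u.1) := by
  obtain ⟨x, y⟩ := u
  obtain ⟨w1, w2⟩ := w
  simp only [binQ, binB_apply, Prod.mk.injEq] at hu ⊢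
  constructor
  · rintro ⟨hw, hB⟩
    set s := (x + a * y) * w1 + b * y * w2 with hs
    set t := x * w2 - y * w1 with ht
    have e1 : w1 = s * x - b * t * y := by rw [hs, ht]; linear_combination -w1 * hu
    have e2 : w2 = s * y + t * (x + a * y) := by rw [hs, ht]; linear_combination -w2 * hu
    have hq : s ^ 2 + a * s * t + b * t ^ 2 = b := by
      rw [e1, e2] at hw
      linear_combination hw - (s ^ 2 + a * s * t + b * t ^ 2) * hu
    have hl : 2 * s + a * t = a := by
      rw [e1, e2] at hB
      linear_combination hB - (2 * s + a * t) * hu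
    have ht2 : (a ^ 2 - 4 * b) * (1 - t ^ 2) = 0 := by
      linear_combination 4 * hq - (2 * s + a * t + a) * hl
    rcases mul_eq_zero.1 ht2 with h1 | h1
    · exact absurd h1 hd
    have ht' : t = 1 ∨ t = -1 := sq_eq_one_iff.1 (by linear_combination -h1)
    by_cases h2 : (2 : F) = 0
    · have htt : t = 1 := by rcases ht' with h | h; exacts [h, by rw [h]; linear_combination -h2]
      have hss : s * (s + a) = 0 := by rw [htt] at hq; linear_combination hq
      rcases mul_eq_zero.1 hss with h | h
      · exact Or.inl ⟨by rw [e1, h, htt]; ring, by rw [e2, h, htt]; ring⟩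
      · refine Or.inr ⟨?_, ?_⟩
        · rw [e1, eq_neg_of_add_eq_zero_left h, htt]; linear_combination -(a * x + b * y) * h2
        · rw [e2, eq_neg_of_add_eq_zero_left h, htt]; linear_combination x * h2
    · rcases ht' with htt | htt
      · have : (2 : F) * s = 0 := by rw [htt] at hl; linear_combination hl
        have h : s = 0 := by simpa [h2] using this
        exact Or.inl ⟨by rw [e1, h, htt]; ring, by rw [e2, h, htt]; ring⟩
      · have : (2 : F) * s = 2 * a := by rw [htt] at hl; linear_combination hl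
        have h : s = a := mul_left_cancel₀ h2 this
        exact Or.inr ⟨by rw [e1, h, htt]; ring, by rw [e2, h, htt]; ring⟩
  · rintro (⟨rfl, rfl⟩ | ⟨rfl, rfl⟩)
    · exact ⟨by linear_combination b * hu, by linear_combination a * hu⟩
    · exact ⟨by linear_combination b * hu, by linear_combination a * hu⟩

/-- The order of the orthogonal group of an anisotropic binary form is `2 (q + 1)`. -/
theorem card_isoGroup_bin {a b : F} (hab : ∀ z₁ z₂ : F, z₁ ^ 2 + a * z₁ * z₂ + b * z₂ ^ 2 = 0 → z₁ = 0 ∧ z₂ = 0) :
    Nat.card (isoGroup (binQ a b)) = 2 * (Fintype.card F + 1) := by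
  classical
  have hd := binDisc_ne_zero hab
  have hQ := isQuadPair_bin hab
  rw [← card_binQ_eq_one hab, mul_comm, show 2 = Nat.card Bool by simp, ← Nat.card_prod]
  let W : F × F → Bool → F × F := fun u s =>
    if s then (-b * u.2, u.1 + a * u.2) else (a * u.1 + b * u.2, -u.1)
  have hW : ∀ (u : {p : F × F // binQ a b p = 1}) (s : Bool),
      binQ a b (W u.1 s) = b ∧ binB a b u.1 (W u.1 s) = a := by
    intro u s
    refine (binPair_iff hd u.2).2 ?_
    cases s <;> simp [W]
  let L : F × F → Bool → (F × F →ₗ[F] F × F) := fun u s =>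
    { toFun := fun p => p.1 • u + p.2 • W u s
      map_add' := fun p r => by simp only [Prod.fst_add, Prod.snd_add, add_smul]; abel
      map_smul' := fun c p => by simp only [Prod.smul_fst, Prod.smul_snd, smul_eq_mul, mul_smul, smul_add, RingHom.id_apply] }
  have hL : ∀ (u : {p : F × F // binQ a b p = 1}) (s : Bool) (p : F × F),
      binQ a b (L u.1 s p) = binQ a b p := by
    intro u s p
    show binQ a b (p.1 • u.1 + p.2 • W u.1 s) = _
    rw [hQ.add, hQ.smul, hQ.smul, map_smul, map_smul, LinearMap.smul_apply, (hW u s).1, (hW u s).2, u.2]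
    simp only [binQ, smul_eq_mul]; ring
  have hLi : ∀ (u : {p : F × F // binQ a b p = 1}) (s : Bool), Function.Injective (L u.1 s) := by
    intro u s
    rw [injective_iff_map_eq_zero]
    intro p hp
    have h := hL u s p
    rw [hp, hQ.zero] at h
    exact Prod.ext (hab _ _ h.symm).1 (hab _ _ h.symm).2
  symm
  refine Nat.card_congr (Equiv.ofBijective (fun us : {p : F × F // binQ a b p = 1} × Bool =>
    (⟨LinearEquiv.ofInjectiveEndo (L us.1.1 us.2) (hLi us.1 us.2), fun p => by
      rw [LinearEquiv.coe_ofInjectiveEndo]; exact hL us.1 us.2 p⟩ : isoGroup (binQ a b))) ⟨?_, ?_⟩)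
  · rintro ⟨u, s⟩ ⟨u', s'⟩ h
    have h' : ∀ p, L u.1 s p = L u'.1 s' p := fun p => by
      have := congrArg (fun g : isoGroup (binQ a b) => g.1 p) h
      simpa using this
    have huu : u = u' := Subtype.ext (by simpa [L] using h' (1, 0))
    subst huu
    refine Prod.ext rfl ?_
    have hw : W u.1 s = W u.1 s' := by simpa [L] using h' (0, 1)
    by_contra hne
    have key : (-b * u.1.2, u.1.1 + a * u.1.2) = (a * u.1.1 + b * u.1.2, -u.1.1) := by
      cases s <;> cases s' <;> simp only [W, ne_eq, reduceIte, Bool.false_eq_true, not_true_eq_false] at hw hne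
      · exact hw.symm
      · exact hw
    simp only [Prod.mk.injEq] at key
    have hu0 := hQ.nondeg u.1 fun v => by
      simp only [binB_apply]; linear_combination -v.2 * key.1 + v.1 * key.2
    have := u.2
    rw [hu0] at this
    simp [binQ] at this
  · rintro ⟨g, hg⟩
    have hu : binQ a b (g (1, 0)) = 1 := by rw [hg]; simp [binQ]
    have h1 : binQ a b (g (0, 1)) = b ∧ binB a b (g (1, 0)) (g (0, 1)) = a :=
      ⟨by rw [hg]; simp [binQ], by rw [hQ.map_polar hg]; simp⟩
    obtain ⟨s, hs⟩ : ∃ s, W (g (1, 0)) s = g (0, 1) := by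
      rcases (binPair_iff hd hu).1 h1 with h | h
      · exact ⟨true, by simp [W, h]⟩
      · exact ⟨false, by simp [W, h]⟩
    refine ⟨(⟨g (1, 0), hu⟩, s), Subtype.ext (LinearEquiv.ext fun p => ?_)⟩
    rw [LinearEquiv.coe_ofInjectiveEndo]
    show p.1 • g (1, 0) + p.2 • W (g (1, 0)) s = g p
    rw [hs, ← map_smul, ← map_smul, ← map_add]
    congr 1
    ext <;> simp

end CfsgLib.ClassicalGroups
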