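import Mathlib
import Cfsg.Prelude.Def_Classical
import Cfsg.Agent.Lib.ClassicalGroups.Count
import Cfsg.Agent.Lib.ClassicalGroups.HypExt
import Cfsg.Agent.Lib.ClassicalGroups.BinaryForm

/-!
Orders of the orthogonal groups `isometryGroup F (quadFormOdd/Plus/Minus)` and numbers of zeros.
-/

set_option autoImplicit false

namespace CfsgLib.ClassicalGroups

variable {F : Type*} [Field F]

section general
variable {ι : Type} [Fintype ι] [DecidableEq ι]

/-- `GL` as the group of linear automorphisms of the column space. -/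
noncomputable def glEquiv : GL ι F ≃* ((ι → F) ≃ₗ[F] (ι → F)) :=
  Matrix.GeneralLinearGroup.toLin.trans (LinearMap.GeneralLinearGroup.generalLinearEquiv F (ι → F))

@[simp] theorem glEquiv_apply (g : GL ι F) (v : ι → F) : glEquiv g v = Matrix.mulVec g.val v := rfl

theorem mem_isometryGroup_iff {Q : (ι → F) → F} {g : GL ι F} :
    g ∈ Cfsg.isometryGroup F Q ↔ ∀ v, Q (Matrix.mulVec g.val v) = Q v :=
  ⟨fun h v => h v v, fun h u _ => h u⟩

/-- The isometry group as a group of linear automorphisms. -/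
noncomputable def isometryEquiv (Q : (ι → F) → F) : Cfsg.isometryGroup F Q ≃* isoGroup Q where
  toFun g := ⟨glEquiv g.1, fun v => mem_isometryGroup_iff.1 g.2 v⟩
  invFun g := ⟨glEquiv.symm g.1, mem_isometryGroup_iff.2 fun v => by
    rw [← glEquiv_apply, MulEquiv.apply_symm_apply]
    exact g.2 v⟩
  left_inv g := Subtype.ext (glEquiv.symm_apply_apply g.1)
  right_inv g := Subtype.ext (glEquiv.apply_symm_apply g.1)
  map_mul' g h := Subtype.ext (map_mul glEquiv g.1 h.1)

theorem card_isometryGroup (Q : (ι → F) → F) :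
    Nat.card (Cfsg.isometryGroup F Q) = Nat.card (isoGroup Q) :=
  Nat.card_congr (isometryEquiv Q).toEquiv

end general

section transport
variable {V W : Type*} [AddCommGroup V] [Module F V] [AddCommGroup W] [Module F W]

theorem IsQuadPair.comap {Q' : W → F} {B' : W →ₗ[F] W →ₗ[F] F} (h : IsQuadPair Q' B')
    {Q : V → F} (e : V ≃ₗ[F] W) (he : ∀ v, Q' (e v) = Q v) :
    IsQuadPair Q (B'.compl₁₂ (e : V →ₗ[F] W) (e : V →ₗ[F] W)) where
  smul c v := by rw [← he, ← he, map_smul, h.smul]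
  add u v := by rw [← he, ← he, ← he, map_add, h.add]; rfl
  nondeg u hu := e.injective (by
    rw [map_zero]
    exact h.nondeg _ fun w => by simpa using hu (e.symm w))

theorem natCard_zero_congr {Q : V → F} {Q' : W → F} (e : V ≃ₗ[F] W) (he : ∀ v, Q' (e v) = Q v) :
    Nat.card {v : V // Q v = 0} = Nat.card {w : W // Q' w = 0} :=
  Nat.card_congr (e.toEquiv.subtypeEquiv fun v => by simp [he])

/-- One step of the recursion. -/
theorem card_step [Fintype F] [Finite V] {Q : V → F} {Q' : W → F} {B : V →ₗ[F] V →ₗ[F] F} (hQ : IsQuadPair Q B)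
    (e : W ≃ₗ[F] F × F × V) (he : ∀ w, hypQ Q (e w) = Q' w) :
    Nat.card (isoGroup Q') =
      (Nat.card {w : W // Q' w = 0} - 1) * (Nat.card V * Nat.card (isoGroup Q)) := by
  rw [card_isoGroup_congr e he, card_isoGroup_hyp hQ,
    card_ne_zero_eq _ (by simp [hypQ, hQ.zero]), natCard_zero_congr e he]

theorem zero_step [Fintype F] [Finite V] {Q : V → F} {Q' : W → F}
    (e : W ≃ₗ[F] F × F × V) (he : ∀ w, hypQ Q (e w) = Q' w) :
    Nat.card {w : W // Q' w = 0} =
      (Fintype.card F - 1) * Nat.card V + Fintype.card F * Nat.card {x : V // Q x = 0} := by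
  rw [natCard_zero_congr e he, card_hypQ_zero]

end transport

/-- Splitting off the first hyperbolic pair, plus type. -/
def plusSplit (m : ℕ) :
    (Fin (m + 1) ⊕ Fin (m + 1) → F) ≃ₗ[F] F × F × (Fin m ⊕ Fin m → F) where
  toFun v := (v (.inl 0), v (.inr 0), Sum.elim (fun i => v (.inl i.succ)) (fun i => v (.inr i.succ)))
  invFun p := Sum.elim (Fin.cons p.1 (fun i => p.2.2 (.inl i))) (Fin.cons p.2.1 (fun i => p.2.2 (.inr i)))
  map_add' u v := by
    refine Prod.ext rfl (Prod.ext rfl (funext fun i => ?_))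
    cases i <;> rfl
  map_smul' c v := by
    refine Prod.ext rfl (Prod.ext rfl (funext fun i => ?_))
    cases i <;> rfl
  left_inv v := funext fun i => by rcases i with i | i <;> refine Fin.cases ?_ ?_ i <;> simp
  right_inv p := by
    refine Prod.ext (by simp) (Prod.ext (by simp) (funext fun i => ?_))
    cases i <;> simp

theorem hypQ_plusSplit (m : ℕ) (v : Fin (m + 1) ⊕ Fin (m + 1) → F) :
    hypQ (Cfsg.quadFormPlus m F) (plusSplit m v) = Cfsg.quadFormPlus (m + 1) F v := by
  simp [hypQ, plusSplit, Cfsg.quadFormPlus, Fin.sum_univ_succ]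

/-- Splitting off the first hyperbolic pair, odd dimension. -/
def oddSplit (m : ℕ) :
    (Unit ⊕ (Fin (m + 1) ⊕ Fin (m + 1)) → F) ≃ₗ[F] F × F × (Unit ⊕ (Fin m ⊕ Fin m) → F) where
  toFun v := (v (.inr (.inl 0)), v (.inr (.inr 0)), Sum.elim (fun u => v (.inl u))
    (Sum.elim (fun i => v (.inr (.inl i.succ))) (fun i => v (.inr (.inr i.succ)))))
  invFun p := Sum.elim (fun u => p.2.2 (.inl u)) (Sum.elim (Fin.cons p.1 (fun i => p.2.2 (.inr (.inl i))))
    (Fin.cons p.2.1 (fun i => p.2.2 (.inr (.inr i)))))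
  map_add' u v := by
    refine Prod.ext rfl (Prod.ext rfl (funext fun i => ?_))
    rcases i with i | i | i <;> rfl
  map_smul' c v := by
    refine Prod.ext rfl (Prod.ext rfl (funext fun i => ?_))
    rcases i with i | i | i <;> rfl
  left_inv v := funext fun i => by
    rcases i with i | i | i
    · rfl
    all_goals refine Fin.cases ?_ ?_ i <;> simp
  right_inv p := by
    refine Prod.ext (by simp) (Prod.ext (by simp) (funext fun i => ?_))
    rcases i with i | i | i <;> simp

theorem hypQ_oddSplit (m : ℕ) (v : Unit ⊕ (Fin (m + 1) ⊕ Fin (m + 1)) → F) :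
    hypQ (Cfsg.quadFormOdd m F) (oddSplit m v) = Cfsg.quadFormOdd (m + 1) F v := by
  simp [hypQ, oddSplit, Cfsg.quadFormOdd, Fin.sum_univ_succ]
  ring

/-- Splitting off the first hyperbolic pair, minus type. -/
def minusSplit (m : ℕ) :
    ((Fin (m + 1) ⊕ Fin (m + 1)) ⊕ Fin 2 → F) ≃ₗ[F] F × F × ((Fin m ⊕ Fin m) ⊕ Fin 2 → F) where
  toFun v := (v (.inl (.inl 0)), v (.inl (.inr 0)), Sum.elim
    (Sum.elim (fun i => v (.inl (.inl i.succ))) (fun i => v (.inl (.inr i.succ)))) (fun u => v (.inr u)))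
  invFun p := Sum.elim (Sum.elim (Fin.cons p.1 (fun i => p.2.2 (.inl (.inl i))))
    (Fin.cons p.2.1 (fun i => p.2.2 (.inl (.inr i))))) (fun u => p.2.2 (.inr u))
  map_add' u v := by
    refine Prod.ext rfl (Prod.ext rfl (funext fun i => ?_))
    rcases i with (i | i) | i <;> rfl
  map_smul' c v := by
    refine Prod.ext rfl (Prod.ext rfl (funext fun i => ?_))
    rcases i with (i | i) | i <;> rfl
  left_inv v := funext fun i => by
    rcases i with (i | i) | i
    · refine Fin.cases ?_ ?_ i <;> simp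
    · refine Fin.cases ?_ ?_ i <;> simp
    · rfl
  right_inv p := by
    refine Prod.ext (by simp) (Prod.ext (by simp) (funext fun i => ?_))
    rcases i with (i | i) | i <;> simp

theorem hypQ_minusSplit (m : ℕ) (a b : F) (v : (Fin (m + 1) ⊕ Fin (m + 1)) ⊕ Fin 2 → F) :
    hypQ (Cfsg.quadFormMinus m F a b) (minusSplit m v) = Cfsg.quadFormMinus (m + 1) F a b v := by
  simp [hypQ, minusSplit, Cfsg.quadFormMinus, Fin.sum_univ_succ]
  ring

theorem exists_isQuadPair_plus (m : ℕ) :
    ∃ B, IsQuadPair (Cfsg.quadFormPlus m F) B := by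
  induction m with
  | zero => exact ⟨0, fun c v => by simp [Cfsg.quadFormPlus], fun u v => by simp [Cfsg.quadFormPlus],
      fun u _ => Subsingleton.elim _ _⟩
  | succ m ih => obtain ⟨B, hB⟩ := ih; exact ⟨_, hB.hyp.comap (plusSplit m) (hypQ_plusSplit m)⟩

/-- Coordinate of the one-dimensional form. -/
def oddBase : (Unit ⊕ (Fin 0 ⊕ Fin 0) → F) ≃ₗ[F] F where
  toFun v := v (.inl ())
  invFun x := fun _ => x
  map_add' _ _ := rfl
  map_smul' _ _ := rfl
  left_inv v := funext fun i => by rcases i with i | i | i; exacts [rfl, i.elim0, i.elim0]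
  right_inv _ := rfl

theorem exists_isQuadPair_odd (h2 : (2 : F) ≠ 0) (m : ℕ) :
    ∃ B, IsQuadPair (Cfsg.quadFormOdd m F) B := by
  induction m with
  | zero =>
    have h : IsQuadPair (fun x : F => x ^ 2) ((2 : F) • LinearMap.mul F F) :=
      ⟨fun c v => by simp [smul_eq_mul]; ring, fun u v => by simp; ring,
        fun u hu => by simpa [h2] using hu 1⟩
    exact ⟨_, h.comap oddBase fun v => by simp [oddBase, Cfsg.quadFormOdd]⟩
  | succ m ih => obtain ⟨B, hB⟩ := ih; exact ⟨_, hB.hyp.comap (oddSplit m) (hypQ_oddSplit m)⟩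

/-- Coordinates of the binary form. -/
def minusBase : ((Fin 0 ⊕ Fin 0) ⊕ Fin 2 → F) ≃ₗ[F] F × F where
  toFun v := (v (.inr 0), v (.inr 1))
  invFun x := Sum.elim (fun e => Sum.elim Fin.elim0 Fin.elim0 e) ![x.1, x.2]
  map_add' _ _ := rfl
  map_smul' _ _ := rfl
  left_inv v := funext fun i => by
    rcases i with (i | i) | i
    · exact i.elim0
    · exact i.elim0
    · fin_cases i <;> rfl
  right_inv _ := rfl

theorem binQ_minusBase (a b : F) (v : (Fin 0 ⊕ Fin 0) ⊕ Fin 2 → F) :
    binQ a b (minusBase v) = Cfsg.quadFormMinus 0 F a b v := by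
  show binQ a b (v (.inr 0), v (.inr 1)) = _
  simp [binQ, Cfsg.quadFormMinus]

variable [Fintype F]

theorem exists_isQuadPair_minus {a b : F}
    (hab : ∀ z₁ z₂ : F, z₁ ^ 2 + a * z₁ * z₂ + b * z₂ ^ 2 = 0 → z₁ = 0 ∧ z₂ = 0) (m : ℕ) :
    ∃ B, IsQuadPair (Cfsg.quadFormMinus m F a b) B := by
  induction m with
  | zero => exact ⟨_, (isQuadPair_bin hab).comap minusBase (binQ_minusBase a b)⟩
  | succ m ih => obtain ⟨B, hB⟩ := ih; exact ⟨_, hB.hyp.comap (minusSplit m) (hypQ_minusSplit m a b)⟩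

omit [Field F] in
theorem natCard_pow (ι : Type*) [Fintype ι] : Nat.card (ι → F) = Fintype.card F ^ Fintype.card ι := by
  rw [Nat.card_fun, Nat.card_eq_fintype_card, Nat.card_eq_fintype_card]

theorem card_zero_plus (m : ℕ) :
    Fintype.card F * Nat.card {v : Fin m ⊕ Fin m → F // Cfsg.quadFormPlus m F v = 0} + Fintype.card F ^ m =
      Fintype.card F ^ (2 * m) + Fintype.card F ^ (m + 1) := by
  induction m with
  | zero =>
    have : Nat.card {v : Fin 0 ⊕ Fin 0 → F // Cfsg.quadFormPlus 0 F v = 0} = 1 :=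
      Nat.card_eq_one_iff_exists.2 ⟨⟨0, by simp [Cfsg.quadFormPlus]⟩, fun v => Subtype.ext (Subsingleton.elim _ _)⟩
    rw [this]
    simp; ring
  | succ m ih =>
    rw [zero_step (plusSplit m) (hypQ_plusSplit m), natCard_pow]
    simp only [Fintype.card_sum, Fintype.card_fin]
    obtain ⟨k, hk⟩ : ∃ k, Fintype.card F = k + 1 := Nat.exists_eq_add_of_le' Fintype.card_pos
    rw [hk] at ih ⊢
    rw [Nat.add_sub_cancel]
    generalize Nat.card {x : Fin m ⊕ Fin m → F // Cfsg.quadFormPlus m F x = 0} = N at ih ⊢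
    have := congrArg (fun x => (k + 1) * x) ih
    simp only [← two_mul, pow_succ, pow_mul, pow_two, mul_add] at this ⊢
    linear_combination this

theorem card_zero_minus {a b : F}
    (hab : ∀ z₁ z₂ : F, z₁ ^ 2 + a * z₁ * z₂ + b * z₂ ^ 2 = 0 → z₁ = 0 ∧ z₂ = 0) (m : ℕ) :
    Fintype.card F * Nat.card {v : (Fin m ⊕ Fin m) ⊕ Fin 2 → F // Cfsg.quadFormMinus m F a b v = 0}
        + Fintype.card F ^ (m + 2) =
      Fintype.card F ^ (2 * m + 2) + Fintype.card F ^ (m + 1) := by
  induction m with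
  | zero =>
    have : Nat.card {v : (Fin 0 ⊕ Fin 0) ⊕ Fin 2 → F // Cfsg.quadFormMinus 0 F a b v = 0} = 1 := by
      rw [natCard_zero_congr minusBase (binQ_minusBase a b)]
      exact Nat.card_eq_one_iff_exists.2 ⟨⟨0, by simp [binQ]⟩,
        fun v => Subtype.ext (Prod.ext (hab _ _ v.2).1 (hab _ _ v.2).2)⟩
    rw [this]
    simp; ring
  | succ m ih =>
    rw [zero_step (minusSplit m) (hypQ_minusSplit m a b), natCard_pow]
    simp only [Fintype.card_sum, Fintype.card_fin]
    obtain ⟨k, hk⟩ : ∃ k, Fintype.card F = k + 1 := Nat.exists_eq_add_of_le' Fintype.card_pos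
    rw [hk] at ih ⊢
    rw [Nat.add_sub_cancel]
    generalize Nat.card {x : (Fin m ⊕ Fin m) ⊕ Fin 2 → F // Cfsg.quadFormMinus m F a b x = 0} = N at ih ⊢
    have := congrArg (fun x => (k + 1) * x) ih
    simp only [← two_mul, pow_succ, pow_mul, pow_two, mul_add] at this ⊢
    linear_combination this

theorem card_zero_odd (m : ℕ) :
    Nat.card {v : Unit ⊕ (Fin m ⊕ Fin m) → F // Cfsg.quadFormOdd m F v = 0} = Fintype.card F ^ (2 * m) := by
  induction m with
  | zero =>
    simp only [Nat.mul_zero, pow_zero]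
    refine Nat.card_eq_one_iff_exists.2 ⟨⟨0, by simp [Cfsg.quadFormOdd]⟩, fun v => Subtype.ext (oddBase.injective ?_)⟩
    have := v.2
    simpa [oddBase, Cfsg.quadFormOdd] using this
  | succ m ih =>
    rw [zero_step (oddSplit m) (hypQ_oddSplit m), natCard_pow, ih]
    simp only [Fintype.card_sum, Fintype.card_fin, Fintype.card_unit]
    obtain ⟨k, hk⟩ : ∃ k, Fintype.card F = k + 1 := Nat.exists_eq_add_of_le' Fintype.card_pos
    rw [hk, Nat.add_sub_cancel]
    rw [show 2 * (m + 1) = 2 * m + 2 by ring, show 1 + (m + m) = 2 * m + 1 by ring, pow_add, pow_add]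
    ring

theorem card_isometry_odd (h2 : (2 : F) ≠ 0) (m : ℕ) :
    Nat.card (Cfsg.isometryGroup F (Cfsg.quadFormOdd m F)) =
      2 * Fintype.card F ^ (m ^ 2) * ∏ i ∈ Finset.range m, (Fintype.card F ^ (2 * (i + 1)) - 1) := by
  rw [card_isometryGroup]
  induction m with
  | zero =>
    rw [card_isoGroup_congr oddBase (Q' := fun x : F => x ^ 2) fun v => by simp [oddBase, Cfsg.quadFormOdd]]
    simp
    have hne : (1 : F) ≠ -1 := fun h => h2 (by linear_combination h)
    refine (Nat.card_congr (Equiv.ofBijective (fun s : Bool =>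
      (⟨if s then LinearEquiv.refl F F else LinearEquiv.neg F, fun x => by cases s <;> simp⟩ :
        isoGroup (fun x : F => x ^ 2))) ⟨?_, ?_⟩)).symm.trans (by simp)
    · intro s t h
      have h' := congrArg (fun g : isoGroup (fun x : F => x ^ 2) => g.1 1) h
      cases s <;> cases t <;> simp at h' ⊢
      · exact hne h'.symm
      · exact hne h'
    · rintro ⟨g, hg⟩
      rcases sq_eq_one_iff.1 ((hg 1).trans (one_pow 2)) with h | h
      · refine ⟨true, Subtype.ext (LinearEquiv.ext fun x => ?_)⟩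
        have := map_smul g x 1
        simp [h] at this ⊢
        exact this.symm
      · refine ⟨false, Subtype.ext (LinearEquiv.ext fun x => ?_)⟩
        have := map_smul g x 1
        simp [h] at this ⊢
        exact this.symm
  | succ m ih =>
    obtain ⟨B, hB⟩ := exists_isQuadPair_odd h2 m
    rw [card_step hB (oddSplit m) (hypQ_oddSplit m), ih, card_zero_odd, natCard_pow, Finset.prod_range_succ]
    simp only [Fintype.card_sum, Fintype.card_fin, Fintype.card_unit]
    rw [show (m + 1) ^ 2 = m ^ 2 + (1 + (m + m)) by ring, pow_add]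
    ring

theorem sq_pred_mul (x : ℕ) : (x + 1) * (x - 1) = x ^ 2 - 1 := by
  rw [← Nat.sq_sub_sq, one_pow]

theorem card_zero_plus_pred (m : ℕ) :
    Nat.card {v : Fin (m + 1) ⊕ Fin (m + 1) → F // Cfsg.quadFormPlus (m + 1) F v = 0} - 1 =
      (Fintype.card F ^ (m + 1) - 1) * (Fintype.card F ^ m + 1) := by
  have h := card_zero_plus (F := F) (m + 1)
  generalize Nat.card {v : Fin (m + 1) ⊕ Fin (m + 1) → F // Cfsg.quadFormPlus (m + 1) F v = 0} = N at h ⊢
  obtain ⟨k, hk⟩ : ∃ k, Fintype.card F ^ (m + 1) = k + 1 :=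
    Nat.exists_eq_add_of_le' (Nat.one_le_pow _ _ Fintype.card_pos)
  have key : Fintype.card F * N = Fintype.card F * (k * (Fintype.card F ^ m + 1) + 1) := by
    apply Nat.add_right_cancel (m := Fintype.card F ^ (m + 1))
    rw [h]
    simp only [show 2 * (m + 1) = (m + 1) + (m + 1) by ring, pow_add _ (m + 1) (m + 1), pow_succ _ (m + 1), hk]
    rw [pow_succ] at hk
    linear_combination (k : ℕ) * hk.symm
  rw [Nat.eq_of_mul_eq_mul_left Fintype.card_pos key, hk]
  simp

theorem card_zero_minus_pred {a b : F}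
    (hab : ∀ z₁ z₂ : F, z₁ ^ 2 + a * z₁ * z₂ + b * z₂ ^ 2 = 0 → z₁ = 0 ∧ z₂ = 0) (m : ℕ) :
    Nat.card {v : (Fin m ⊕ Fin m) ⊕ Fin 2 → F // Cfsg.quadFormMinus m F a b v = 0} - 1 =
      (Fintype.card F ^ (m + 1) + 1) * (Fintype.card F ^ m - 1) := by
  have h := card_zero_minus hab m
  generalize Nat.card {v : (Fin m ⊕ Fin m) ⊕ Fin 2 → F // Cfsg.quadFormMinus m F a b v = 0} = N at h ⊢
  obtain ⟨k, hk⟩ : ∃ k, Fintype.card F ^ m = k + 1 :=
    Nat.exists_eq_add_of_le' (Nat.one_le_pow _ _ Fintype.card_pos)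
  have key : Fintype.card F * N = Fintype.card F * ((Fintype.card F ^ (m + 1) + 1) * k + 1) := by
    apply Nat.add_right_cancel (m := Fintype.card F ^ (m + 2))
    rw [h]
    simp only [show 2 * m + 2 = m + (m + 2) by ring, pow_add, pow_succ, hk]
    ring
  rw [Nat.eq_of_mul_eq_mul_left Fintype.card_pos key, hk]
  simp

theorem card_isometry_plus (m : ℕ) :
    Nat.card (Cfsg.isometryGroup F (Cfsg.quadFormPlus (m + 1) F)) =
      2 * Fintype.card F ^ ((m + 1) * m) * (Fintype.card F ^ (m + 1) - 1) *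
        ∏ i ∈ Finset.range m, (Fintype.card F ^ (2 * (i + 1)) - 1) := by
  rw [card_isometryGroup]
  induction m with
  | zero =>
    obtain ⟨B, hB⟩ := exists_isQuadPair_plus (F := F) 0
    rw [card_step hB (plusSplit 0) (hypQ_plusSplit 0), card_zero_plus_pred]
    have : Subsingleton ((Fin 0 ⊕ Fin 0 → F) ≃ₗ[F] (Fin 0 ⊕ Fin 0 → F)) :=
      ⟨fun g h => LinearEquiv.ext fun v => Subsingleton.elim _ _⟩
    rw [Nat.card_of_subsingleton (0 : Fin 0 ⊕ Fin 0 → F),
      Nat.card_of_subsingleton (1 : isoGroup (Cfsg.quadFormPlus 0 F))]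
    simp; ring
  | succ m ih =>
    obtain ⟨B, hB⟩ := exists_isQuadPair_plus (F := F) (m + 1)
    rw [card_step hB (plusSplit (m + 1)) (hypQ_plusSplit (m + 1)), ih, card_zero_plus_pred, natCard_pow,
      Finset.prod_range_succ]
    simp only [Fintype.card_sum, Fintype.card_fin]
    rw [show Fintype.card F ^ (2 * (m + 1)) - 1 =
      (Fintype.card F ^ (m + 1) + 1) * (Fintype.card F ^ (m + 1) - 1) by rw [sq_pred_mul, ← pow_mul, mul_comm 2],
      show (m + 1 + 1) * (m + 1) = (m + 1) * m + (m + 1 + (m + 1)) by ring, pow_add]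
    ring

theorem card_isometry_minus {a b : F}
    (hab : ∀ z₁ z₂ : F, z₁ ^ 2 + a * z₁ * z₂ + b * z₂ ^ 2 = 0 → z₁ = 0 ∧ z₂ = 0) (m : ℕ) :
    Nat.card (Cfsg.isometryGroup F (Cfsg.quadFormMinus m F a b)) =
      2 * Fintype.card F ^ ((m + 1) * m) * (Fintype.card F ^ (m + 1) + 1) *
        ∏ i ∈ Finset.range m, (Fintype.card F ^ (2 * (i + 1)) - 1) := by
  rw [card_isometryGroup]
  induction m with
  | zero =>
    rw [card_isoGroup_congr minusBase (binQ_minusBase a b), card_isoGroup_bin hab]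
    simp
  | succ m ih =>
    obtain ⟨B, hB⟩ := exists_isQuadPair_minus hab m
    rw [card_step hB (minusSplit m) (hypQ_minusSplit m a b), ih, card_zero_minus_pred hab, natCard_pow,
      Finset.prod_range_succ]
    simp only [Fintype.card_sum, Fintype.card_fin]
    rw [show Fintype.card F ^ (2 * (m + 1)) - 1 =
      (Fintype.card F ^ (m + 1) + 1) * (Fintype.card F ^ (m + 1) - 1) by rw [sq_pred_mul, ← pow_mul, mul_comm 2],
      show (m + 1 + 1) * (m + 1) = (m + 1) * m + (m + m + 2) by ring, pow_add]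
    ring

end CfsgLib.ClassicalGroups
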