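import Mathlib

/-!
The eight sets of seven nondegenerate alternating forms on `F₂⁴`, pairwise with nondegenerate sum:
the eight letters of `A₈` seen inside `GL₄(2)`.
-/

set_option autoImplicit false
set_option synthInstance.maxSize 4000
set_option linter.unusedSimpArgs false

namespace CfsgLib.ClassicalGroups

open Matrix

/-- Code of an alternating form over `ZMod 2` by its six entries above the diagonal. -/
abbrev AltCode : Type := Bool × Bool × Bool × Bool × Bool × Bool

/-- A Boolean as an element of `ZMod 2`. -/
def boolBit (x : Bool) : ZMod 2 := if x then 1 else 0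

/-- The matrix of a code. -/
def altMat : AltCode → Matrix (Fin 4) (Fin 4) (ZMod 2)
  | (a, b, c, d, e, f) =>
    !![0, boolBit a, boolBit b, boolBit c; boolBit a, 0, boolBit d, boolBit e;
      boolBit b, boolBit d, 0, boolBit f; boolBit c, boolBit e, boolBit f, 0]

/-- The eight sets of codes. -/
def starList : Fin 8 → List AltCode :=
  ![[⟨false, false, true, true, false, false⟩, ⟨false, true, false, true, true, false⟩, ⟨false, true, true, false, true, true⟩, ⟨true, false, false, true, true, true⟩, ⟨true, false, true, false, false, true⟩, ⟨true, true, false, true, false, true⟩, ⟨true, true, true, false, true, false⟩],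
   [⟨false, false, true, true, false, false⟩, ⟨false, true, false, true, true, true⟩, ⟨false, true, true, false, true, false⟩, ⟨true, false, false, true, false, true⟩, ⟨true, false, true, false, true, true⟩, ⟨true, true, false, true, true, false⟩, ⟨true, true, true, false, false, true⟩],
   [⟨false, false, true, true, false, true⟩, ⟨false, true, false, true, true, false⟩, ⟨false, true, true, false, true, false⟩, ⟨true, false, false, false, true, true⟩, ⟨true, false, true, true, false, false⟩, ⟨true, true, false, false, false, true⟩, ⟨true, true, true, true, true, true⟩],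
   [⟨false, false, true, true, false, true⟩, ⟨false, true, false, true, true, true⟩, ⟨false, true, true, false, true, true⟩, ⟨true, false, false, false, false, true⟩, ⟨true, false, true, true, true, false⟩, ⟨true, true, false, false, true, false⟩, ⟨true, true, true, true, false, false⟩],
   [⟨false, false, true, true, true, false⟩, ⟨false, true, false, false, true, false⟩, ⟨false, true, true, true, false, true⟩, ⟨true, false, false, true, true, true⟩, ⟨true, false, true, false, true, true⟩, ⟨true, true, false, false, false, true⟩, ⟨true, true, true, true, false, false⟩],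
   [⟨false, false, true, true, true, false⟩, ⟨false, true, false, false, true, true⟩, ⟨false, true, true, true, false, false⟩, ⟨true, false, false, true, false, true⟩, ⟨true, false, true, false, false, true⟩, ⟨true, true, false, false, true, false⟩, ⟨true, true, true, true, true, true⟩],
   [⟨false, false, true, true, true, true⟩, ⟨false, true, false, false, true, false⟩, ⟨false, true, true, true, false, false⟩, ⟨true, false, false, false, true, true⟩, ⟨true, false, true, true, true, false⟩, ⟨true, true, false, true, false, true⟩, ⟨true, true, true, false, false, true⟩],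
   [⟨false, false, true, true, true, true⟩, ⟨false, true, false, false, true, true⟩, ⟨false, true, true, true, false, true⟩, ⟨true, false, false, false, false, true⟩, ⟨true, false, true, true, false, false⟩, ⟨true, true, false, true, true, false⟩, ⟨true, true, true, false, true, false⟩]]

/-- Row index of the six adjacent transvections. -/
def adjRow : Fin 6 → Fin 4 := ![0, 1, 2, 1, 2, 3]

/-- Column index of the six adjacent transvections. -/
def adjCol : Fin 6 → Fin 4 := ![1, 2, 3, 0, 1, 2]

/-- Their action on codes. -/
def adjAct : Fin 6 → AltCode → AltCode :=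
  ![fun (a, b, c, d, e, f) => (a, xor b d, xor c e, d, e, f),
    fun (a, b, c, d, e, f) => (xor a b, b, c, d, xor e f, f),
    fun (a, b, c, d, e, f) => (a, xor b c, c, xor d e, e, f),
    fun (a, b, c, d, e, f) => (a, b, c, xor d b, xor e c, f),
    fun (a, b, c, d, e, f) => (a, xor b a, c, d, e, xor f e),
    fun (a, b, c, d, e, f) => (a, b, xor c b, d, xor e d, f)]

/-- Their permutations of the eight sets. -/
def adjPerm : Fin 6 → Fin 8 → Fin 8 :=
  ![![5, 6, 4, 7, 2, 0, 1, 3], ![1, 0, 7, 6, 5, 4, 3, 2], ![6, 5, 4, 7, 2, 1, 0, 3],
    ![4, 5, 6, 7, 0, 1, 2, 3], ![1, 0, 3, 2, 7, 6, 5, 4], ![5, 4, 6, 7, 1, 0, 2, 3]]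

theorem boolBit_xor (x y : Bool) : boolBit (xor x y) = boolBit x + boolBit y := by
  cases x <;> cases y <;> decide

theorem altMat_adjAct : ∀ (k : Fin 6) (v : AltCode),
    Matrix.transvection (adjRow k) (adjCol k) 1 * altMat v * (Matrix.transvection (adjRow k) (adjCol k) 1)ᵀ =
      altMat (adjAct k v) := by
  intro k ⟨a, b, c, d, e, f⟩
  fin_cases k <;>
    (ext i j
     fin_cases i <;> fin_cases j <;>
       simp [altMat, adjAct, adjRow, adjCol, Matrix.transvection, Matrix.mul_apply, Fin.sum_univ_four,
         boolBit_xor, add_comm, CharTwo.add_self_eq_zero])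

theorem altMat_injective : Function.Injective altMat := by
  rintro ⟨a, b, c, d, e, f⟩ ⟨a', b', c', d', e', f'⟩ h
  have hb : ∀ x y, boolBit x = boolBit y → x = y := by decide
  have := hb _ _ (congrFun (congrFun h 0) 1)
  have := hb _ _ (congrFun (congrFun h 0) 2)
  have := hb _ _ (congrFun (congrFun h 0) 3)
  have := hb _ _ (congrFun (congrFun h 1) 2)
  have := hb _ _ (congrFun (congrFun h 1) 3)
  have := hb _ _ (congrFun (congrFun h 2) 3)
  simp_all

theorem adj_ne : ∀ k, adjRow k ≠ adjCol k := by decide

theorem starList_step : ∀ (k : Fin 6) (s : Fin 8), ∀ x ∈ starList s,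
    adjAct k x ∈ starList (adjPerm k s) := by
  decide +kernel

theorem starList_two : ∀ s : Fin 8, ∃ x ∈ starList s, ∃ y ∈ starList s, x ≠ y := by decide +kernel

theorem starList_inter : ∀ s t : Fin 8, s ≠ t →
    ∀ x ∈ starList s, x ∈ starList t → ∀ y ∈ starList s, y ∈ starList t → x = y := by
  decide +kernel

theorem starList_sympForm : ∀ s : Fin 8,
    (false, true, false, false, true, false) ∈ starList s ↔ (s = 4 ∨ s = 6) := by
  decide +kernel

end CfsgLib.ClassicalGroups
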