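import Mathlib
import Cfsg.Agent.Classical.SLBasic
import Cfsg.Agent.Classical.SLGen
import Cfsg.Agent.Lib.Sp.Card
import Cfsg.Agent.Lib.ClassicalGroups.ConfEight
import Cfsg.Agent.Lib.ClassicalGroups.PermModel

/-!
`SL₄(2) ≅ A₈` and `Sp₄(2) ≅ S₆`, through the eight sets of alternating forms.
-/

set_option autoImplicit false
set_option synthInstance.maxSize 4000

namespace CfsgLib.ClassicalGroups

open Matrix

/-- `g` maps the `s`-th set of forms into the `t`-th. -/
def StarRel (g : SpecialLinearGroup (Fin 4) (ZMod 2)) (s t : Fin 8) : Prop :=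
  ∀ x ∈ starList s, ∃ y ∈ starList t, g.1 * altMat x * g.1ᵀ = altMat y

theorem starRel_mul {g h : SpecialLinearGroup (Fin 4) (ZMod 2)} {s t u : Fin 8}
    (hh : StarRel h s t) (hg : StarRel g t u) : StarRel (g * h) s u := fun x hx => by
  obtain ⟨y, hy, e1⟩ := hh x hx
  obtain ⟨z, hz, e2⟩ := hg y hy
  refine ⟨z, hz, ?_⟩
  show (g.1 * h.1) * altMat x * (g.1 * h.1)ᵀ = _
  rw [← e2, ← e1, Matrix.transpose_mul]
  noncomm_ring

theorem starRel_one (s : Fin 8) : StarRel 1 s s := fun x hx => ⟨x, hx, by simp⟩

theorem starRel_unique {g : SpecialLinearGroup (Fin 4) (ZMod 2)} {s t u : Fin 8}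
    (ht : StarRel g s t) (hu : StarRel g s u) : t = u := by
  by_contra hne
  obtain ⟨x, hx, y, hy, hxy⟩ := starList_two s
  obtain ⟨x', hx', ex⟩ := ht x hx
  obtain ⟨x'', hx'', ex'⟩ := hu x hx
  obtain ⟨y', hy', ey⟩ := ht y hy
  obtain ⟨y'', hy'', ey'⟩ := hu y hy
  have hxx : x' = x'' := altMat_injective (ex.symm.trans ex')
  have hyy : y' = y'' := altMat_injective (ey.symm.trans ey')
  subst hxx hyy
  have := starList_inter t u hne x' hx' hx'' y' hy' hy''
  subst this
  have e := ex.trans ey.symm
  apply hxy
  apply altMat_injective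
  have hdet : IsUnit g.1 := by rw [Matrix.isUnit_iff_isUnit_det, g.2]; exact isUnit_one
  have hdetT : IsUnit g.1ᵀ := by rw [Matrix.isUnit_iff_isUnit_det, Matrix.det_transpose, g.2]; exact isUnit_one
  exact hdet.mul_left_cancel (hdetT.mul_right_cancel e)

theorem exists_starRel (g : SpecialLinearGroup (Fin 4) (ZMod 2)) (s : Fin 8) : ∃ t, StarRel g s t := by
  let M : Submonoid (SpecialLinearGroup (Fin 4) (ZMod 2)) :=
    { carrier := {g | ∀ s, ∃ t, StarRel g s t}
      one_mem' := fun s => ⟨s, starRel_one s⟩
      mul_mem' := fun {a b} ha hb s => by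
        obtain ⟨t, ht⟩ := hb s
        obtain ⟨u, hu⟩ := ha t
        exact ⟨u, starRel_mul ht hu⟩ }
  let H : Subgroup (SpecialLinearGroup (Fin 4) (ZMod 2)) :=
    { toSubmonoid := M
      inv_mem' := fun {a} ha => (by
        show a⁻¹ ∈ M
        rw [inv_eq_of_mul_eq_one_right (show a * a ^ (orderOf a - 1) = 1 by
          rw [← pow_succ', Nat.sub_add_cancel (orderOf_pos a), pow_orderOf_eq_one])]
        exact pow_mem ha _) }
  have hadj : ∀ (k : Fin 6) (c : ZMod 2),
      SpecialLinearGroup.transvection (adj_ne k) c ∈ H := by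
    intro k c
    rcases (show ∀ c : ZMod 2, c = 0 ∨ c = 1 by decide) c with rfl | rfl
    · rw [SpecialLinearGroup.transvection_coeff_zero]; exact H.one_mem
    · exact fun s => ⟨adjPerm k s, fun x hx => ⟨adjAct k x, starList_step k s x hx, altMat_adjAct k x⟩⟩
  have htr : ∀ {i j k : Fin 4} (hij : i ≠ j) (hik : i ≠ k) (hkj : k ≠ j),
      (∀ c, SpecialLinearGroup.transvection hik c ∈ H) → (∀ c, SpecialLinearGroup.transvection hkj c ∈ H) →
      ∀ c, SpecialLinearGroup.transvection hij c ∈ H := by
    intro i j k hij hik hkj h1 h2 c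
    rw [← mul_one c, ← Cfsg.Agent.Classical.commutator_transvection_transvection hij hik hkj, commutatorElement_def]
    exact H.mul_mem (H.mul_mem (H.mul_mem (h1 c) (h2 1)) (H.inv_mem (h1 c))) (H.inv_mem (h2 1))
  have h01 : ∀ (h : (0 : Fin 4) ≠ 1) c, SpecialLinearGroup.transvection h c ∈ H := fun _ c => hadj 0 c
  have h12 : ∀ (h : (1 : Fin 4) ≠ 2) c, SpecialLinearGroup.transvection h c ∈ H := fun _ c => hadj 1 c
  have h23 : ∀ (h : (2 : Fin 4) ≠ 3) c, SpecialLinearGroup.transvection h c ∈ H := fun _ c => hadj 2 c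
  have h10 : ∀ (h : (1 : Fin 4) ≠ 0) c, SpecialLinearGroup.transvection h c ∈ H := fun _ c => hadj 3 c
  have h21 : ∀ (h : (2 : Fin 4) ≠ 1) c, SpecialLinearGroup.transvection h c ∈ H := fun _ c => hadj 4 c
  have h32 : ∀ (h : (3 : Fin 4) ≠ 2) c, SpecialLinearGroup.transvection h c ∈ H := fun _ c => hadj 5 c
  have h02 : ∀ (h : (0 : Fin 4) ≠ 2) c, SpecialLinearGroup.transvection h c ∈ H := fun h =>
    htr h (by decide) (by decide) (h01 (by decide)) (h12 (by decide))
  have h13 : ∀ (h : (1 : Fin 4) ≠ 3) c, SpecialLinearGroup.transvection h c ∈ H := fun h =>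
    htr h (by decide) (by decide) (h12 (by decide)) (h23 (by decide))
  have h20 : ∀ (h : (2 : Fin 4) ≠ 0) c, SpecialLinearGroup.transvection h c ∈ H := fun h =>
    htr h (by decide) (by decide) (h21 (by decide)) (h10 (by decide))
  have h31 : ∀ (h : (3 : Fin 4) ≠ 1) c, SpecialLinearGroup.transvection h c ∈ H := fun h =>
    htr h (by decide) (by decide) (h32 (by decide)) (h21 (by decide))
  have h03 : ∀ (h : (0 : Fin 4) ≠ 3) c, SpecialLinearGroup.transvection h c ∈ H := fun h =>
    htr h (by decide) (by decide) (h02 (by decide)) (h23 (by decide))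
  have h30 : ∀ (h : (3 : Fin 4) ≠ 0) c, SpecialLinearGroup.transvection h c ∈ H := fun h =>
    htr h (by decide) (by decide) (h32 (by decide)) (h20 (by decide))
  have hall := Cfsg.Agent.Classical.sl_subgroup_eq_top_of_transvection_mem H (by
    intro i j hij c
    fin_cases i <;> fin_cases j
    all_goals first
      | exact absurd rfl hij
      | exact h01 hij c | exact h12 hij c | exact h23 hij c | exact h10 hij c | exact h21 hij c | exact h32 hij c
      | exact h02 hij c | exact h13 hij c | exact h20 hij c | exact h31 hij c | exact h03 hij c | exact h30 hij c)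
  exact (hall.symm ▸ Subgroup.mem_top g : g ∈ H) s

/-- The action of `SL₄(2)` on the eight sets. -/
noncomputable def starHom : SpecialLinearGroup (Fin 4) (ZMod 2) →* Equiv.Perm (Fin 8) :=
  have hm : ∀ g h s, (exists_starRel (g * h) s).choose = (exists_starRel g (exists_starRel h s).choose).choose :=
    fun g h s => starRel_unique (exists_starRel (g * h) s).choose_spec
      (starRel_mul (exists_starRel h s).choose_spec (exists_starRel g _).choose_spec)
  have h1 : ∀ s, (exists_starRel 1 s).choose = s :=
    fun s => starRel_unique (exists_starRel 1 s).choose_spec (starRel_one s)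
  MonoidHom.mk' (fun g => ⟨fun s => (exists_starRel g s).choose, fun s => (exists_starRel g⁻¹ s).choose,
    fun s => (hm g⁻¹ g s).symm.trans (by simp only [inv_mul_cancel, h1]),
    fun s => (hm g g⁻¹ s).symm.trans (by simp only [mul_inv_cancel, h1])⟩)
    (fun g h => Equiv.ext (hm g h))

theorem starHom_spec (g : SpecialLinearGroup (Fin 4) (ZMod 2)) (s : Fin 8) : StarRel g s (starHom g s) :=
  (exists_starRel g s).choose_spec

theorem center_sl_four_two : Subgroup.center (SpecialLinearGroup (Fin 4) (ZMod 2)) = ⊥ :=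
  Subgroup.eq_bot_of_card_eq _ (by rw [Cfsg.Agent.Classical.card_center_sl 4 (by norm_num)]; simp [ZMod.card])

theorem starHom_injective : Function.Injective starHom := by
  let e : ProjectiveSpecialLinearGroup (Fin 4) (ZMod 2) ≃* SpecialLinearGroup (Fin 4) (ZMod 2) :=
    (QuotientGroup.quotientMulEquivOfEq center_sl_four_two).trans QuotientGroup.quotientBot
  have hs := Cfsg.Agent.Classical.psl_isSimpleGroup (ι := Fin 4) (F := ZMod 2) (by simp)
  let φ : ProjectiveSpecialLinearGroup (Fin 4) (ZMod 2) →* Equiv.Perm (Fin 8) := starHom.comp e.toMonoidHom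
  have hφ : Function.Injective φ := by
    rw [← MonoidHom.ker_eq_bot_iff]
    rcases φ.normal_ker.eq_bot_or_eq_top with h | h
    · exact h
    exfalso
    have h1 : starHom (SpecialLinearGroup.transvection (adj_ne 0) 1) = 1 := by
      have : φ (e.symm (SpecialLinearGroup.transvection (adj_ne 0) 1)) = 1 := by
        rw [← MonoidHom.mem_ker, h]; exact Subgroup.mem_top _
      simpa [φ] using this
    have h2 := starHom_spec (SpecialLinearGroup.transvection (adj_ne 0) 1) 0
    rw [h1, Equiv.Perm.one_apply] at h2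
    have h3 : StarRel (SpecialLinearGroup.transvection (adj_ne 0) 1) 0 (adjPerm 0 0) :=
      fun x hx => ⟨adjAct 0 x, starList_step 0 0 x hx, altMat_adjAct 0 x⟩
    exact absurd (starRel_unique h2 h3) (by decide)
  intro a b hab
  apply e.symm.injective
  apply hφ
  simpa [φ] using hab

theorem card_sl_four_two : Nat.card (SpecialLinearGroup (Fin 4) (ZMod 2)) = 20160 := by
  have h := Cfsg.Agent.Classical.card_sl_mul (F := ZMod 2) 4 (by norm_num)
  rw [ZMod.card] at h
  norm_num [Fin.prod_univ_four, -Nat.card_eq_fintype_card] at h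
  exact h

theorem starHom_range : starHom.range = alternatingGroup (Fin 8) := by
  refine Equiv.Perm.eq_alternatingGroup_of_index_eq_two ?_
  have h := starHom.range.card_mul_index
  rw [← Nat.card_congr (MonoidHom.ofInjective starHom_injective).toEquiv, card_sl_four_two, Nat.card_perm,
    Nat.card_eq_fintype_card, Fintype.card_fin, show Nat.factorial 8 = 20160 * 2 from rfl] at h
  omega

theorem psl_four_two_alternating {F : Type*} [Field F] [Fintype F] (hF : Fintype.card F = 2) :
    Nonempty (ProjectiveSpecialLinearGroup (Fin 4) F ≃* alternatingGroup (Fin 8)) :=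
  ⟨((pslFieldCongr (ZMod.ringEquivOfPrime F Nat.prime_two hF)).symm.trans
    ((QuotientGroup.quotientMulEquivOfEq center_sl_four_two).trans QuotientGroup.quotientBot)).trans
    ((MonoidHom.ofInjective starHom_injective).trans (MulEquiv.subgroupCongr starHom_range))⟩

/-- Reindexing `Sp₄(2)` into `SL₄(2)`. -/
noncomputable def spFourToSL : symplecticGroup (Fin 2) (ZMod 2) →* SpecialLinearGroup (Fin 4) (ZMod 2) :=
  MonoidHom.mk' (fun g => ⟨Matrix.reindex finSumFinEquiv finSumFinEquiv g.1,
      by rw [Matrix.det_reindex_self]; exact SymplecticGroup.det_eq_one g.2⟩)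
    (fun g h => Subtype.ext (by
      show Matrix.reindex finSumFinEquiv finSumFinEquiv (g.1 * h.1) =
        Matrix.reindex finSumFinEquiv finSumFinEquiv g.1 * Matrix.reindex finSumFinEquiv finSumFinEquiv h.1
      simp only [Matrix.reindex_apply, Matrix.submatrix_mul_equiv]))

theorem spFourToSL_sympForm (g : symplecticGroup (Fin 2) (ZMod 2)) :
    (spFourToSL g).1 * altMat (false, true, false, false, true, false) * (spFourToSL g).1ᵀ =
      altMat (false, true, false, false, true, false) := by
  have hJ : altMat (false, true, false, false, true, false) =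
      Matrix.reindex finSumFinEquiv finSumFinEquiv (Matrix.J (Fin 2) (ZMod 2)) := by decide +kernel
  rw [hJ]
  show Matrix.reindex finSumFinEquiv finSumFinEquiv g.1 * _ *
    (Matrix.reindex finSumFinEquiv finSumFinEquiv g.1)ᵀ = _
  simp only [Matrix.reindex_apply, Matrix.transpose_submatrix, Matrix.submatrix_mul_equiv]
  rw [SymplecticGroup.mem_iff.1 g.2]

theorem sp_four_two_perm {F : Type*} [Field F] [Fintype F] (hF : Fintype.card F = 2) :
    Nonempty (symplecticGroup (Fin 2) F ≃* Equiv.Perm (Fin 6)) := by
  let π : symplecticGroup (Fin 2) (ZMod 2) →* Equiv.Perm (Fin 8) := starHom.comp spFourToSL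
  have hpres : ∀ g, ∀ s : Fin 8, (s = 4 ∨ s = 6) → (π g s = 4 ∨ π g s = 6) := by
    intro g s hs
    obtain ⟨y, hy, e⟩ := starHom_spec (spFourToSL g) s _ ((starList_sympForm s).2 hs)
    rw [spFourToSL_sympForm] at e
    exact (starList_sympForm _).1 (altMat_injective e ▸ hy)
  have hiff : ∀ g, ∀ s : Fin 8, (¬(π g s = 4 ∨ π g s = 6)) ↔ ¬(s = 4 ∨ s = 6) := by
    intro g s
    refine not_congr ⟨fun h => ?_, hpres g s⟩
    have h4 := hpres g 4 (Or.inl rfl)
    have h6 := hpres g 6 (Or.inr rfl)
    have hne : π g 4 ≠ π g 6 := fun h => absurd ((π g).injective h) (by decide)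
    by_contra hs
    push Not at hs
    have n4 : π g s ≠ π g 4 := fun h => hs.1 ((π g).injective h)
    have n6 : π g s ≠ π g 6 := fun h => hs.2 ((π g).injective h)
    rcases h4 with a | a <;> rcases h6 with b | b <;> rcases h with c | c <;>
      first | exact hne (a.trans b.symm) | exact n4 (c.trans a.symm) | exact n6 (c.trans b.symm)
  let six := {s : Fin 8 // ¬(s = 4 ∨ s = 6)}
  let e6 : six ≃ Fin 6 := Fintype.equivFinOfCardEq (by decide)
  let r : symplecticGroup (Fin 2) (ZMod 2) →* Equiv.Perm six :=
    MonoidHom.mk' (fun g => Equiv.Perm.subtypePerm (π g) (hiff g)) (fun g h => Equiv.ext fun x => Subtype.ext (by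
      show π (g * h) x.1 = π g (π h x.1)
      rw [map_mul]; rfl))
  let φ : symplecticGroup (Fin 2) (ZMod 2) →* Equiv.Perm (Fin 6) := e6.permCongrHom.toMonoidHom.comp r
  have hinj : Function.Injective r := by
    rw [injective_iff_map_eq_one]
    intro g hg
    have hfix : ∀ s, ¬(s = 4 ∨ s = 6) → π g s = s := fun s hs =>
      congrArg (fun p : Equiv.Perm six => (p ⟨s, hs⟩).1) hg
    have hsw : π g = 1 ∨ π g = Equiv.swap 4 6 := by
      rcases hpres g 4 (Or.inl rfl) with a | a
      · left
        refine Equiv.ext fun s => ?_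
        by_cases hs : s = 4 ∨ s = 6
        · rcases hs with rfl | rfl
          · exact a
          · rcases hpres g 6 (Or.inr rfl) with b | b
            · exact absurd ((π g).injective (a.trans b.symm)) (by decide)
            · exact b
        · exact hfix s hs
      · right
        refine Equiv.ext fun s => ?_
        by_cases hs : s = 4 ∨ s = 6
        · rcases hs with rfl | rfl
          · rw [a]; rfl
          · rcases hpres g 6 (Or.inr rfl) with b | b
            · rw [b]; rfl
            · exact absurd ((π g).injective (a.trans b.symm)) (by decide)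
        · rw [hfix s hs, Equiv.swap_apply_of_ne_of_ne (fun h => hs (Or.inl h)) (fun h => hs (Or.inr h))]
    have h1 : spFourToSL g = 1 := by
      rcases hsw with h | h
      · exact starHom_injective (by rw [map_one]; exact h)
      · exfalso
        have hm : π g ∈ alternatingGroup (Fin 8) := starHom_range ▸ ⟨_, rfl⟩
        rw [h, Equiv.Perm.mem_alternatingGroup, Equiv.Perm.sign_swap (by decide)] at hm
        exact absurd hm (by decide)
    apply Subtype.ext
    apply (Matrix.reindex finSumFinEquiv finSumFinEquiv).injective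
    rw [show Matrix.reindex finSumFinEquiv finSumFinEquiv g.1 = (spFourToSL g).1 from rfl, h1]
    exact (Matrix.submatrix_one_equiv _).symm
  have hb : Function.Bijective φ := by
    rw [Nat.bijective_iff_injective_and_card]
    refine ⟨e6.permCongrHom.injective.comp hinj, ?_⟩
    rw [CfsgLib.Sp.card_symplecticGroup (ZMod.card 2), Nat.card_perm, Nat.card_eq_fintype_card, Fintype.card_fin]
    rfl
  let f : ZMod 2 ≃+* F := ZMod.ringEquivOfPrime F Nat.prime_two hF
  let eSp : symplecticGroup (Fin 2) (ZMod 2) ≃* symplecticGroup (Fin 2) F :=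
    { toFun := fun g => ⟨g.1.map f, SymplecticGroup.map_mem g.2 f⟩
      invFun := fun g => ⟨g.1.map f.symm, SymplecticGroup.map_mem g.2 f.symm⟩
      left_inv := fun g => Subtype.ext (Matrix.ext fun _ _ => f.symm_apply_apply _)
      right_inv := fun g => Subtype.ext (Matrix.ext fun _ _ => f.apply_symm_apply _)
      map_mul' := fun g h => Subtype.ext (Matrix.map_mul) }
  exact ⟨eSp.symm.trans (MulEquiv.ofBijective φ hb)⟩

end CfsgLib.ClassicalGroups
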