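import Mathlib

/-!
Three points of the projective line: `PGL₂` is sharply 3-transitive; `SL₂` is 3-transitive
exactly in characteristic two (finite fields).
-/

set_option autoImplicit false

namespace CfsgLib.ClassicalGroups.ProjLine

open Matrix Projectivization
open scoped LinearAlgebra.Projectivization MatrixGroups

variable {F : Type*} [Field F]

/-- The vector `(x, y)`. -/
abbrev vec (x y : F) : Fin 2 → F := ![x, y]

theorem vec_ne {x y : F} (h : x ≠ 0 ∨ y ≠ 0) : vec x y ≠ 0 := fun h0 => by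
  rcases h with h | h
  · exact h (congrFun h0 0)
  · exact h (congrFun h0 1)

/-- The standard points `0`, `∞`, `1`. -/
def std : Fin 3 → ℙ F (Fin 2 → F) :=
  ![mk F (vec 1 0) (vec_ne (.inl one_ne_zero)), mk F (vec 0 1) (vec_ne (.inr one_ne_zero)),
    mk F (vec 1 1) (vec_ne (.inl one_ne_zero))]

theorem cross_ne_zero {v w : Fin 2 → F} (hv : v ≠ 0) (hw : w ≠ 0) (h : mk F v hv ≠ mk F w hw) :
    v 0 * w 1 - v 1 * w 0 ≠ 0 := by
  intro hd
  apply h
  rw [mk_eq_mk_iff']
  by_cases h0 : w 0 = 0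
  · have h1 : w 1 ≠ 0 := fun h1 => hw (funext fun i => by fin_cases i <;> assumption)
    refine ⟨v 1 / w 1, ?_⟩
    funext i
    fin_cases i
    · show v 1 / w 1 * w 0 = v 0
      have : v 0 = 0 := by simpa [h0, h1] using hd
      rw [h0, this, mul_zero]
    · show v 1 / w 1 * w 1 = v 1
      rw [div_mul_cancel₀ _ h1]
  · refine ⟨v 0 / w 0, ?_⟩
    funext i
    fin_cases i
    · show v 0 / w 0 * w 0 = v 0
      rw [div_mul_cancel₀ _ h0]
    · show v 0 / w 0 * w 1 = v 1
      field_simp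
      linear_combination hd

theorem exists_gl (a b c : ℙ F (Fin 2 → F)) (hab : a ≠ b) (hac : a ≠ c) (hbc : b ≠ c) :
    ∃ g : GL (Fin 2) F, g • std 0 = a ∧ g • std 1 = b ∧ g • std 2 = c := by
  induction a using Projectivization.ind with | _ va ha => ?_
  induction b using Projectivization.ind with | _ vb hb => ?_
  induction c using Projectivization.ind with | _ vc hc => ?_
  have hD := cross_ne_zero ha hb hab
  have hA := cross_ne_zero hb hc hbc
  have hB := cross_ne_zero ha hc hac
  set D := va 0 * vb 1 - va 1 * vb 0 with hDdef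
  set α := (vc 0 * vb 1 - vc 1 * vb 0) / D with hα
  set β := (va 0 * vc 1 - va 1 * vc 0) / D with hβ
  have hα0 : α ≠ 0 := div_ne_zero (fun h => hA (by linear_combination -h)) hD
  have hβ0 : β ≠ 0 := div_ne_zero hB hD
  let g : GL (Fin 2) F := GeneralLinearGroup.mkOfDetNeZero
    !![α * va 0, β * vb 0; α * va 1, β * vb 1] (by
      rw [det_fin_two]
      simp
      intro h
      exact (mul_ne_zero (mul_ne_zero hα0 hβ0) hD) (by rw [hDdef]; linear_combination h))
  have hg : ∀ x y i, ((g • vec x y : Fin 2 → F)) i = α * va i * x + β * vb i * y := by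
    intro x y i
    show (g.1 • vec x y) i = _
    rw [Matrix.smul_eq_mulVec]
    fin_cases i <;> simp [g, Matrix.mulVec, dotProduct, Fin.sum_univ_two]
  refine ⟨g, ?_, ?_, ?_⟩ <;>
    simp only [std, Matrix.cons_val_zero, Matrix.cons_val_one, Matrix.cons_val, smul_mk, mk_eq_mk_iff']
  · exact ⟨α, funext fun i => by simp [hg]⟩
  · exact ⟨β, funext fun i => by simp [hg]⟩
  · refine ⟨1, funext fun i => ?_⟩
    rw [one_smul, hg, hα, hβ]
    fin_cases i <;> simp <;> field_simp <;> rw [hDdef] <;> ring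

theorem eq_scalar_of_fix {g : GL (Fin 2) F} (h : ∀ i, g • std i = std (F := F) i) :
    ∃ u : Fˣ, GeneralLinearGroup.scalar (Fin 2) u = g := by
  have h0 := h 0
  have h1 := h 1
  have h2 := h 2
  simp only [std, Matrix.cons_val_zero, Matrix.cons_val_one, Matrix.cons_val, smul_mk,
    mk_eq_mk_iff'] at h0 h1 h2
  obtain ⟨a, ha⟩ := h0
  obtain ⟨b, hb⟩ := h1
  obtain ⟨c, hc⟩ := h2
  have ha0 := congrFun ha 0
  have ha1 := congrFun ha 1
  have hb0 := congrFun hb 0
  have hb1 := congrFun hb 1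
  have hc0 := congrFun hc 0
  have hc1 := congrFun hc 1
  simp [Units.smul_def, Matrix.smul_eq_mulVec, Matrix.mulVec, dotProduct, Fin.sum_univ_two]
    at ha0 ha1 hb0 hb1 hc0 hc1
  have hd := GeneralLinearGroup.det_ne_zero g
  rw [det_fin_two] at hd
  simp [← ha1, ← hb0] at hc0 hc1 hd
  refine ⟨Units.mk0 c (fun h => hd.1 (hc0.symm.trans h)), Units.ext ?_⟩
  ext i j
  fin_cases i <;> fin_cases j <;>
    simp [GeneralLinearGroup.coe_scalar, Matrix.scalar_apply, ← ha1, ← hb0, ← hc0, ← hc1]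

theorem pgl_pretransitive :
    MulAction.IsMultiplyPretransitive (ProjGenLinGroup (Fin 2) F) (ℙ F (Fin 2 → F)) 3 := by
  have hne : ∀ x : Fin 3 ↪ ℙ F (Fin 2 → F),
      ∃ g : GL (Fin 2) F, ∀ i, g • std i = x i := fun x => by
    obtain ⟨g, h0, h1, h2⟩ := exists_gl (x 0) (x 1) (x 2)
      (x.injective.ne (by decide)) (x.injective.ne (by decide)) (x.injective.ne (by decide))
    exact ⟨g, Fin.forall_fin_succ.2 ⟨h0, Fin.forall_fin_two.2 ⟨h1, h2⟩⟩⟩
  refine ⟨fun x y => ?_⟩
  obtain ⟨g, hg⟩ := hne x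
  obtain ⟨k, hk⟩ := hne y
  refine ⟨ProjGenLinGroup.mk (k * g⁻¹), Function.Embedding.ext fun i => ?_⟩
  show (ProjGenLinGroup.mk (k * g⁻¹) : ProjGenLinGroup (Fin 2) F) • x i = y i
  rw [← hg i, ← hk i, map_mul, mul_smul]
  show (k • (g⁻¹ • (g • std (F := F) i))) = k • std i
  rw [inv_smul_smul]

theorem pgl_sharp (g : ProjGenLinGroup (Fin 2) F) (a b c : ℙ F (Fin 2 → F)) (hab : a ≠ b)
    (hac : a ≠ c) (hbc : b ≠ c) (ha : g • a = a) (hb : g • b = b) (hc : g • c = c) : g = 1 := by
  induction g using ProjGenLinGroup.induction_on with | mk g => ?_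
  obtain ⟨k, h0, h1, h2⟩ := exists_gl a b c hab hac hbc
  change g • a = a at ha
  change g • b = b at hb
  change g • c = c at hc
  have hfix : ∀ i, (k⁻¹ * g * k) • std i = std (F := F) i := by
    refine Fin.forall_fin_succ.2 ⟨?_, Fin.forall_fin_two.2 ⟨?_, ?_⟩⟩
    · rw [mul_smul, mul_smul, h0, ha, ← h0, inv_smul_smul]
    · show (k⁻¹ * g * k) • std (F := F) 1 = _
      rw [mul_smul, mul_smul, h1, hb, ← h1, inv_smul_smul]; rfl
    · show (k⁻¹ * g * k) • std (F := F) 2 = _
      rw [mul_smul, mul_smul, h2, hc, ← h2, inv_smul_smul]; rfl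
  obtain ⟨u, hu⟩ := eq_scalar_of_fix hfix
  have hc : GeneralLinearGroup.scalar (Fin 2) u ∈ Subgroup.center (GL (Fin 2) F) := by
    rw [GeneralLinearGroup.center_eq_range_scalar]; exact ⟨u, rfl⟩
  have hg : g = GeneralLinearGroup.scalar (Fin 2) u := by
    calc g = k * (k⁻¹ * g * k) * k⁻¹ := by group
      _ = k * GeneralLinearGroup.scalar (Fin 2) u * k⁻¹ := by rw [hu]
      _ = GeneralLinearGroup.scalar (Fin 2) u := by
        rw [Subgroup.mem_center_iff.1 hc k, mul_inv_cancel_right]
  rw [hg]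
  exact (QuotientGroup.eq_one_iff _).2 hc

theorem sl_pretransitive_iff [Fintype F] :
    MulAction.IsMultiplyPretransitive (SpecialLinearGroup (Fin 2) F) (ℙ F (Fin 2 → F)) 3 ↔
      ringChar F = 2 := by
  constructor
  · intro hT
    by_contra hF
    obtain ⟨s, hs⟩ := FiniteField.exists_nonsquare hF
    have hs0 : s ≠ 0 := fun h => hs (h ▸ IsSquare.zero)
    have hs1 : s ≠ 1 := fun h => hs (h ▸ IsSquare.one)
    let y : Fin 3 → ℙ F (Fin 2 → F) :=
      ![mk F (vec 1 0) (vec_ne (.inl one_ne_zero)), mk F (vec 0 1) (vec_ne (.inr one_ne_zero)),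
        mk F (vec 1 s) (vec_ne (.inl one_ne_zero))]
    have hstd : Function.Injective (std (F := F)) := by
      intro i j h
      fin_cases i <;> fin_cases j <;> simp [std, mk_eq_mk_iff'] at h ⊢
    have hy : Function.Injective y := by
      intro i j h
      fin_cases i <;> fin_cases j <;> simp [y, mk_eq_mk_iff', hs0, Ne.symm hs0] at h ⊢
    obtain ⟨g, hg⟩ := hT.exists_smul_eq ⟨std, hstd⟩ ⟨y, hy⟩
    have hi : ∀ i, g • std i = y i := fun i => congrFun (congrArg DFunLike.coe hg) i
    have h0 := hi 0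
    have h1 := hi 1
    have h2 := hi 2
    simp only [std, y, Matrix.cons_val_zero, Matrix.cons_val_one, Matrix.cons_val, smul_mk,
      mk_eq_mk_iff'] at h0 h1 h2
    obtain ⟨a, ha⟩ := h0
    obtain ⟨b, hb⟩ := h1
    obtain ⟨c, hc⟩ := h2
    have e10 : g.1 1 0 = 0 := by
      have := congrFun ha 1
      change _ = (g.1 • vec (1 : F) 0) 1 at this
      simpa [Matrix.smul_eq_mulVec, Matrix.mulVec, dotProduct, Fin.sum_univ_two] using this.symm
    have e01 : g.1 0 1 = 0 := by
      have := congrFun hb 0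
      change _ = (g.1 • vec (0 : F) 1) 0 at this
      simpa [Matrix.smul_eq_mulVec, Matrix.mulVec, dotProduct, Fin.sum_univ_two] using this.symm
    have e0 : g.1 0 0 = c := by
      have := congrFun hc 0
      change _ = (g.1 • vec (1 : F) 1) 0 at this
      simpa [Matrix.smul_eq_mulVec, Matrix.mulVec, dotProduct, Fin.sum_univ_two, e01] using this.symm
    have e1 : g.1 1 1 = c * s := by
      have := congrFun hc 1
      change _ = (g.1 • vec (1 : F) 1) 1 at this
      simpa [Matrix.smul_eq_mulVec, Matrix.mulVec, dotProduct, Fin.sum_univ_two, e10] using this.symm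
    have hd := g.2
    rw [det_fin_two, e10, e01, e0, e1, mul_zero, sub_zero] at hd
    have hc0 : c ≠ 0 := fun h => by simp [h] at hd
    exact hs ⟨c⁻¹, by field_simp; linear_combination hd⟩
  · intro hF
    refine ⟨fun x y => ?_⟩
    obtain ⟨k, hk⟩ := (pgl_pretransitive (F := F)).exists_smul_eq x y
    induction k using ProjGenLinGroup.induction_on with | mk k => ?_
    obtain ⟨r, hr⟩ := FiniteField.isSquare_of_char_two hF k.val.det⁻¹
    obtain ⟨k', hk'⟩ : ∃ k' : SpecialLinearGroup (Fin 2) F, k'.1 = r • k.val :=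
      ⟨⟨r • k.val, by
        rw [det_smul, Fintype.card_fin, pow_two, ← hr,
          inv_mul_cancel₀ (GeneralLinearGroup.det_ne_zero k)]⟩, rfl⟩
    refine ⟨k', Function.Embedding.ext fun i => ?_⟩
    have hi : k • x i = y i := congrFun (congrArg DFunLike.coe hk) i
    show k' • x i = y i
    rw [← hi]
    induction x i using Projectivization.ind with | _ v hv => ?_
    rw [matrixSpecialLinearGroup_smul_def, smul_mk, smul_mk, mk_eq_mk_iff']
    refine ⟨r, ?_⟩
    show r • (k.val • v) = Matrix.toLin' k'.1 v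
    rw [Matrix.toLin'_apply, Matrix.smul_eq_mulVec, hk', Matrix.smul_mulVec]

end CfsgLib.ClassicalGroups.ProjLine
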