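import Mathlib
import Cfsg.Agent.Lib.ClassicalGroups.HermGroup
import Cfsg.Agent.Lib.ClassicalGroups.HermCount
import Cfsg.Agent.Lib.ClassicalGroups.UnitaryBasic
import Cfsg.Agent.Lib.UnitaryEmbed.Herm

/-!
Involutions of `SU_3(q)`, `q` odd, as non-isotropic points, and their commuting graph.
-/

set_option autoImplicit false
set_option linter.unusedSectionVars false

namespace CfsgLib.SUThreeInv

open Matrix CfsgLib.ClassicalGroups

variable {F : Type*} [Field F] [Fintype F] {q : ℕ}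

local notation "𝐡" => Cfsg.hermForm 3 F q

theorem two_ne_zero_of_odd (hq : Odd q) (hF : Fintype.card F = q ^ 2) : (2 : F) ≠ 0 := by
  apply Ring.two_ne_zero
  intro hch
  have h := FiniteField.even_card_of_char_two hch
  rw [hF] at h
  have := Nat.odd_iff.1 hq
  rw [Nat.pow_mod, this] at h
  simp at h

/-- The matrix of the involution fixing the point of `v`. -/
def rmat (q : ℕ) (v : Fin 3 → F) : Matrix (Fin 3) (Fin 3) F :=
  -1 + vecMulVec ((2 : F) • v) fun j => v j ^ q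

theorem rmat_mulVec (v x : Fin 3 → F) : rmat q v *ᵥ x = -x + (2 * 𝐡 x v) • v := by
  have hb : ((fun j => v j ^ q) : Fin 3 → F) ⬝ᵥ x = 𝐡 x v := by
    simp [dotProduct, Cfsg.hermForm, mul_comm]
  rw [rmat, add_mulVec, neg_mulVec, one_mulVec, vecMulVec_mulVec, hb]
  ext i
  simp
  ring

variable (hq : Odd q) (hF : Fintype.card F = q ^ 2)
include hF

include hq in
theorem exists_rv (v : Fin 3 → F) (hv : 𝐡 v v = 1) :
    ∃ r : Cfsg.SU 3 F q, ∀ x, r.1.1 *ᵥ x = -x + (2 * 𝐡 x v) • v := by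
  have hdet : (rmat q v).det = 1 := by
    have h1 : v 0 * v 0 ^ q + v 1 * v 1 ^ q + v 2 * v 2 ^ q = 1 := by
      simpa [Cfsg.hermForm, Fin.sum_univ_three] using hv
    rw [det_fin_three]
    simp [rmat, vecMulVec_apply, one_apply]
    linear_combination (2 : F) * h1
  refine ⟨⟨⟨rmat q v, hdet⟩, fun x y => ?_⟩, rmat_mulVec v⟩
  show 𝐡 (rmat q v *ᵥ x) (rmat q v *ᵥ y) = _
  rw [rmat_mulVec, rmat_mulVec]
  obtain ⟨τ, hτ, -, hτ2⟩ := CfsgLib.UnitaryEmbed.exists_conj (K := F) (q := q) hF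
  simp only [← CfsgLib.UnitaryEmbed.hermSesq_apply τ hτ] at hv ⊢
  simp only [map_add, map_neg, map_smulₛₗ, LinearMap.add_apply, LinearMap.neg_apply, LinearMap.smul_apply,
    smul_eq_mul, RingHom.id_apply, map_mul, hv, CfsgLib.UnitaryEmbed.hermSesq_symm τ hτ2, map_ofNat]
  ring

/-- The involution of a vector of norm one. -/
noncomputable def rv (v : {v : Fin 3 → F // 𝐡 v v = 1}) : Cfsg.SU 3 F q :=
  (exists_rv hq hF v.1 v.2).choose

theorem rv_apply (v : {v : Fin 3 → F // 𝐡 v v = 1}) (x : Fin 3 → F) :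
    (rv hq hF v).1.1 *ᵥ x = -x + (2 * 𝐡 x v.1) • v.1 :=
  (exists_rv hq hF v.1 v.2).choose_spec x

omit hF in
theorem su_mul_apply (a b : Cfsg.SU 3 F q) (x : Fin 3 → F) : (a * b).1.1 *ᵥ x = a.1.1 *ᵥ (b.1.1 *ᵥ x) :=
  (mulVec_mulVec x a.1.1 b.1.1).symm

omit hF in
theorem su_ext {a b : Cfsg.SU 3 F q} (h : ∀ x, a.1.1 *ᵥ x = b.1.1 *ᵥ x) : a = b :=
  Subtype.ext (Subtype.ext (Matrix.ext_of_mulVec_single fun j => h _))

theorem rv_self (v : {v : Fin 3 → F // 𝐡 v v = 1}) : (rv hq hF v).1.1 *ᵥ v.1 = v.1 := by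
  rw [rv_apply, v.2, mul_one, two_smul]; abel

omit hF in
theorem hsmul_left (c : F) (u v : Fin 3 → F) : 𝐡 (c • u) v = c * 𝐡 u v := hermForm_smul_left 3 c u v

omit hF in
theorem hsmul_self {c : F} {v : Fin 3 → F} (hv : 𝐡 v v = 1) : 𝐡 (c • v) (c • v) = c ^ (q + 1) := by
  rw [hermForm_smul_left, hermForm_smul_right, hv, mul_one, pow_succ']

theorem rv_mul_self (v : {v : Fin 3 → F // 𝐡 v v = 1}) : rv hq hF v * rv hq hF v = 1 := by
  refine su_ext fun x => ?_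
  rw [su_mul_apply, rv_apply, rv_apply, hermForm_add_left, hsmul_left, v.2]
  have h : 𝐡 (-x) v.1 = -𝐡 x v.1 := by rw [← neg_one_smul F x, hsmul_left]; ring
  rw [h]
  simp only [OneMemClass.coe_one, Matrix.SpecialLinearGroup.coe_one, one_mulVec]
  module

theorem exists_perp (v : {v : Fin 3 → F // 𝐡 v v = 1}) :
    ∃ g : Cfsg.GU 3 F q, g.1.val *ᵥ Pi.single 0 1 = v.1 :=
  exists_GU_map_norm_one hF _ _ (by rw [hermForm_single_right hF]; simp) v.2

theorem coord_zero (g : Cfsg.GU 3 F q) (x : Fin 3 → F) :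
    𝐡 (g.1.val *ᵥ x) (g.1.val *ᵥ Pi.single 0 1) = x 0 := by
  rw [mem_GU_iff.1 g.2, hermForm_single_right hF]

omit hF in
theorem gu_surj (g : Cfsg.GU 3 F q) (w : Fin 3 → F) : ∃ x, g.1.val *ᵥ x = w :=
  ⟨(g.1⁻¹).val *ᵥ w, by rw [mulVec_mulVec, ← Units.val_mul, mul_inv_cancel, Units.val_one, one_mulVec]⟩

omit hF in
theorem gu_inj (g : Cfsg.GU 3 F q) {x y : Fin 3 → F} (h : g.1.val *ᵥ x = g.1.val *ᵥ y) : x = y := by
  have h' := congrArg ((g.1⁻¹).val *ᵥ ·) h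
  simpa [mulVec_mulVec, ← Units.val_mul] using h'

theorem rv_ne_one (v : {v : Fin 3 → F // 𝐡 v v = 1}) : rv hq hF v ≠ 1 := by
  intro h
  obtain ⟨g, hg⟩ := exists_perp hF v
  have h1 := congrArg (fun a : Cfsg.SU 3 F q => a.1.1 *ᵥ (g.1.val *ᵥ Pi.single 1 1)) h
  simp only [rv_apply] at h1
  rw [← hg, coord_zero hF] at h1
  simp at h1
  have h2 : (2 : F) • (g.1.val *ᵥ Pi.single 1 1) = 0 := by
    rw [two_smul]; simpa using eq_neg_iff_add_eq_zero.1 (by simpa using h1.symm)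
  rcases smul_eq_zero.1 h2 with h3 | h3
  · exact two_ne_zero_of_odd hq hF h3
  · have := gu_inj g (h3.trans (mulVec_zero _).symm)
    simpa using congrFun this 1

include hq in
/-- Every involution comes from a point. -/
theorem exists_eq_rv (t : Cfsg.SU 3 F q) (ht : t ≠ 1) (ht2 : t * t = 1) : ∃ v, rv hq hF v = t := by
  have h2 := two_ne_zero_of_odd hq hF
  have htt : ∀ x, t.1.1 *ᵥ (t.1.1 *ᵥ x) = x := fun x => by
    rw [← su_mul_apply, ht2]; simp
  have hpres : ∀ x y, 𝐡 (t.1.1 *ᵥ x) (t.1.1 *ᵥ y) = 𝐡 x y := fun x y => t.2 x y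
  obtain ⟨u, hu⟩ : ∃ x, 𝐡 (x + t.1.1 *ᵥ x) (x + t.1.1 *ᵥ x) ≠ 0 := by
    by_contra hall
    push Not at hall
    obtain ⟨τ, hτ, hτne, hτ2⟩ := CfsgLib.UnitaryEmbed.exists_conj (K := F) (q := q) hF
    obtain ⟨l, hl⟩ : ∃ l, τ l ≠ l := by
      by_contra h; push Not at h; exact hτne (RingHom.ext h)
    simp only [← CfsgLib.UnitaryEmbed.hermSesq_apply τ hτ] at hall hpres
    set B := CfsgLib.UnitaryEmbed.hermSesq 3 τ
    have hzero : ∀ x y, B (x + t.1.1 *ᵥ x) (y + t.1.1 *ᵥ y) = 0 := by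
      intro x y
      have e1 := hall (x + y)
      have e2 := hall (l • x + y)
      simp only [mulVec_add, mulVec_smul, map_add, map_smulₛₗ, LinearMap.add_apply, LinearMap.smul_apply,
        smul_eq_mul, RingHom.id_apply] at e1 e2
      have hx := hall x
      have hy := hall y
      simp only [map_add, LinearMap.add_apply] at hx hy ⊢
      have h3 : (τ l - l) * (B x y + B x (t.1.1 *ᵥ y) + (B (t.1.1 *ᵥ x) y + B (t.1.1 *ᵥ x) (t.1.1 *ᵥ y))) = 0 := by
        linear_combination e2 - l * e1 - (l * τ l - l) * hx - (1 - l) * hy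
      linear_combination (mul_eq_zero.1 h3).resolve_left (sub_ne_zero.2 hl)
    have hneg : ∀ x, t.1.1 *ᵥ x = -x := by
      intro x
      have h : x + t.1.1 *ᵥ x = 0 := by
        refine CfsgLib.UnitaryEmbed.hermSesq_separatingLeft τ _ fun y => ?_
        have h1 := hzero x y
        have h5 := hpres y (x + t.1.1 *ᵥ x)
        rw [mulVec_add, htt, add_comm] at h5
        rw [map_add (B (x + t.1.1 *ᵥ x)), h5, ← two_mul] at h1
        exact (mul_eq_zero.1 h1).resolve_left h2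
      exact eq_neg_of_add_eq_zero_right h
    have hm : t.1.1 = -1 := Matrix.ext_of_mulVec_single fun j => by rw [hneg, neg_mulVec, one_mulVec]
    have hd := t.1.2
    rw [hm, det_neg, det_one, Fintype.card_fin] at hd
    exact h2 (by linear_combination -hd)
  obtain ⟨c, hc0, hc⟩ := exists_norm_eq hF (hermForm_self_conj hF 3 (u + t.1.1 *ᵥ u)) hu
  set v : Fin 3 → F := c⁻¹ • (u + t.1.1 *ᵥ u) with hvdef
  have hv : 𝐡 v v = 1 := by
    rw [hvdef, hermForm_smul_left, hermForm_smul_right, ← mul_assoc, ← pow_succ', inv_pow, hc,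
      inv_mul_cancel₀ hu]
  have htv : t.1.1 *ᵥ v = v := by rw [hvdef, mulVec_smul, mulVec_add, htt, add_comm]
  refine ⟨⟨v, hv⟩, ?_⟩
  obtain ⟨g, hg⟩ := exists_perp hF ⟨v, hv⟩
  simp only at hg
  set M : Matrix (Fin 3) (Fin 3) F := (g.1⁻¹).val * t.1.1 * g.1.val with hM
  have hgM : ∀ x, g.1.val *ᵥ (M *ᵥ x) = t.1.1 *ᵥ (g.1.val *ᵥ x) := fun x => by
    rw [hM, mulVec_mulVec, mulVec_mulVec, ← mul_assoc, ← mul_assoc, ← Units.val_mul, mul_inv_cancel,
      Units.val_one, one_mul]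
  have hM0 : M *ᵥ Pi.single 0 1 = Pi.single 0 1 := gu_inj g (by rw [hgM, hg, htv])
  have hrow : ∀ x, (M *ᵥ x) 0 = x 0 := fun x => by
    rw [← coord_zero hF g (M *ᵥ x), hgM, ← coord_zero hF g x]
    conv_lhs => rw [hg, ← htv, ← hg, hpres]
  have hMM : M * M = 1 := Matrix.ext_of_mulVec_single fun j => by
    rw [one_mulVec]
    apply gu_inj g
    rw [← mulVec_mulVec, hgM, hgM, htt]
  have hdet : M.det = 1 := by
    rw [hM, det_mul, det_mul, t.1.2, mul_one, ← det_mul, ← Units.val_mul, inv_mul_cancel, Units.val_one,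
      det_one]
  have c00 : M 0 0 = 1 := by simpa [mulVec_single_one] using congrFun hM0 0
  have c10 : M 1 0 = 0 := by simpa [mulVec_single_one] using congrFun hM0 1
  have c20 : M 2 0 = 0 := by simpa [mulVec_single_one] using congrFun hM0 2
  have c01 : M 0 1 = 0 := by simpa [mulVec_single_one] using hrow (Pi.single 1 1)
  have c02 : M 0 2 = 0 := by simpa [mulVec_single_one] using hrow (Pi.single 2 1)
  have e11 : M 1 1 * M 1 1 + M 1 2 * M 2 1 = 1 := by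
    simpa [Matrix.mul_apply, Fin.sum_univ_three, c10] using congrFun (congrFun hMM 1) 1
  have e22 : M 2 1 * M 1 2 + M 2 2 * M 2 2 = 1 := by
    simpa [Matrix.mul_apply, Fin.sum_univ_three, c20] using congrFun (congrFun hMM 2) 2
  have e12 : M 1 1 * M 1 2 + M 1 2 * M 2 2 = 0 := by
    simpa [Matrix.mul_apply, Fin.sum_univ_three, c10] using congrFun (congrFun hMM 1) 2
  have e21 : M 2 1 * M 1 1 + M 2 2 * M 2 1 = 0 := by
    simpa [Matrix.mul_apply, Fin.sum_univ_three, c20] using congrFun (congrFun hMM 2) 1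
  have ed : M 1 1 * M 2 2 - M 1 2 * M 2 1 = 1 := by
    rw [det_fin_three, c00, c10, c20, c01, c02] at hdet
    linear_combination hdet
  have hs : M 1 1 * (M 1 1 + M 2 2) = 2 := by linear_combination e11 + ed
  have hne : M 1 1 + M 2 2 ≠ 0 := fun h => by rw [h, mul_zero] at hs; exact h2 hs.symm
  have b0 : M 1 2 = 0 := (mul_eq_zero.1 (show M 1 2 * (M 1 1 + M 2 2) = 0 by linear_combination e12)).resolve_right hne
  have b1 : M 2 1 = 0 := (mul_eq_zero.1 (show M 2 1 * (M 1 1 + M 2 2) = 0 by linear_combination e21)).resolve_right hne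
  have haa : M 1 1 = 1 ∨ M 1 1 = -1 := mul_self_eq_one_iff.1 (by linear_combination e11 - (M 2 1) * b0)
  have had : M 2 2 = M 1 1 := by
    rcases haa with h | h
    · rw [h] at ed ⊢; linear_combination ed + (M 2 1) * b0
    · rw [h] at ed ⊢; linear_combination -ed - (M 2 1) * b0
  refine su_ext fun w => ?_
  obtain ⟨x, rfl⟩ := gu_surj g w
  rw [rv_apply, ← hgM]
  dsimp only
  rw [show 𝐡 (g.1.val *ᵥ x) v = x 0 by rw [← hg, coord_zero hF]]
  rcases haa with h | h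
  · exfalso
    apply ht
    refine su_ext fun w => ?_
    obtain ⟨x, rfl⟩ := gu_surj g w
    have : M *ᵥ x = x := by
      ext i; fin_cases i <;>
        simp [mulVec, dotProduct, Fin.sum_univ_three, c00, c01, c02, c10, c20, b0, b1, had, h]
    rw [← hgM, this]; simp
  · have : M *ᵥ x = -x + (2 * x 0) • Pi.single 0 1 := by
      ext i; fin_cases i <;>
        simp [mulVec, dotProduct, Fin.sum_univ_three, c00, c01, c02, c10, c20, b0, b1, had, h]
      ring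
    rw [this, mulVec_add, mulVec_neg, mulVec_smul, hg]

theorem rv_eq_iff (v w : {v : Fin 3 → F // 𝐡 v v = 1}) :
    rv hq hF v = rv hq hF w ↔ ∃ μ : F, w.1 = μ • v.1 := by
  constructor
  · intro h
    refine ⟨𝐡 w.1 v.1, ?_⟩
    have h1 := rv_apply hq hF v w.1
    rw [h, rv_self] at h1
    apply smul_right_injective _ (two_ne_zero_of_odd hq hF)
    show (2 : F) • w.1 = (2 : F) • (𝐡 w.1 v.1 • v.1)
    rw [smul_smul, two_smul]
    nth_rewrite 1 [h1]
    abel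
  · rintro ⟨μ, hμ⟩
    have hn : μ ^ (q + 1) = 1 := by rw [← hsmul_self (c := μ) v.2, ← hμ]; exact w.2
    refine su_ext fun x => ?_
    rw [rv_apply, rv_apply, hμ, hermForm_smul_right, smul_smul]
    congr 2
    linear_combination (-(2 * 𝐡 x v.1)) * hn

theorem commute_iff (v w : {v : Fin 3 → F // 𝐡 v v = 1}) :
    Commute (rv hq hF v) (rv hq hF w) ↔ 𝐡 w.1 v.1 = 0 ∨ ∃ μ : F, w.1 = μ • v.1 := by
  constructor
  · intro h
    by_cases ha : 𝐡 w.1 v.1 = 0
    · exact Or.inl ha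
    right
    have h1 : (rv hq hF w).1.1 *ᵥ ((rv hq hF v).1.1 *ᵥ w.1) = (rv hq hF v).1.1 *ᵥ w.1 := by
      rw [← su_mul_apply, ← h.eq, su_mul_apply, rv_self]
    set y := (rv hq hF v).1.1 *ᵥ w.1 with hy
    rw [rv_apply] at h1
    have h3 : (2 : F) • y = (2 * 𝐡 y w.1) • w.1 := by
      rw [two_smul]; nth_rewrite 1 [← h1]; abel
    rw [hy, rv_apply] at h3
    set a := 𝐡 w.1 v.1
    set b := 𝐡 ((rv hq hF v).1.1 *ᵥ w.1) w.1
    have h4 : (-w.1 + (2 * 𝐡 w.1 v.1) • v.1 : Fin 3 → F) = 𝐡 (-w.1 + (2 * 𝐡 w.1 v.1) • v.1) w.1 • w.1 := by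
      apply smul_right_injective _ (two_ne_zero_of_odd hq hF)
      show (2 : F) • _ = (2 : F) • _
      rw [h3, smul_smul]
    generalize 𝐡 (-w.1 + (2 * 𝐡 w.1 v.1) • v.1) w.1 = c at h4
    have h5 : (2 * a) • v.1 = (c + 1) • w.1 := by rw [add_smul, one_smul, ← h4]; abel
    have h6 : c + 1 ≠ 0 := by
      intro hc
      rw [hc, zero_smul] at h5
      rcases smul_eq_zero.1 h5 with h' | h'
      · exact mul_ne_zero (two_ne_zero_of_odd hq hF) ha h'
      · have := v.2; rw [h'] at this; simp [Cfsg.hermForm] at this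
    exact ⟨(c + 1)⁻¹ * (2 * a), by rw [mul_smul, h5, smul_smul, inv_mul_cancel₀ h6, one_smul]⟩
  · rintro (h | h)
    · have h' : 𝐡 v.1 w.1 = 0 := by
        rw [hermForm_symm hF 3 w.1 v.1, h, zero_pow (by have := herm_two_le hF; omega)]
      refine su_ext fun x => ?_
      rw [su_mul_apply, su_mul_apply, rv_apply, rv_apply, rv_apply, rv_apply, hermForm_add_left, hermForm_add_left,
        ← neg_one_smul F x, hsmul_left, hsmul_left, hsmul_left, hsmul_left, h, h']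
      module
    · rw [← (rv_eq_iff hq hF v w).2 h]

theorem not_smul_of_perp {v w : {v : Fin 3 → F // 𝐡 v v = 1}} (h : 𝐡 w.1 v.1 = 0) :
    rv hq hF w ≠ rv hq hF v := by
  intro he
  obtain ⟨μ, hμ⟩ := (rv_eq_iff hq hF v w).1 he.symm
  rw [hμ, hsmul_left, v.2, mul_one] at h
  have := w.2
  rw [hμ, h, zero_smul] at this
  simp [Cfsg.hermForm] at this

include hq

/-- Involutions with a property correspond to norm one vectors, `q + 1` to one. -/
theorem card_inv_mul (P : Cfsg.SU 3 F q → Prop) :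
    Nat.card {x : Cfsg.SU 3 F q // x ≠ 1 ∧ x * x = 1 ∧ P x} * (q + 1) =
      Nat.card {v : {v : Fin 3 → F // 𝐡 v v = 1} // P (rv hq hF v)} := by
  classical
  let f : {v : {v : Fin 3 → F // 𝐡 v v = 1} // P (rv hq hF v)} → {x : Cfsg.SU 3 F q // x ≠ 1 ∧ x * x = 1 ∧ P x} :=
    fun v => ⟨rv hq hF v.1, rv_ne_one hq hF v.1, rv_mul_self hq hF v.1, v.2⟩
  have hfib : ∀ x, Nat.card {v // f v = x} = q + 1 := by
    rintro ⟨x, hx1, hx2, hPx⟩
    obtain ⟨v0, rfl⟩ := exists_eq_rv hq hF x hx1 hx2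
    rw [← card_pow_succ_eq hF, ← Fintype.card_subtype, ← Nat.card_eq_fintype_card]
    refine (Nat.card_congr (Equiv.ofBijective
      (fun μ : {μ : F // μ ^ (q + 1) = 1} => (⟨⟨⟨μ.1 • v0.1, by rw [hsmul_self v0.2, μ.2]⟩, ?_⟩, ?_⟩ :
        {v // f v = _})) ⟨fun a b h => ?_, fun v => ?_⟩)).symm
    · rw [← (rv_eq_iff hq hF v0 _).2 ⟨μ.1, rfl⟩]; exact hPx
    · exact Subtype.ext ((rv_eq_iff hq hF v0 _).2 ⟨μ.1, rfl⟩).symm
    · have h' : a.1 • v0.1 = b.1 • v0.1 := congrArg (fun z => z.1.1.1) h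
      refine Subtype.ext (smul_left_injective F (fun h0 => ?_) h')
      have := v0.2; rw [h0] at this; simp [Cfsg.hermForm] at this
    · obtain ⟨μ, hμ⟩ := (rv_eq_iff hq hF v0 v.1.1).1 (congrArg Subtype.val v.2).symm
      exact ⟨⟨μ, by rw [← hsmul_self (c := μ) v0.2, ← hμ]; exact v.1.1.2⟩,
        Subtype.ext (Subtype.ext (Subtype.ext hμ.symm))⟩
  rw [← Nat.card_congr (Equiv.sigmaFiberEquiv f), Nat.card_sigma, Finset.sum_congr rfl (fun x _ => hfib x),
    Finset.sum_const, smul_eq_mul, Finset.card_univ, Nat.card_eq_fintype_card]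

theorem card_involutions : Nat.card {x : Cfsg.SU 3 F q // x ≠ 1 ∧ x * x = 1} = q ^ 2 * (q ^ 2 - q + 1) := by
  have h := card_inv_mul hq hF fun _ => True
  rw [Nat.card_congr (Equiv.subtypeEquivRight fun x => by simp :
      {x : Cfsg.SU 3 F q // x ≠ 1 ∧ x * x = 1 ∧ True} ≃ {x : Cfsg.SU 3 F q // x ≠ 1 ∧ x * x = 1}),
    Nat.card_congr (Equiv.subtypeUnivEquiv fun _ => trivial :
      {v : {v : Fin 3 → F // 𝐡 v v = 1} // True} ≃ {v : Fin 3 → F // 𝐡 v v = 1}),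
    herm_count_one hF 2, if_pos (by decide)] at h
  apply Nat.eq_of_mul_eq_mul_right (show 0 < q + 1 by omega)
  rw [h]
  have : q ≤ q ^ 2 := Nat.le_self_pow two_ne_zero q
  zify [this]
  ring

theorem exists_conj_inv (x y : Cfsg.SU 3 F q) (hx : x ≠ 1) (hx2 : x * x = 1) (hy : y ≠ 1) (hy2 : y * y = 1) :
    ∃ g : Cfsg.SU 3 F q, g * x * g⁻¹ = y := by
  obtain ⟨v, rfl⟩ := exists_eq_rv hq hF x hx hx2
  obtain ⟨w, rfl⟩ := exists_eq_rv hq hF y hy hy2
  obtain ⟨g, hg⟩ := exists_GU_map_norm_one hF _ _ v.2 w.2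
  have hd : (g.1.val.det)⁻¹ ^ (q + 1) = 1 := by
    have := congrArg Units.val (GU_det_pow hF g)
    rw [Units.val_pow_eq_pow_val, GeneralLinearGroup.val_det_apply, Units.val_one] at this
    rw [inv_pow, this, inv_one]
  obtain ⟨R, hR, hRfix⟩ := CfsgLib.UnitaryEmbed.exists_quasiReflection hF v.1 (by rw [v.2]; exact one_ne_zero) _ hd
  have hdet : (g * R).1.val.det = 1 := by
    rw [Subgroup.coe_mul, Units.val_mul, det_mul, hR, mul_inv_cancel₀]
    intro h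
    rw [h, _root_.inv_zero, zero_pow (by omega)] at hd
    exact zero_ne_one hd
  obtain ⟨s, hs⟩ := exists_SU_of_GU (g * R) hdet
  refine ⟨s, ?_⟩
  have hRv : ∃ c : F, R.1.val *ᵥ v.1 = c • v.1 := by
    refine ⟨𝐡 (R.1.val *ᵥ v.1) v.1, ?_⟩
    rw [← sub_eq_zero]
    set z := R.1.val *ᵥ v.1 - 𝐡 (R.1.val *ᵥ v.1) v.1 • v.1
    have hz : 𝐡 z v.1 = 0 := by rw [hermForm_sub_left, hsmul_left, v.2, mul_one, sub_self]
    have h1 : 𝐡 z z = 0 := by
      rw [hermForm_sub_left, hsmul_left, hermForm_symm hF 3 z v.1, hz, zero_pow (by have := herm_two_le hF; omega),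
        mul_zero, sub_zero]
      conv_lhs => rw [← hRfix z hz, mem_GU_iff.1 R.2]
      rw [hermForm_symm hF 3 z v.1, hz, zero_pow (by have := herm_two_le hF; omega)]
    funext i
    have h : 𝐡 z (Pi.single i 1) = 0 := by
      have e : Pi.single i 1 = (Pi.single i 1 - 𝐡 (Pi.single i 1) v.1 • v.1) + 𝐡 (Pi.single i 1) v.1 • v.1 := by
        abel
      set p := Pi.single i 1 - 𝐡 (Pi.single i 1) v.1 • v.1
      have hp : 𝐡 p v.1 = 0 := by rw [hermForm_sub_left, hsmul_left, v.2, mul_one, sub_self]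
      rw [e, hermForm_add_right hF, hermForm_smul_right, hz, mul_zero, add_zero, hermForm_sub_left, hsmul_left]
      conv_lhs => rw [← hRfix p hp, mem_GU_iff.1 R.2, hRfix p hp]
      rw [hermForm_symm hF 3 p v.1, hp, zero_pow (by have := herm_two_le hF; omega)]
      ring
    rwa [hermForm_single_right hF] at h
  obtain ⟨c, hc⟩ := hRv
  have hsv : s.1.1 *ᵥ v.1 = c • w.1 := by
    rw [hs, Subgroup.coe_mul, Units.val_mul, ← mulVec_mulVec, hc, mulVec_smul, hg]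
  rw [mul_inv_eq_iff_eq_mul]
  refine su_ext fun x => ?_
  rw [su_mul_apply, su_mul_apply, rv_apply, rv_apply, mulVec_add, mulVec_neg, mulVec_smul, hsv, smul_smul]
  have hcn : c ^ (q + 1) = 1 := by
    have h : 𝐡 (s.1.1 *ᵥ v.1) (s.1.1 *ᵥ v.1) = 𝐡 v.1 v.1 := s.2 v.1 v.1
    rwa [hsv, hsmul_self w.2, v.2] at h
  have hxv : 𝐡 x v.1 = c ^ q * 𝐡 (s.1.1 *ᵥ x) w.1 := by
    rw [← hermForm_smul_right, ← hsv]; exact (s.2 x v.1).symm
  rw [hxv]
  congr 2
  linear_combination (2 * 𝐡 (s.1.1 *ᵥ x) w.1) * hcn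

theorem card_centralizer (t : Cfsg.SU 3 F q) (ht : t ≠ 1) (ht2 : t * t = 1) :
    Nat.card (Subgroup.centralizer ({t} : Set (Cfsg.SU 3 F q))) = q * (q + 1) * (q ^ 2 - 1) := by
  have h := natCard_eq_image_mul (Subgroup.centralizer ({t} : Set (Cfsg.SU 3 F q))) (fun g => g * t * g⁻¹)
    {x | x ≠ 1 ∧ x * x = 1} (fun a b => ?_) (fun g => ⟨fun h => ht (conj_eq_one_iff.1 h), ?_⟩)
    (fun x hx => exists_conj_inv hq hF t x ht ht2 hx.1 hx.2)
  · rw [show Nat.card ↥{x : Cfsg.SU 3 F q | x ≠ 1 ∧ x * x = 1} = _ from card_involutions hq hF] at h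
    have hsu := card_SU_mul hF (n := 3) (by norm_num)
    have hgu : Nat.card (Cfsg.GU 3 F q) = q ^ 3 * ((q + 1) * (q ^ 2 - 1) * (q ^ 3 + 1)) := by
      rw [card_GU hF]; simp [Finset.prod_range_succ, Nat.even_iff]
    have : q ≤ q ^ 2 := Nat.le_self_pow two_ne_zero q
    have h3 : q ^ 3 + 1 = (q + 1) * (q ^ 2 - q + 1) := by zify [this]; ring
    rw [hgu, h, h3] at hsu
    have hq' := herm_two_le hF
    apply Nat.eq_of_mul_eq_mul_left (show 0 < (q + 1) * (q ^ 2 * (q ^ 2 - q + 1)) by positivity)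
    rw [mul_assoc, hsu]
    ring
  · rw [Subgroup.mem_centralizer_singleton_iff]
    constructor
    · intro h
      calc a⁻¹ * b * t = a⁻¹ * (b * t * b⁻¹) * b := by group
        _ = a⁻¹ * (a * t * a⁻¹) * b := by rw [← h]
        _ = t * (a⁻¹ * b) := by group
    · intro h
      calc a * t * a⁻¹ = a * (t * (a⁻¹ * b)) * b⁻¹ := by group
        _ = a * (a⁻¹ * b * t) * b⁻¹ := by rw [h]
        _ = b * t * b⁻¹ := by group
  · rw [conj_mul, ht2, mul_one, mul_inv_cancel]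

omit hq in
/-- A second involution commuting with two commuting ones is unique. -/
theorem eq_of_perp {v w u u' : Fin 3 → F} (hv : 𝐡 v v = 1) (hu : 𝐡 u u = 1) (hw : 𝐡 w w = 1)
    (hwv : 𝐡 w v = 0) (h1 : 𝐡 u v = 0) (h2 : 𝐡 u w = 0) (h3 : 𝐡 u' v = 0) (h4 : 𝐡 u' w = 0) :
    ∃ μ : F, u' = μ • u := by
  obtain ⟨g, hg⟩ := exists_perp hF ⟨v, hv⟩
  simp only at hg
  subst hg
  obtain ⟨c, rfl⟩ := gu_surj g w
  obtain ⟨d, rfl⟩ := gu_surj g u
  obtain ⟨e, rfl⟩ := gu_surj g u'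
  rw [coord_zero hF] at hwv h1 h3
  rw [mem_GU_iff.1 g.2] at hu hw h2 h4
  simp only [Cfsg.hermForm, Fin.sum_univ_three, hwv, h1, h3, zero_mul, zero_add, ← hermConj_apply hF,
    map_zero, mul_zero] at hu hw h2 h4
  have key : d 1 * e 2 - d 2 * e 1 = 0 := by
    linear_combination (-(d 1 * e 2 - d 2 * e 1)) * hw + (e 2 * c 1 - e 1 * c 2) * h2 -
      (d 2 * c 1 - d 1 * c 2) * h4
  refine ⟨e 1 * hermConj hF (d 1) + e 2 * hermConj hF (d 2), ?_⟩
  rw [← mulVec_smul]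
  congr 1
  ext i
  fin_cases i
  · simp [h1, h3]
  · simp only [Fin.mk_one, Pi.smul_apply, smul_eq_mul]
    linear_combination (-e 1) * hu - hermConj hF (d 2) * key
  · simp only [Pi.smul_apply, smul_eq_mul]
    show e 2 = _ * d 2
    linear_combination (-e 2) * hu + hermConj hF (d 1) * key

omit hq in
/-- Two points with nondegenerate span have a common perpendicular. -/
theorem exists_common {v w : Fin 3 → F} (hv : 𝐡 v v = 1) (hw : 𝐡 w w = 1) (hne : (𝐡 w v) ^ (q + 1) ≠ 1) :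
    ∃ u, 𝐡 u u = 1 ∧ 𝐡 u v = 0 ∧ 𝐡 u w = 0 := by
  obtain ⟨g, hg⟩ := exists_perp hF ⟨v, hv⟩
  simp only at hg
  subst hg
  obtain ⟨c, rfl⟩ := gu_surj g w
  rw [coord_zero hF] at hne
  rw [mem_GU_iff.1 g.2] at hw
  set N : F := c 1 * c 1 ^ q + c 2 * c 2 ^ q with hN
  have hw' : c 0 * c 0 ^ q + N = 1 := by
    rw [hN, ← add_assoc]; simpa [Cfsg.hermForm, Fin.sum_univ_three] using hw
  have hN0 : N ≠ 0 := fun h => hne (by rw [pow_succ']; linear_combination hw' - h)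
  have hNq : N ^ q = N := by
    rw [hN, ← hermConj_apply hF, map_add, map_mul, map_mul, hermConj_apply, hermConj_apply, hermConj_apply,
      hermConj_apply, hermConj_conj hF, hermConj_conj hF]
    ring
  obtain ⟨s, hs0, hs⟩ := exists_norm_eq hF hNq hN0
  refine ⟨g.1.val *ᵥ (s⁻¹ • ![0, c 2 ^ q, -(c 1 ^ q)]), ?_, ?_, ?_⟩
  · rw [mem_GU_iff.1 g.2, hermForm_smul_left, hermForm_smul_right, ← mul_assoc, ← pow_succ', inv_pow, hs]
    simp [Cfsg.hermForm, Fin.sum_univ_three, herm_conj_neg hF, hermConj_conj hF]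
    field_simp
    rw [hN]; ring
  · rw [coord_zero hF]; simp
  · rw [mem_GU_iff.1 g.2, hermForm_smul_left]
    simp [Cfsg.hermForm, Fin.sum_univ_three]
    exact Or.inr (by ring)

omit hq in
/-- No common perpendicular when the span is degenerate. -/
theorem no_common {v w u : Fin 3 → F} (hv : 𝐡 v v = 1) (hw : 𝐡 w w = 1) (hu : 𝐡 u u = 1)
    (hN : (𝐡 w v) ^ (q + 1) = 1) (h1 : 𝐡 u v = 0) (h2 : 𝐡 u w = 0) : ∃ μ : F, w = μ • v := by
  obtain ⟨g, hg⟩ := exists_perp hF ⟨v, hv⟩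
  simp only at hg
  subst hg
  obtain ⟨c, rfl⟩ := gu_surj g w
  obtain ⟨d, rfl⟩ := gu_surj g u
  rw [coord_zero hF] at hN h1
  rw [mem_GU_iff.1 g.2] at hw hu h2
  have h2' : 𝐡 c d = 0 := by rw [hermForm_symm hF 3 d c, h2, zero_pow (by have := herm_two_le hF; omega)]
  simp only [Cfsg.hermForm, Fin.sum_univ_three, h1, zero_mul, zero_add, ← hermConj_apply hF,
    map_zero, mul_zero] at hu hw h2 h2'
  have hcc : c 1 * hermConj hF (c 1) + c 2 * hermConj hF (c 2) = 0 := by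
    rw [pow_succ', ← hermConj_apply hF] at hN; linear_combination hw - hN
  set s := c 1 * d 2 - c 2 * d 1 with hs
  have hnorm : s * hermConj hF s = 0 := by
    simp only [hs, map_sub, map_mul]
    linear_combination (d 1 * hermConj hF (d 1) + d 2 * hermConj hF (d 2)) * hcc -
      (c 1 * hermConj hF (d 1) + c 2 * hermConj hF (d 2)) * h2
  have hs0 : s = 0 := by
    rcases mul_eq_zero.1 hnorm with h | h
    · exact h
    · exact (map_eq_zero (hermConj hF)).1 h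
  have a1 : c 1 = 0 := by linear_combination (-(c 1)) * hu + d 1 * h2' + hermConj hF (d 2) * hs0
  have a2 : c 2 = 0 := by linear_combination (-(c 2)) * hu + d 2 * h2' - hermConj hF (d 1) * hs0
  refine ⟨c 0, ?_⟩
  rw [← mulVec_smul]
  congr 1
  ext i
  fin_cases i <;> simp [a1, a2]

theorem card_commuting (t : Cfsg.SU 3 F q) (ht : t ≠ 1) (ht2 : t * t = 1) :
    Nat.card {x : Cfsg.SU 3 F q // x ≠ 1 ∧ x * x = 1 ∧ x ≠ t ∧ Commute t x} = q * (q - 1) := by
  obtain ⟨v, rfl⟩ := exists_eq_rv hq hF t ht ht2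
  obtain ⟨g, hg⟩ := exists_perp hF v
  apply Nat.eq_of_mul_eq_mul_right (show 0 < q + 1 by omega)
  rw [card_inv_mul hq hF fun x => x ≠ rv hq hF v ∧ Commute (rv hq hF v) x]
  have key : ∀ w, (rv hq hF w ≠ rv hq hF v ∧ Commute (rv hq hF v) (rv hq hF w)) ↔ 𝐡 w.1 v.1 = 0 := by
    intro w
    rw [commute_iff]
    refine ⟨fun ⟨h1, h2⟩ => h2.resolve_right fun h => h1 ((rv_eq_iff hq hF v w).2 h).symm,
      fun h => ⟨not_smul_of_perp hq hF h, Or.inl h⟩⟩
  rw [Nat.card_congr (Equiv.subtypeEquivRight key)]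
  have hq' := herm_two_le hF
  rw [show q * (q - 1) * (q + 1) = q ^ 1 * (q ^ (1 + 1) - 1) by
    have : 1 ≤ q ^ (1 + 1) := Nat.one_le_pow _ _ (by omega)
    zify [this, show 1 ≤ q by omega]; ring]
  rw [show q ^ 1 * (q ^ (1 + 1) - 1) = Nat.card {y : Fin 2 → F // Cfsg.hermForm 2 F q y y = 1} by
    rw [herm_count_one hF 1, if_neg (by decide)]]
  refine (Nat.card_congr (Equiv.ofBijective (fun y : {y : Fin 2 → F // Cfsg.hermForm 2 F q y y = 1} =>
    (⟨⟨g.1.val *ᵥ Fin.cons 0 y.1, ?_⟩, ?_⟩ : {w : {w : Fin 3 → F // 𝐡 w w = 1} // 𝐡 w.1 v.1 = 0}))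
    ⟨fun a b h => ?_, fun w => ?_⟩)).symm
  · rw [mem_GU_iff.1 g.2, hermForm_cons, zero_mul, zero_add, y.2]
  · show 𝐡 (g.1.val *ᵥ Fin.cons 0 y.1) v.1 = 0
    rw [← hg, coord_zero hF]; simp
  · have h' : (Fin.cons 0 a.1 : Fin 3 → F) = Fin.cons 0 b.1 := gu_inj g (congrArg (fun z => z.1.1) h)
    exact Subtype.ext (funext fun i : Fin 2 => by simpa using congrFun h' i.succ)
  · obtain ⟨x, hx⟩ := gu_surj g w.1.1
    have hx0 : x 0 = 0 := by rw [← coord_zero hF g x, hx, hg]; exact w.2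
    have hcons : (Fin.cons 0 (Fin.tail x) : Fin 3 → F) = x := by rw [← hx0, Fin.cons_self_tail]
    refine ⟨⟨Fin.tail x, ?_⟩, Subtype.ext (Subtype.ext (by simp [hcons, hx]))⟩
    have h := w.1.2
    rwa [← hx, mem_GU_iff.1 g.2, ← hcons, hermForm_cons, zero_mul, zero_add] at h

/-- The "far" involutions are those whose points span a degenerate line with the given one. -/
theorem far_iff (v w : {v : Fin 3 → F // 𝐡 v v = 1}) :
    (¬ Commute (rv hq hF v) (rv hq hF w) ∧ ∀ y : Cfsg.SU 3 F q, y ≠ 1 → y * y = 1 →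
      ¬ (Commute (rv hq hF v) y ∧ Commute y (rv hq hF w))) ↔
    ((𝐡 w.1 v.1) ^ (q + 1) = 1 ∧ ¬ ∃ μ : F, w.1 = μ • v.1) := by
  rw [commute_iff, not_or]
  constructor
  · rintro ⟨⟨h0, hμ⟩, hall⟩
    refine ⟨?_, hμ⟩
    by_contra hne
    obtain ⟨u, hu, hu1, hu2⟩ := exists_common hF v.2 w.2 hne
    refine hall _ (rv_ne_one hq hF ⟨u, hu⟩) (rv_mul_self hq hF _) ⟨?_, ?_⟩
    · rw [commute_iff]; exact Or.inl hu1
    · exact ((commute_iff hq hF w ⟨u, hu⟩).2 (Or.inl hu2)).symm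
  · rintro ⟨hN, hμ⟩
    have h0 : 𝐡 w.1 v.1 ≠ 0 := fun h => by rw [h, zero_pow (by omega)] at hN; exact zero_ne_one hN
    refine ⟨⟨h0, hμ⟩, fun y hy hy2 ⟨c1, c2⟩ => ?_⟩
    obtain ⟨u, rfl⟩ := exists_eq_rv hq hF y hy hy2
    rcases (commute_iff hq hF v u).1 c1 with hu1 | hu1
    · rcases (commute_iff hq hF w u).1 c2.symm with hu2 | hu2
      · exact hμ (no_common hF v.2 w.2 u.2 hN hu1 hu2)
      · obtain ⟨s, hs⟩ := hu2
        rw [hs, hsmul_left] at hu1
        have hs0 : s ≠ 0 := fun h => by have := u.2; rw [hs, h, zero_smul] at this; simp [Cfsg.hermForm] at this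
        exact h0 ((mul_eq_zero.1 hu1).resolve_left hs0)
    · rw [← (rv_eq_iff hq hF v u).2 hu1, commute_iff] at c2
      exact c2.elim h0 hμ

theorem card_far (t : Cfsg.SU 3 F q) (ht : t ≠ 1) (ht2 : t * t = 1) :
    Nat.card {x : Cfsg.SU 3 F q // x ≠ 1 ∧ x * x = 1 ∧ ¬ Commute t x ∧
      ∀ y : Cfsg.SU 3 F q, y ≠ 1 → y * y = 1 → ¬ (Commute t y ∧ Commute y x)} = (q + 1) * (q ^ 2 - 1) := by
  classical
  obtain ⟨v, rfl⟩ := exists_eq_rv hq hF t ht ht2
  obtain ⟨g, hg⟩ := exists_perp hF v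
  apply Nat.eq_of_mul_eq_mul_right (show 0 < q + 1 by omega)
  rw [card_inv_mul hq hF fun x => ¬ Commute (rv hq hF v) x ∧
      ∀ y : Cfsg.SU 3 F q, y ≠ 1 → y * y = 1 → ¬ (Commute (rv hq hF v) y ∧ Commute y x),
    Nat.card_congr (Equiv.subtypeEquivRight (far_iff hq hF v))]
  have hcount : Nat.card {y : Fin 2 → F // Cfsg.hermForm 2 F q y y = 0 ∧ y ≠ 0} = (q + 1) * (q ^ 2 - 1) := by
    have h := herm_count_zero hF 1
    rw [if_neg (by decide), pow_one] at h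
    have h' : Nat.card {y : Fin 2 → F // Cfsg.hermForm 2 F q y y = 0 ∧ y ≠ 0} + 1 =
        Nat.card {y : Fin 2 → F // Cfsg.hermForm 2 F q y y = 0} := by
      rw [Nat.card_eq_fintype_card, Nat.card_eq_fintype_card, Fintype.card_subtype, Fintype.card_subtype,
        ← Finset.filter_filter, Finset.filter_ne', Finset.card_erase_of_mem (by simp [Cfsg.hermForm])]
      have : 0 < (Finset.univ.filter fun y : Fin 2 → F => Cfsg.hermForm 2 F q y y = 0).card :=
        Finset.card_pos.2 ⟨0, by simp [Cfsg.hermForm]⟩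
      omega
    rw [h] at h'
    rw [mul_comm (q + 1)]
    exact Nat.add_right_cancel h'
  rw [show (q + 1) * (q ^ 2 - 1) * (q + 1) =
    Nat.card ({μ : F // μ ^ (q + 1) = 1} × {y : Fin 2 → F // Cfsg.hermForm 2 F q y y = 0 ∧ y ≠ 0}) by
      rw [Nat.card_prod, hcount, Nat.card_eq_fintype_card, Fintype.card_subtype, card_pow_succ_eq hF]; ring]
  refine (Nat.card_congr (Equiv.ofBijective
    (fun p : {μ : F // μ ^ (q + 1) = 1} × {y : Fin 2 → F // Cfsg.hermForm 2 F q y y = 0 ∧ y ≠ 0} =>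
      (⟨⟨g.1.val *ᵥ Fin.cons p.1.1 p.2.1, ?_⟩, ?_⟩ : {w : {w : Fin 3 → F // 𝐡 w w = 1} //
        (𝐡 w.1 v.1) ^ (q + 1) = 1 ∧ ¬ ∃ μ : F, w.1 = μ • v.1}))
    ⟨fun a b h => ?_, fun w => ?_⟩)).symm
  · rw [mem_GU_iff.1 g.2, hermForm_cons, p.2.2.1, add_zero, ← pow_succ', p.1.2]
  · refine ⟨?_, ?_⟩
    · show (𝐡 (g.1.val *ᵥ Fin.cons p.1.1 p.2.1) v.1) ^ (q + 1) = 1
      rw [← hg, coord_zero hF, Fin.cons_zero, p.1.2]
    · rintro ⟨μ, hμ⟩
      apply p.2.2.2
      have h' : (Fin.cons p.1.1 p.2.1 : Fin 3 → F) = μ • Pi.single 0 1 := gu_inj g (by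
        rw [mulVec_smul, hg]; exact hμ)
      funext i
      simpa [Fin.succ_ne_zero] using congrFun h' i.succ
  · have h' : (Fin.cons a.1.1 a.2.1 : Fin 3 → F) = Fin.cons b.1.1 b.2.1 := gu_inj g (congrArg (fun z => z.1.1) h)
    refine Prod.ext (Subtype.ext ?_) (Subtype.ext (funext fun i => ?_))
    · simpa using congrFun h' 0
    · simpa using congrFun h' i.succ
  · obtain ⟨x, hx⟩ := gu_surj g w.1.1
    obtain ⟨hN, hμ⟩ := w.2
    have hx0 : 𝐡 w.1.1 v.1 = x 0 := by rw [← hx, ← hg, coord_zero hF]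
    rw [hx0] at hN
    have hw := w.1.2
    rw [← hx, mem_GU_iff.1 g.2, ← Fin.cons_self_tail x, hermForm_cons, ← pow_succ', hN] at hw
    refine ⟨(⟨x 0, hN⟩, ⟨Fin.tail x, by linear_combination hw, fun h => hμ ⟨x 0, ?_⟩⟩),
      Subtype.ext (Subtype.ext (by simp [Fin.cons_self_tail, hx]))⟩
    rw [← hx, ← hg, ← mulVec_smul]
    congr 1
    funext i
    refine Fin.cases ?_ (fun j => ?_) i
    · simp
    · have := congrFun h j
      simp [Fin.tail] at this
      simp [this, Fin.succ_ne_zero]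

theorem card_third (t x : Cfsg.SU 3 F q) (ht : t ≠ 1) (ht2 : t * t = 1) (hx : x ≠ 1) (hx2 : x * x = 1)
    (hxt : x ≠ t) (hc : Commute t x) :
    Nat.card {y : Cfsg.SU 3 F q // y ≠ 1 ∧ y * y = 1 ∧ y ≠ t ∧ y ≠ x ∧ Commute t y ∧ Commute x y} = 1 := by
  obtain ⟨v, rfl⟩ := exists_eq_rv hq hF t ht ht2
  obtain ⟨w, rfl⟩ := exists_eq_rv hq hF x hx hx2
  have hwv : 𝐡 w.1 v.1 = 0 :=
    ((commute_iff hq hF v w).1 hc).resolve_right fun h => hxt ((rv_eq_iff hq hF v w).2 h).symm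
  obtain ⟨u, hu, hu1, hu2⟩ := exists_common hF v.2 w.2 (by rw [hwv, zero_pow (by omega)]; exact zero_ne_one)
  rw [Nat.card_eq_one_iff_exists]
  refine ⟨⟨rv hq hF ⟨u, hu⟩, rv_ne_one hq hF _, rv_mul_self hq hF _, not_smul_of_perp hq hF hu1,
    not_smul_of_perp hq hF hu2, (commute_iff hq hF v ⟨u, hu⟩).2 (Or.inl hu1),
    (commute_iff hq hF w ⟨u, hu⟩).2 (Or.inl hu2)⟩, ?_⟩
  rintro ⟨y, hy, hy2, hyv, hyw, c1, c2⟩
  obtain ⟨u', rfl⟩ := exists_eq_rv hq hF y hy hy2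
  have h3 := ((commute_iff hq hF v u').1 c1).resolve_right fun h => hyv ((rv_eq_iff hq hF v u').2 h).symm
  have h4 := ((commute_iff hq hF w u').1 c2).resolve_right fun h => hyw ((rv_eq_iff hq hF w u').2 h).symm
  exact Subtype.ext ((rv_eq_iff hq hF ⟨u, hu⟩ u').2 (eq_of_perp hF v.2 hu w.2 hwv hu1 hu2 h3 h4)).symm

theorem card_middle (t : Cfsg.SU 3 F q) (ht : t ≠ 1) (ht2 : t * t = 1) :
    Nat.card {x : Cfsg.SU 3 F q // x ≠ 1 ∧ x * x = 1 ∧ ¬ Commute t x ∧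
      ∃ y : Cfsg.SU 3 F q, y ≠ 1 ∧ y * y = 1 ∧ Commute t y ∧ Commute y x} = q * (q - 2) * (q ^ 2 - 1) := by
  classical
  have hA := card_commuting hq hF t ht ht2
  have hC := card_far hq hF t ht ht2
  have hT := card_involutions hq hF
  set I := Finset.univ.filter fun x : Cfsg.SU 3 F q => x ≠ 1 ∧ x * x = 1 with hI
  have eI : ∀ P : Cfsg.SU 3 F q → Prop,
      Nat.card {x : Cfsg.SU 3 F q // x ≠ 1 ∧ x * x = 1 ∧ P x} = (I.filter P).card := by
    intro P
    rw [Nat.card_eq_fintype_card, Fintype.card_subtype, hI, Finset.filter_filter]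
    simp only [and_assoc]
  rw [eI] at hA hC ⊢
  rw [Nat.card_eq_fintype_card, Fintype.card_subtype] at hT
  clear_value I
  have h1 := Finset.card_filter_add_card_filter_not (s := I) (fun x => Commute t x)
  have h2 := Finset.card_filter_add_card_filter_not (s := I.filter fun x => ¬ Commute t x)
    (fun x => ∃ y : Cfsg.SU 3 F q, y ≠ 1 ∧ y * y = 1 ∧ Commute t y ∧ Commute y x)
  rw [Finset.filter_filter, Finset.filter_filter] at h2
  have eC : (I.filter fun x => ¬ Commute t x ∧ ¬ ∃ y : Cfsg.SU 3 F q, y ≠ 1 ∧ y * y = 1 ∧ Commute t y ∧ Commute y x) =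
      I.filter fun x => ¬ Commute t x ∧ ∀ y : Cfsg.SU 3 F q, y ≠ 1 → y * y = 1 → ¬ (Commute t y ∧ Commute y x) := by
    refine Finset.filter_congr fun x _ => ?_
    simp only [not_exists, not_and]
  have hC' : (I.filter fun x => ¬ Commute t x ∧ ¬ ∃ y : Cfsg.SU 3 F q, y ≠ 1 ∧ y * y = 1 ∧ Commute t y ∧ Commute y x).card =
      (q + 1) * (q ^ 2 - 1) := by
    rw [eC]; convert hC
  rw [hC'] at h2
  have e0 : (I.filter fun x => Commute t x).card = q * (q - 1) + 1 := by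
    have hm : t ∈ I.filter fun x => Commute t x := by simp [hI, ht, ht2]
    rw [← Finset.card_erase_add_one hm, ← hA]
    congr 2
    ext x
    simp
    tauto
  rw [e0] at h1
  have hq3 : 3 ≤ q := by
    have := herm_two_le hF
    rcases Nat.lt_or_ge q 3 with h | h
    · obtain rfl : q = 2 := by omega
      exact absurd hq (by decide)
    · exact h
  have e1 : 1 ≤ q ^ 2 := Nat.one_le_pow _ _ (by omega)
  have e2 : q ≤ q ^ 2 := Nat.le_self_pow two_ne_zero q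
  rw [show I.card = q ^ 2 * (q ^ 2 - q + 1) by rw [hI]; exact hT] at h1
  have key : ∀ a b : ℕ, q * (q - 1) + 1 + b = q ^ 2 * (q ^ 2 - q + 1) → a + (q + 1) * (q ^ 2 - 1) = b →
      a = q * (q - 2) * (q ^ 2 - 1) := by
    intro a b h1 h2
    zify [e1, e2, show 2 ≤ q by omega, show 1 ≤ q by omega] at h1 h2 ⊢
    linear_combination h1 + h2
  convert key _ _ h1 h2 using 4

theorem diameter_three (t : Cfsg.SU 3 F q) (ht : t ≠ 1) (ht2 : t * t = 1) (x : Cfsg.SU 3 F q) (hx : x ≠ 1)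
    (hx2 : x * x = 1) : ∃ y z : Cfsg.SU 3 F q, y ≠ 1 ∧ y * y = 1 ∧ z ≠ 1 ∧ z * z = 1 ∧
      Commute t y ∧ Commute y z ∧ Commute z x := by
  obtain ⟨v, rfl⟩ := exists_eq_rv hq hF t ht ht2
  obtain ⟨w, rfl⟩ := exists_eq_rv hq hF x hx hx2
  by_cases hN : (𝐡 w.1 v.1) ^ (q + 1) = 1
  swap
  · obtain ⟨u, hu, hu1, hu2⟩ := exists_common hF v.2 w.2 hN
    exact ⟨rv hq hF ⟨u, hu⟩, rv hq hF ⟨u, hu⟩, rv_ne_one hq hF _, rv_mul_self hq hF _, rv_ne_one hq hF _,
      rv_mul_self hq hF _, (commute_iff hq hF v ⟨u, hu⟩).2 (Or.inl hu1), Commute.refl _,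
      ((commute_iff hq hF w ⟨u, hu⟩).2 (Or.inl hu2)).symm⟩
  obtain ⟨g, hg⟩ := exists_perp hF v
  obtain ⟨c, hc⟩ := gu_surj g w.1
  have hc0 : c 0 ^ (q + 1) = 1 := by rw [← coord_zero hF g c, hc, hg]; exact hN
  have hcn := w.2
  rw [← hc, mem_GU_iff.1 g.2] at hcn
  simp only [Cfsg.hermForm, Fin.sum_univ_three] at hcn
  rw [pow_succ'] at hc0
  obtain ⟨i, hi, hi1⟩ : ∃ i : Fin 3, i ≠ 0 ∧ (c i) ^ (q + 1) ≠ 1 := by
    by_contra hcon
    push Not at hcon
    have a1 := hcon 1 (by decide)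
    have a2 := hcon 2 (by decide)
    rw [pow_succ'] at a1 a2
    exact two_ne_zero_of_odd hq hF (by linear_combination hcn - hc0 - a1 - a2)
  set u : {v : Fin 3 → F // 𝐡 v v = 1} :=
    ⟨g.1.val *ᵥ Pi.single i 1, by rw [mem_GU_iff.1 g.2, hermForm_single_right hF]; simp⟩
  have huv : 𝐡 u.1 v.1 = 0 := by
    show 𝐡 (g.1.val *ᵥ Pi.single i 1) v.1 = 0
    rw [← hg, coord_zero hF]; simp [Ne.symm hi]
  have huw : 𝐡 w.1 u.1 = c i := by
    show 𝐡 w.1 (g.1.val *ᵥ Pi.single i 1) = _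
    rw [← hc, mem_GU_iff.1 g.2, hermForm_single_right hF]
  obtain ⟨z, hz, hz1, hz2⟩ := exists_common hF u.2 w.2 (by rw [huw]; exact hi1)
  exact ⟨rv hq hF u, rv hq hF ⟨z, hz⟩, rv_ne_one hq hF _, rv_mul_self hq hF _, rv_ne_one hq hF _,
    rv_mul_self hq hF _, (commute_iff hq hF v u).2 (Or.inl huv), (commute_iff hq hF u ⟨z, hz⟩).2 (Or.inl hz1),
    ((commute_iff hq hF w ⟨z, hz⟩).2 (Or.inl hz2)).symm⟩

end CfsgLib.SUThreeInv
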