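import Mathlib
import Cfsg.Agent.Lib.ClassicalGroups.UnitaryBasic
import Cfsg.Agent.Lib.UnitaryEmbed.Realify
import Cfsg.Agent.Lib.ClassicalGroups.SLTwoSylow

/-!
`SU₂(q) ≅ SL₂(q)`.
-/

set_option autoImplicit false
set_option linter.unusedSectionVars false

namespace CfsgLib.ClassicalGroups

open Matrix

variable {F K : Type*} [Field F] [Fintype F] [Field K] [Fintype K] {q : ℕ}

theorem su_two_equiv_sl (hF : Fintype.card F = q ^ 2) (hK : Fintype.card K = q) :
    Nonempty (Cfsg.SU 2 F q ≃* SpecialLinearGroup (Fin 2) K) := by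
  classical
  obtain ⟨ι, -⟩ := CfsgLib.UnitaryEmbed.exists_ringHom (K := F) (F := K) hF hK
  have hι : ∀ a : K, ι a ^ q = ι a := fun a => CfsgLib.UnitaryEmbed.iota_pow hK ι a
  obtain ⟨δ, hδ0, hδ⟩ := exists_trace_zero hF
  obtain ⟨e, -, he⟩ := exists_norm_eq hF (c := (-1 : F)) (by rw [herm_conj_neg hF, one_pow])
    (neg_ne_zero.2 one_ne_zero)
  obtain ⟨l, hl, hl2⟩ := exists_norm_one_sq_ne hF
  have he0 : e ≠ 0 := fun h0 => by simp [h0] at he
  rw [pow_succ] at he hl
  obtain ⟨e', he'⟩ : ∃ e', e' = l * e := ⟨_, rfl⟩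
  have he'n : e' ^ q * e' = -1 := by
    rw [he', mul_pow]; linear_combination (e ^ q * e) * hl + he
  have hne : e' - e ≠ 0 := by
    intro h
    have : l = 1 := mul_right_cancel₀ he0 (by rw [one_mul, ← he']; exact sub_eq_zero.1 h)
    exact hl2 (by rw [this, mul_one])
  have hγ : 1 + e * e' ^ q ≠ 0 := by
    intro h
    have h1 : e' ^ q = e ^ q := mul_left_cancel₀ he0 (by linear_combination h - he)
    have h2 := congrArg (· ^ q) h1
    simp only [hermConj_conj hF] at h2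
    exact hne (sub_eq_zero.2 h2)
  obtain ⟨s, hs⟩ : ∃ s, s = (δ / (1 + e * e' ^ q)) ^ q := ⟨_, rfl⟩
  have hs1 : s ^ q * (1 + e * e' ^ q) = δ := by rw [hs, hermConj_conj hF, div_mul_cancel₀ _ hγ]
  have hs2 : s * (1 + e' * e ^ q) = -δ := by
    rw [← hδ, ← hs1, mul_pow, hermConj_conj hF, herm_conj_add hF, one_pow, mul_pow, hermConj_conj hF]
    ring
  have hs0 : s ≠ 0 := hs ▸ pow_ne_zero _ (div_ne_zero hδ0 hγ)
  -- the base change
  let P : GL (Fin 2) F := GeneralLinearGroup.mkOfDetNeZero !![1, s; e, s * e'] (by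
    rw [det_fin_two]
    simp
    intro h
    exact mul_ne_zero hs0 hne (by linear_combination h))
  have hP : ∀ u v : Fin 2 → F, Cfsg.hermForm 2 F q (P.val *ᵥ u) (P.val *ᵥ v) =
      δ * (u 0 * v 1 ^ q - u 1 * v 0 ^ q) := by
    intro u v
    simp [P, Cfsg.hermForm, Fin.sum_univ_two, herm_conj_add hF, mul_pow, Matrix.mulVec, dotProduct]
    linear_combination (u 0 * v 0 ^ q) * he + (u 1 * v 1 ^ q * (s * s ^ q)) * he'n +
      (u 0 * v 1 ^ q) * hs1 + (u 1 * v 0 ^ q) * hs2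
  have hmem : ∀ M : SpecialLinearGroup (Fin 2) K, ∀ u v,
      Cfsg.hermForm 2 F q ((P.val * M.1.map ι * P⁻¹.val) *ᵥ u) ((P.val * M.1.map ι * P⁻¹.val) *ᵥ v) =
        Cfsg.hermForm 2 F q u v := by
    intro M u v
    obtain ⟨u', hu'⟩ : ∃ u', u' = P⁻¹.val *ᵥ u := ⟨_, rfl⟩
    obtain ⟨v', hv'⟩ : ∃ v', v' = P⁻¹.val *ᵥ v := ⟨_, rfl⟩
    have hu : u = P.val *ᵥ u' := by
      rw [hu', Matrix.mulVec_mulVec, ← Units.val_mul, mul_inv_cancel, Units.val_one, Matrix.one_mulVec]
    have hv : v = P.val *ᵥ v' := by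
      rw [hv', Matrix.mulVec_mulVec, ← Units.val_mul, mul_inv_cancel, Units.val_one, Matrix.one_mulVec]
    rw [← Matrix.mulVec_mulVec, ← Matrix.mulVec_mulVec, ← Matrix.mulVec_mulVec, ← Matrix.mulVec_mulVec,
      ← hu', ← hv', hP]
    rw [hu, hv, hP]
    have hd : ι (M.1 0 0) * ι (M.1 1 1) - ι (M.1 0 1) * ι (M.1 1 0) = 1 := by
      rw [← map_mul, ← map_mul, ← map_sub, ← det_fin_two, M.2, map_one]
    simp [Matrix.mulVec, dotProduct, Fin.sum_univ_two, herm_conj_add hF, mul_pow, hι]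
    left
    linear_combination (u' 0 * v' 1 ^ q - u' 1 * v' 0 ^ q) * hd
  let φ : SpecialLinearGroup (Fin 2) K →* Cfsg.SU 2 F q := MonoidHom.mk'
    (fun M => ⟨⟨P.val * M.1.map ι * P⁻¹.val, by
      rw [Matrix.det_mul, Matrix.det_mul, mul_right_comm, ← Matrix.det_mul, ← Units.val_mul,
        mul_inv_cancel, Units.val_one, Matrix.det_one, one_mul, ← RingHom.mapMatrix_apply,
        ← RingHom.map_det, M.2, map_one]⟩, mem_SU_iff.2 (hmem M)⟩)
    (fun M N => Subtype.ext (Subtype.ext (by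
      show P.val * (M.1 * N.1).map ι * P⁻¹.val =
        (P.val * M.1.map ι * P⁻¹.val) * (P.val * N.1.map ι * P⁻¹.val)
      rw [Matrix.map_mul]
      simp only [mul_assoc, Units.inv_mul_cancel_left])))
  have hinj : Function.Injective φ := by
    intro M N h
    have h1 : P.val * M.1.map ι * P⁻¹.val = P.val * N.1.map ι * P⁻¹.val :=
      congrArg (fun g : Cfsg.SU 2 F q => g.1.1) h
    rw [Units.mul_left_inj, Units.mul_right_inj] at h1
    exact Subtype.ext (Matrix.map_injective ι.injective h1)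
  have hcard : Nat.card (SpecialLinearGroup (Fin 2) K) = Nat.card (Cfsg.SU 2 F q) := by
    have hq := herm_two_le hF
    have h := card_SU_mul hF (n := 2) (by norm_num)
    have hev : Even (0 : ℕ) := by simp
    rw [card_GU hF 2, Finset.prod_range_succ, Finset.prod_range_one, if_pos hev,
      if_neg (by decide : ¬Even 1), zero_add, pow_one, show (1 + 1 : ℕ) = 2 from rfl] at h
    rw [slTwo_card, hK]
    refine Nat.eq_of_mul_eq_mul_left (show 0 < q + 1 by omega) ?_
    rw [h, show q ^ 2 - 1 = (q + 1) * (q - 1) by rw [← Nat.sq_sub_sq, one_pow]]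
    ring
  exact ⟨(MulEquiv.ofBijective φ ((Nat.bijective_iff_injective_and_card φ).2 ⟨hinj, hcard⟩)).symm⟩

end CfsgLib.ClassicalGroups
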